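import Cfsg.Agent.PermutationGroups.OnanScott

/-!
# The simple factors of a non-abelian minimal normal subgroup

`Fac N m T e`: `N` is the direct product of the simple groups `T i`, permuted transitively by `G`.

* `exists_fac` : existence for a non-abelian minimal normal subgroup;
* `Fac.conj_coord` : conjugation by an element normalising all the factors, in coordinates;
* `Fac.perm`, `Fac.mem_ker_perm` : the permutation representation on the factors;
* `Fac.scott` : the two cases (product, diagonal) for the intersection of `N` with a point stabiliser.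
-/

set_option autoImplicit false

namespace Cfsg.Agent.H893

open Subgroup Cfsg.Agent.Lib.MinNormal Cfsg.Agent.PermutationGroups.Subdirect
open Cfsg.Agent.PermutationGroups

variable {G : Type*} [Group G]

/-- `N` is the direct product of the non-abelian simple groups `T i`, permuted transitively. -/
structure Fac (N : Subgroup G) (m : ℕ) (T : Fin m → Subgroup G) (e : N ≃* (∀ i, T i)) : Prop where
  pos : 0 < m
  simple : ∀ i, IsSimpleGroup (T i)
  nonab : ∀ i, ∃ a b : T i, a * b ≠ b * a
  inj : Function.Injective T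
  le : ∀ i, T i ≤ N
  norm : ∀ i, N ≤ normalizer (T i : Set G)
  conj : ∀ (g : G) i, ∃ j, T j = (T i).map (MulAut.conj g).toMonoidHom
  trans : ∀ i j, ∃ g : G, T j = (T i).map (MulAut.conj g).toMonoidHom
  single : ∀ i (t : T i), ((e.symm (Pi.mulSingle i t) : N) : G) = t
  coord : ∀ (n : N) i, e n i = 1 ↔ ∀ t ∈ T i, Commute (n : G) t

theorem exists_fac [Finite G] (N : Subgroup G) [N.Normal]
    (hmin : ∀ M : Subgroup G, M.Normal → M ≤ N → M = ⊥ ∨ M = N)
    (hna : ¬ ∀ x ∈ N, ∀ y ∈ N, Commute x y) :
    ∃ (m : ℕ) (T : Fin m → Subgroup G) (e : N ≃* (∀ i, T i)), Fac N m T e := by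
  obtain ⟨m, T, e, h1, h2, h3, h4, h5, h6, h7, h8, h9, h10⟩ :=
    OnanScott.exists_coordinates N hmin hna
  exact ⟨m, T, e, h1, h2, h3, h4, h5, h6, h7, h8, h9, h10⟩

namespace Fac

variable {N : Subgroup G} {m : ℕ} {T : Fin m → Subgroup G} {e : N ≃* (∀ i, T i)}

/-- conjugation on `N` -/
def cj (N : Subgroup G) [N.Normal] (k : G) (n : N) : N :=
  ⟨k * (n : G) * k⁻¹, (inferInstance : N.Normal).conj_mem _ n.2 k⟩

theorem cj_mul [N.Normal] (k : G) (x y : N) : cj N k (x * y) = cj N k x * cj N k y := by
  apply Subtype.ext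
  change k * ((x : G) * (y : G)) * k⁻¹ = (k * (x : G) * k⁻¹) * (k * (y : G) * k⁻¹)
  group

theorem cj_inv [N.Normal] (k : G) (x : N) : cj N k (x⁻¹) = (cj N k x)⁻¹ := by
  apply Subtype.ext
  change k * ((x : G)⁻¹) * k⁻¹ = (k * (x : G) * k⁻¹)⁻¹
  group

theorem cj_cj [N.Normal] (k : G) (x : N) : cj N k (cj N k⁻¹ x) = x := by
  apply Subtype.ext
  change k * (k⁻¹ * (x : G) * k⁻¹⁻¹) * k⁻¹ = x
  group

/-- conjugation by an element normalising all the factors acts coordinatewise -/
theorem conj_coord [N.Normal] (h : Fac N m T e) {k : G} (hk : ∀ i, k ∈ normalizer (T i : Set G))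
    (n : N) (i : Fin m) : ((e (cj N k n) i : T i) : G) = k * ((e n i : T i) : G) * k⁻¹ := by
  classical
  have hk' : ∀ (i : Fin m) (t : T i), k * (t : G) * k⁻¹ ∈ T i := fun i t =>
    (mem_normalizer_iff.mp (hk i) _).mp t.2
  -- the subgroup of those `y` on which the formula holds
  let E : Subgroup (∀ i, T i) :=
    { carrier := {y | ∀ i, ((e (cj N k (e.symm y)) i : T i) : G) = k * ((y i : T i) : G) * k⁻¹}
      one_mem' := by
        intro i
        have : cj N k (e.symm 1) = 1 := by
          apply Subtype.ext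
          simp [cj]
        rw [this, map_one]
        simp
      mul_mem' := by
        intro a b ha hb i
        rw [map_mul, cj_mul, map_mul, Pi.mul_apply, Pi.mul_apply, Subgroup.coe_mul,
          Subgroup.coe_mul, ha i, hb i]
        group
      inv_mem' := by
        intro a ha i
        rw [map_inv, cj_inv, map_inv, Pi.inv_apply, Pi.inv_apply, Subgroup.coe_inv,
          Subgroup.coe_inv, ha i]
        group }
  have hE : ∀ y, y ∈ E := by
    intro y
    apply Subgroup.pi_mem_of_mulSingle_mem
    intro j l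
    have h1 : cj N k (e.symm (Pi.mulSingle j (y j))) =
        e.symm (Pi.mulSingle j ⟨k * (y j : G) * k⁻¹, hk' j (y j)⟩) := by
      apply Subtype.ext
      rw [h.single]
      change k * ((e.symm (Pi.mulSingle j (y j)) : N) : G) * k⁻¹ = _
      rw [h.single]
    rw [h1, MulEquiv.apply_symm_apply]
    by_cases hl : l = j
    · subst hl
      rw [Pi.mulSingle_eq_same, Pi.mulSingle_eq_same]
    · rw [Pi.mulSingle_eq_of_ne hl, Pi.mulSingle_eq_of_ne hl]
      simp
  have := hE (e n) i
  rwa [MulEquiv.symm_apply_apply] at this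

theorem conj_normalizer (k : G) (i j : Fin m) (hij : T j = (T i).map (MulAut.conj k).toMonoidHom)
    (t : G) : t ∈ T i ↔ k * t * k⁻¹ ∈ T j := by
  rw [hij]
  constructor
  · intro ht
    exact ⟨t, ht, rfl⟩
  · rintro ⟨s, hs, hst⟩
    have h1 : k * s * k⁻¹ = k * t * k⁻¹ := hst
    have h2 : s = t := mul_left_cancel (mul_right_cancel h1)
    exact h2 ▸ hs

/-- The permutation of the factors induced by `g`. -/
noncomputable def permFun (h : Fac N m T e) (g : G) (i : Fin m) : Fin m := (h.conj g i).choose

theorem permFun_spec (h : Fac N m T e) (g : G) (i : Fin m) :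
    T (h.permFun g i) = (T i).map (MulAut.conj g).toMonoidHom := (h.conj g i).choose_spec

/-- The permutation representation on the factors. -/
noncomputable def perm (h : Fac N m T e) : G →* Equiv.Perm (Fin m) where
  toFun g :=
    { toFun := h.permFun g
      invFun := h.permFun g⁻¹
      left_inv := fun i => by
        apply h.inj
        rw [h.permFun_spec, h.permFun_spec, map_conj_map_conj, inv_mul_cancel, map_conj_one]
      right_inv := fun i => by
        apply h.inj
        rw [h.permFun_spec, h.permFun_spec, map_conj_map_conj, mul_inv_cancel, map_conj_one] }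
  map_one' := by
    ext i
    have : h.permFun 1 i = i := by
      apply h.inj
      rw [h.permFun_spec, map_conj_one]
    exact congrArg Fin.val this
  map_mul' a b := by
    ext i
    have : h.permFun (a * b) i = h.permFun a (h.permFun b i) := by
      apply h.inj
      rw [h.permFun_spec, h.permFun_spec, h.permFun_spec, map_conj_map_conj]
    exact congrArg Fin.val this

theorem perm_spec (h : Fac N m T e) (g : G) (i : Fin m) :
    T (h.perm g i) = (T i).map (MulAut.conj g).toMonoidHom := h.permFun_spec g i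

theorem mem_ker_perm (h : Fac N m T e) (g : G) :
    g ∈ h.perm.ker ↔ ∀ i, g ∈ normalizer (T i : Set G) := by
  rw [MonoidHom.mem_ker]
  constructor
  · intro hg i
    rw [mem_normalizer_iff_map_conj_eq]
    refine (h.perm_spec g i).symm.trans ?_
    rw [hg]
    rfl
  · intro hg
    ext i
    have h1 : T (h.perm g i) = T i := by
      rw [h.perm_spec]
      exact mem_normalizer_iff_map_conj_eq.mp (hg i)
    exact congrArg Fin.val (h.inj h1)

theorem le_ker_perm (h : Fac N m T e) : N ≤ h.perm.ker := by
  intro n hn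
  rw [h.mem_ker_perm]
  exact fun i => h.norm i hn

/-- coordinates and conjugation -/
theorem cj_eq_one [N.Normal] (h : Fac N m T e) (k : G) (i j : Fin m)
    (hij : T j = (T i).map (MulAut.conj k).toMonoidHom) (n : N) :
    e (cj N k n) j = 1 ↔ e n i = 1 := by
  rw [h.coord, h.coord, hij]
  constructor
  · intro h t ht
    have h1 := h (k * t * k⁻¹) ⟨t, ht, rfl⟩
    have h2 : k * (n : G) * k⁻¹ * (k * t * k⁻¹) = k * t * k⁻¹ * (k * (n : G) * k⁻¹) := h1
    have h3 : k * ((n : G) * t) * k⁻¹ = k * (t * (n : G)) * k⁻¹ := by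
      calc k * ((n : G) * t) * k⁻¹ = k * (n : G) * k⁻¹ * (k * t * k⁻¹) := by group
        _ = k * t * k⁻¹ * (k * (n : G) * k⁻¹) := h2
        _ = k * (t * (n : G)) * k⁻¹ := by group
    exact mul_left_cancel (mul_right_cancel h3)
  · rintro h _ ⟨t, ht, rfl⟩
    exact (h t ht).map (MulAut.conj k)

theorem cj_eq_cj [N.Normal] (h : Fac N m T e) (k : G) (i j : Fin m)
    (hij : T j = (T i).map (MulAut.conj k).toMonoidHom) (x y : N) :
    e (cj N k x) j = e (cj N k y) j ↔ e x i = e y i := by
  have h1 := h.cj_eq_one k i j hij (x * y⁻¹)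
  rw [cj_mul, cj_inv, map_mul, map_mul, map_inv, map_inv, Pi.mul_apply, Pi.mul_apply,
    Pi.inv_apply, Pi.inv_apply, mul_inv_eq_one, mul_inv_eq_one] at h1
  exact h1

/-- The two possibilities for `K ∩ N` where `G = K N` and `K ∩ N` is maximal among the proper
`K`-invariant subgroups of `N`. -/
theorem scott [Finite G] [N.Normal] (h : Fac N m T e) (K : Subgroup G)
    (hKN : ∀ g : G, ∃ n ∈ N, g * n ∈ K) (hNK : ¬ N ≤ K)
    (hmax : ∀ X ≤ N, K ⊓ N ≤ X → K ≤ normalizer (X : Set G) → X = K ⊓ N ∨ X = N) :
    (∀ n : N, (n : G) ∈ K ↔ ∀ i, ((e n i : T i) : G) ∈ K) ∨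
    (∃ c : Fin m → Fin m, (∀ i, c (c i) = c i) ∧ (∀ i, ∃ j, j ≠ i ∧ c j = c i) ∧
      (∀ n : N, (n : G) ∈ K → (∀ i, e n (c i) = 1) → n = 1) ∧
      (∀ x : ∀ i, T i, ∃ n : N, (n : G) ∈ K ∧ ∀ i, e n (c i) = x (c i))) := by
  classical
  have hsimple := h.simple
  have hTna := h.nonab
  -- `K` permutes the factors transitively
  have htransK : ∀ i j, ∃ k ∈ K, T j = (T i).map (MulAut.conj k).toMonoidHom := by
    intro i j
    obtain ⟨g, hg⟩ := h.trans i j
    obtain ⟨n, hn, hgn⟩ := hKN g
    refine ⟨g * n, hgn, ?_⟩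
    have h1 : (T i).map (MulAut.conj n).toMonoidHom = T i :=
      mem_normalizer_iff_map_conj_eq.mp (h.norm i hn)
    rw [← map_conj_map_conj, h1, hg]
  -- the image of `K ⊓ N`
  let M : Subgroup (∀ i, T i) := K.comap (N.subtype.comp e.symm.toMonoidHom)
  have hM : ∀ y, y ∈ M ↔ ((e.symm y : N) : G) ∈ K := fun y => Iff.rfl
  have hM' : ∀ n : N, e n ∈ M ↔ (n : G) ∈ K := by
    intro n
    rw [hM, MulEquiv.symm_apply_apply]
  have hcjM : ∀ k ∈ K, ∀ n : N, (n : G) ∈ K → ((cj N k n : N) : G) ∈ K := fun k hk n hn =>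
    K.mul_mem (K.mul_mem hk hn) (K.inv_mem hk)
  by_cases hsurj : ∀ i, ∀ t : T i, ∃ x ∈ M, x i = t
  · -- all projections are onto
    right
    obtain ⟨c, φ, hcc, hcrel, hφ, hMc⟩ := subdirect_structure hTna M hsurj
    -- the relation is `K`-invariant
    have hcK : ∀ k ∈ K, ∀ i j i' j', T i' = (T i).map (MulAut.conj k).toMonoidHom →
        T j' = (T j).map (MulAut.conj k).toMonoidHom → c i = c j → c i' = c j' := by
      intro k hk i j i' j' hi' hj' hij
      rw [hcrel] at hij ⊢
      intro x hx hxj'
      have hx1 : ((e.symm x : N) : G) ∈ K := hx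
      have hx2 : e (cj N k⁻¹ (e.symm x)) ∈ M := by
        rw [hM']
        exact hcjM _ (K.inv_mem hk) _ hx1
      have h1 : e (cj N k⁻¹ (e.symm x)) j = 1 := by
        rw [← h.cj_eq_one k j j' hj', cj_cj, MulEquiv.apply_symm_apply]
        exact hxj'
      have h2 := hij _ hx2 h1
      rw [← h.cj_eq_one k i i' hi', cj_cj, MulEquiv.apply_symm_apply] at h2
      exact h2
    refine ⟨c, hcc, ?_, ?_, ?_⟩
    · -- no class is a singleton
      by_contra hcon
      push Not at hcon
      obtain ⟨i₀, hi₀⟩ := hcon
      have hinj : Function.Injective c := by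
        intro a b hab
        by_contra hne
        obtain ⟨k, hk, hka⟩ := htransK b i₀
        choose σ hσ using h.conj k
        have hσb : σ b = i₀ := h.inj (by rw [hσ b, hka])
        have h1 : c (σ a) = c (σ b) := hcK k hk a b (σ a) (σ b) (hσ a) (hσ b) hab
        rw [hσb] at h1
        refine hi₀ (σ a) ?_ h1
        intro h2
        apply hne
        apply h.inj
        have h3 := hσ a
        rw [h2, ← hσb, hσ b] at h3
        exact (Subgroup.map_injective (MulAut.conj k).injective h3).symm
      apply hNK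
      have hall : ∀ y, y ∈ M := by
        intro y
        obtain ⟨x, hx, hxy⟩ := exists_mem_eq_on hTna M hsurj Set.univ (by
          intro r _ s _ hne
          by_contra hcon
          push Not at hcon
          exact hne (hinj ((hcrel r s).mpr hcon))) y
        have : x = y := funext fun i => hxy i (Set.mem_univ i)
        exact this ▸ hx
      intro n hn
      have := hall (e ⟨n, hn⟩)
      rwa [hM'] at this
    · intro n hn h1
      have h2 : e n = 1 := by
        funext i
        have h3 := hφ (e n) ((hM' n).mpr hn) i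
        rw [h1 i, map_one] at h3
        exact h3.symm
      exact (map_eq_one_iff e e.injective).mp h2
    · intro x
      obtain ⟨y, hy, hyx⟩ := exists_mem_eq_on hTna M hsurj (Set.range c) (by
        rintro _ ⟨i, rfl⟩ _ ⟨j, rfl⟩ hne
        by_contra hcon
        push Not at hcon
        apply hne
        have h1 : c (c i) = c (c j) := (hcrel _ _).mpr fun x hx h => hcon x hx h
        rwa [hcc, hcc] at h1) x
      exact ⟨e.symm y, hy, fun i => by rw [MulEquiv.apply_symm_apply]; exact hyx _ ⟨i, rfl⟩⟩
  · -- some projection is proper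
    left
    push Not at hsurj
    obtain ⟨i₀, t₀, ht₀⟩ := hsurj
    let P : ∀ i, Subgroup (T i) := fun i => M.map (Pi.evalMonoidHom _ i)
    have hP : ∀ i t, t ∈ P i ↔ ∃ x ∈ M, x i = t := fun i t => Iff.rfl
    -- transfer of membership by conjugation
    have hPK : ∀ k ∈ K, ∀ i j, T j = (T i).map (MulAut.conj k).toMonoidHom →
        ∀ n : N, e n i ∈ P i → e (cj N k n) j ∈ P j := by
      intro k hk i j hij n hn
      obtain ⟨x, hx, hxi⟩ := hn
      refine ⟨e (cj N k (e.symm x)), ?_, ?_⟩
      · change e (cj N k (e.symm x)) ∈ M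
        rw [hM']
        exact hcjM k hk _ hx
      · change e (cj N k (e.symm x)) j = e (cj N k n) j
        rw [h.cj_eq_cj k i j hij, MulEquiv.apply_symm_apply]
        exact hxi
    have hPtop : ∀ i, P i ≠ ⊤ := by
      intro i hi
      obtain ⟨k, hk, hkij⟩ := htransK i i₀
      have h1 := hPK k hk i i₀ hkij (cj N k⁻¹ (e.symm (Pi.mulSingle i₀ t₀)))
        (by rw [hi]; exact mem_top _)
      rw [cj_cj, MulEquiv.apply_symm_apply, Pi.mulSingle_eq_same] at h1
      obtain ⟨x, hx, hxt⟩ := h1
      exact ht₀ x hx hxt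
    -- the product of the projections
    let X' : Subgroup N :=
      { carrier := {n | ∀ i, e n i ∈ P i}
        one_mem' := fun i => by rw [map_one]; exact (P i).one_mem
        mul_mem' := fun {a b} ha hb i => by
          rw [map_mul]; exact (P i).mul_mem (ha i) (hb i)
        inv_mem' := fun {a} ha i => by rw [map_inv]; exact (P i).inv_mem (ha i) }
    have hX'mem : ∀ n, n ∈ X' ↔ ∀ i, e n i ∈ P i := fun n => Iff.rfl
    let X : Subgroup G := X'.map N.subtype
    have hXmem : ∀ n : N, (n : G) ∈ X ↔ ∀ i, e n i ∈ P i := by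
      intro n
      rw [← hX'mem]
      constructor
      · rintro ⟨y, hy, hyn⟩
        have : y = n := Subtype.ext hyn
        exact this ▸ hy
      · intro h
        exact ⟨n, h, rfl⟩
    have hXN : X ≤ N := map_subtype_le X'
    have hKX : K ⊓ N ≤ X := by
      intro x hx
      have h1 : ((⟨x, hx.2⟩ : N) : G) ∈ X := by
        rw [hXmem]
        intro i
        exact ⟨e ⟨x, hx.2⟩, (hM' _).mpr hx.1, rfl⟩
      exact h1
    have hKnX : K ≤ normalizer (X : Set G) := by
      rw [le_normalizer_iff]
      intro k hk x hx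
      have hxN : x ∈ N := hXN hx
      have h1 : ∀ i, e ⟨x, hxN⟩ i ∈ P i := (hXmem ⟨x, hxN⟩).mp hx
      have h2 : ((cj N k ⟨x, hxN⟩ : N) : G) ∈ X := by
        rw [hXmem]
        intro j
        obtain ⟨i, hi⟩ := h.conj k⁻¹ j
        have hij : T j = (T i).map (MulAut.conj k).toMonoidHom := by
          rw [hi, map_conj_map_conj, mul_inv_cancel, map_conj_one]
        exact hPK k hk i j hij _ (h1 i)
      exact h2
    have hXK : X = K ⊓ N := by
      rcases hmax X hXN hKX hKnX with h | h
      · exact h
      · exfalso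
        apply hPtop i₀
        rw [eq_top_iff]
        intro t _
        have h1 : ((e.symm (Pi.mulSingle i₀ t) : N) : G) ∈ X := by
          rw [h]; exact (e.symm (Pi.mulSingle i₀ t) : N).2
        rw [hXmem] at h1
        have h2 := h1 i₀
        rwa [MulEquiv.apply_symm_apply, Pi.mulSingle_eq_same] at h2
    have hmem : ∀ n : N, (n : G) ∈ K ↔ ∀ i, e n i ∈ P i := by
      intro n
      rw [← hXmem, hXK]
      exact ⟨fun h => ⟨h, n.2⟩, fun h => h.1⟩
    have hPi : ∀ i (t : T i), t ∈ P i ↔ (t : G) ∈ K := by
      intro i t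
      have h1 := hmem (e.symm (Pi.mulSingle i t))
      rw [h.single, MulEquiv.apply_symm_apply] at h1
      rw [h1]
      constructor
      · intro ht j
        by_cases hj : j = i
        · subst hj
          rw [Pi.mulSingle_eq_same]; exact ht
        · rw [Pi.mulSingle_eq_of_ne hj]; exact (P j).one_mem
      · intro ht
        have := ht i
        rwa [Pi.mulSingle_eq_same] at this
    intro n
    rw [hmem]
    exact forall_congr' fun i => hPi i _

end Fac

end Cfsg.Agent.H893
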