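import Cfsg.Agent.H893.Fac

/-!
# The socle of a primitive permutation group of prime power degree

`ppow_socle` : either there is a regular abelian normal subgroup, or the group has a non-abelian
minimal normal subgroup `N` with trivial centralizer, which is the direct product of simple groups
`T i`; the point stabilisers in `N` are the products of their intersections with the `T i`, and
these have index a power of `p` larger than one.
-/

set_option autoImplicit false

namespace Cfsg.Agent.H893

open Subgroup MulAction Cfsg.Agent.Lib.MinNormal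

variable {G Ω : Type*} [Group G] [MulAction G Ω]

theorem exists_min_normal' [Finite G] [Nontrivial G] :
    ∃ N : Subgroup G, N.Normal ∧ N ≠ ⊥ ∧
      ∀ M : Subgroup G, M.Normal → M ≤ N → M = ⊥ ∨ M = N := by
  obtain ⟨N, -, h1, h2, h3⟩ := Cfsg.Agent.Lib.MinNormal.exists_minimal_normal_le (⊤ : Subgroup G)
    top_ne_bot
  refine ⟨N, Subgroup.normalizer_eq_top_iff.mp (top_le_iff.mp h2), h1, fun M hM hMN => ?_⟩
  exact h3 M hMN (by rw [Subgroup.normalizer_eq_top_iff.mpr hM])

/-- A non-trivial normal subgroup of a faithful primitive group is transitive, it supplements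
the point stabilisers and is not contained in them. -/
theorem prim_normal [FaithfulSMul G Ω] (hG : IsPreprimitive G Ω) (N : Subgroup G) [N.Normal]
    (hN : N ≠ ⊥) :
    IsPretransitive N Ω ∧ (∀ (a : Ω) (g : G), ∃ n ∈ N, g * n ∈ stabilizer G a) ∧
    (∀ a : Ω, ¬ N ≤ stabilizer G a) := by
  have hfix : fixedPoints N Ω ≠ Set.univ := by
    intro h
    apply hN
    rw [eq_bot_iff]
    intro x hx
    rw [Subgroup.mem_bot]
    apply FaithfulSMul.eq_of_smul_eq_smul (α := Ω)
    intro y
    have hy : y ∈ fixedPoints N Ω := by rw [h]; exact Set.mem_univ y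
    rw [one_smul]
    exact hy ⟨x, hx⟩
  have htr : IsPretransitive N Ω :=
    IsQuasiPreprimitive.isPretransitive_of_normal hfix
  refine ⟨htr, fun a g => ?_, fun a h => ?_⟩
  · obtain ⟨n, hn⟩ := exists_smul_eq N a (g⁻¹ • a)
    refine ⟨n, n.2, ?_⟩
    rw [mem_stabilizer_iff, mul_smul]
    change g • (n • a) = a
    rw [hn, smul_inv_smul]
  · apply hfix
    rw [Set.eq_univ_iff_forall]
    intro y n
    obtain ⟨n', rfl⟩ := exists_smul_eq N a y
    have h1 : (n'⁻¹ * n * n') • a = a := h (n'⁻¹ * n * n' : N).2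
    rw [mul_smul, mul_smul, inv_smul_eq_iff] at h1
    exact h1

/-- The intersection with a minimal normal subgroup of a point stabiliser is a maximal invariant
subgroup. -/
theorem prim_max_inv [FaithfulSMul G Ω] (hG : IsPreprimitive G Ω) [Nontrivial Ω] (N : Subgroup G)
    [N.Normal] (a : Ω) (X : Subgroup G) (hX : X ≤ N) (hKX : stabilizer G a ⊓ N ≤ X)
    (hinv : stabilizer G a ≤ normalizer (X : Set G)) : X = stabilizer G a ⊓ N ∨ X = N := by
  have hco : IsCoatom (stabilizer G a) := (isCoatom_stabilizer_iff_preprimitive G a).mpr hG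
  rcases hco.le_iff.mp (le_sup_left : stabilizer G a ≤ stabilizer G a ⊔ X) with h | h
  · right
    apply le_antisymm hX
    intro n hn
    have h1 : n ∈ stabilizer G a ⊔ X := by rw [h]; exact mem_top n
    rw [← SetLike.mem_coe, coe_mul_of_left_le_normalizer_right _ _ hinv] at h1
    obtain ⟨k, hk, x, hx, rfl⟩ := Set.mem_mul.mp h1
    have h2 : k ∈ N := by
      have := N.mul_mem hn (N.inv_mem (hX hx))
      simpa using this
    exact X.mul_mem (hKX ⟨hk, h2⟩) hx
  · left
    apply le_antisymm _ hKX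
    apply le_inf _ hX
    exact (le_sup_right : X ≤ stabilizer G a ⊔ X).trans h.le

/-- In a faithful transitive action an abelian group is regular -/
theorem stabilizer_eq_bot_of_comm [FaithfulSMul G Ω] (A N : Subgroup G)
    (hcomm : ∀ x ∈ A, ∀ y ∈ N, x * y = y * x) (htr : IsPretransitive A Ω) (ω : Ω) (x : G)
    (hx : x ∈ N) (hxω : x • ω = ω) : x = 1 := by
  apply FaithfulSMul.eq_of_smul_eq_smul (α := Ω)
  intro y
  obtain ⟨a, rfl⟩ := exists_smul_eq A ω y
  change x • ((a : G) • ω) = 1 • _
  rw [← mul_smul, ← hcomm a a.2 x hx, mul_smul, hxω, one_smul]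
  rfl

theorem not_simple_of_card_prime_pow {T : Type*} [Group T] [Finite T] {p j : ℕ} (hp : p.Prime)
    (hT : Nat.card T ∣ p ^ j) (hs : IsSimpleGroup T) (hna : ∃ a b : T, a * b ≠ b * a) : False := by
  have : Fact p.Prime := ⟨hp⟩
  obtain ⟨i, -, hi⟩ := (Nat.dvd_prime_pow hp).mp hT
  have hpg : IsPGroup p T := IsPGroup.of_card hi
  have hnt : Nontrivial T := hs.toNontrivial
  have hz : Nontrivial (Subgroup.center T) := hpg.center_nontrivial
  obtain ⟨x, y, hxy⟩ := hna
  rcases (inferInstance : (Subgroup.center T).Normal).eq_bot_or_eq_top with h1 | h1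
  · rw [h1] at hz
    exact not_subsingleton (⊥ : Subgroup T) inferInstance
  · apply hxy
    have h2 : x ∈ Subgroup.center T := by rw [h1]; exact mem_top x
    exact (Subgroup.mem_center_iff.mp h2 y).symm

/-- Orbits of a normal subgroup of a transitive group have the same length. -/
theorem index_stabilizer_dvd {N : Type*} [Group N] [MulAction N Ω] [IsPretransitive N Ω]
    (S : Subgroup N) [S.Normal] (ω : Ω) : (stabilizer S ω).index ∣ Nat.card Ω := by
  rw [index_stabilizer]
  exact IsBlock.ncard_dvd_card (G := N) (IsBlock.orbit_of_normal ω) ⟨ω, mem_orbit_self ω⟩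

theorem index_subgroupOf_dvd (N : Subgroup G) [IsPretransitive N Ω] (S : Subgroup G)
    (hS : S ≤ N) (hN : N ≤ normalizer (S : Set G)) (ω : Ω) :
    ((stabilizer G ω).subgroupOf S).index ∣ Nat.card Ω := by
  have hn : (S.subgroupOf N).Normal := normal_subgroupOf_iff_le_normalizer hS |>.mpr hN
  have h1 := index_stabilizer_dvd (N := N) (S.subgroupOf N) ω
  have h2 : (stabilizer (S.subgroupOf N) ω).index = ((stabilizer G ω).subgroupOf S).index := by
    have h3 : stabilizer (S.subgroupOf N) ω =
        ((stabilizer G ω).subgroupOf S).comap (subgroupOfEquivOfLe hS).toMonoidHom := by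
      ext x
      rfl
    rw [h3]
    exact index_comap_of_surjective _ (subgroupOfEquivOfLe hS).surjective
  rwa [h2] at h1

/-- The socle of a primitive group of prime power degree. -/
theorem ppow_socle [Finite G] [FaithfulSMul G Ω] [Finite Ω] {p k : ℕ} (hp : p.Prime) (hk : 1 ≤ k)
    (hΩ : Nat.card Ω = p ^ k) (hG : IsPreprimitive G Ω) :
    (∃ N : Subgroup G, N.Normal ∧ (∀ x ∈ N, ∀ y ∈ N, Commute x y) ∧ IsPretransitive N Ω ∧
      ∀ ω : Ω, stabilizer N ω = ⊥) ∨
    (∃ (N : Subgroup G) (_ : N.Normal) (m : ℕ) (T : Fin m → Subgroup G) (e : N ≃* (∀ i, T i)),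
      Fac N m T e ∧ N ≠ ⊥ ∧ (∀ M : Subgroup G, M.Normal → M ≤ N → M = ⊥ ∨ M = N) ∧
      centralizer (N : Set G) = ⊥ ∧ IsPretransitive N Ω ∧
      (∀ ω : Ω, ∀ n : N, (n : G) ∈ stabilizer G ω ↔
        ∀ i, ((e n i : T i) : G) ∈ stabilizer G ω) ∧
      (∀ ω : Ω, ∀ i, ∃ j, 1 ≤ j ∧ ((stabilizer G ω).subgroupOf (T i)).index = p ^ j)) := by
  have hcard : 1 < Nat.card Ω := by rw [hΩ]; exact Nat.one_lt_pow (by omega) hp.one_lt
  have hntΩ : Nontrivial Ω := Finite.one_lt_card_iff_nontrivial.mp hcard
  have htrG : IsPretransitive G Ω := inferInstance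
  have hntG : Nontrivial G := by
    obtain ⟨x, y, hxy⟩ := exists_pair_ne Ω
    obtain ⟨g, hg⟩ := exists_smul_eq G x y
    refine ⟨g, 1, ?_⟩
    rintro rfl
    rw [one_smul] at hg
    exact hxy hg
  obtain ⟨N, hNn, hN, hmin⟩ := exists_min_normal' (G := G)
  obtain ⟨htr, hKN, hNK⟩ := prim_normal hG N hN
  by_cases hab : ∀ x ∈ N, ∀ y ∈ N, Commute x y
  · left
    refine ⟨N, hNn, hab, htr, fun ω => ?_⟩
    rw [eq_bot_iff]
    intro x hx
    rw [Subgroup.mem_bot]
    apply Subtype.ext
    exact stabilizer_eq_bot_of_comm N N hab htr ω x x.2 hx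
  right
  obtain ⟨m, T, e, h⟩ := exists_fac N hmin hab
  -- the factors
  have hTdvd : ∀ i, ¬ Nat.card (T i) ∣ p ^ k := fun i hdvd =>
    not_simple_of_card_prime_pow hp hdvd (h.simple i) (h.nonab i)
  refine ⟨N, hNn, m, T, e, h, hN, hmin, ?_, htr, ?_⟩
  · by_contra hC
    obtain ⟨htrC, -, -⟩ := prim_normal hG (centralizer (N : Set G)) hC
    obtain ⟨ω⟩ := (inferInstance : Nonempty Ω)
    have h1 : ∀ x ∈ N, x • ω = ω → x = 1 := fun x hx hxω =>
      stabilizer_eq_bot_of_comm (centralizer (N : Set G)) N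
        (fun a ha b hb => (mem_centralizer_iff.mp ha b hb).symm) htrC ω x hx hxω
    have i₀ : Fin m := ⟨0, h.pos⟩
    have h2 := index_subgroupOf_dvd N (T i₀) (h.le i₀) (h.norm i₀) ω
    have h3 : (stabilizer G ω).subgroupOf (T i₀) = ⊥ := by
      rw [eq_bot_iff]
      intro x hx
      rw [Subgroup.mem_bot]
      apply Subtype.ext
      exact h1 x (h.le i₀ x.2) hx
    rw [h3, Subgroup.index_bot, hΩ] at h2
    exact hTdvd i₀ h2
  · have key : ∀ ω : Ω, (∀ n : N, (n : G) ∈ stabilizer G ω ↔
        ∀ i, ((e n i : T i) : G) ∈ stabilizer G ω) := by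
      intro ω
      set H := stabilizer G ω with hH
      have hsc := h.scott H (hKN ω) (hNK ω)
        (fun X hX hKX hinv => prim_max_inv hG N ω X hX hKX hinv)
      rcases hsc with hA | ⟨c, hcc, hc2, hc3, hc4⟩
      · exact hA
      · exfalso
        -- a factor which meets `H` trivially
        obtain ⟨i, hi, -⟩ : ∃ i, c i ≠ i ∧ True := by
          obtain ⟨j, hj, hjc⟩ := hc2 ⟨0, h.pos⟩
          by_cases h0 : c ⟨0, h.pos⟩ = ⟨0, h.pos⟩
          · refine ⟨j, ?_, trivial⟩
            rw [hjc, h0]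
            exact hj.symm
          · exact ⟨_, h0, trivial⟩
        have h1 : ∀ t : T i, (t : G) ∈ H → t = 1 := by
          classical
          intro t ht
          have h1 := hc3 (e.symm (Pi.mulSingle i t)) (by rw [h.single]; exact ht) (by
            intro j
            rw [MulEquiv.apply_symm_apply, Pi.mulSingle_eq_of_ne]
            rintro h4
            apply hi
            rw [← h4, hcc])
          have h2 := h.single i t
          rw [h1] at h2
          exact Subtype.ext h2.symm
        have h2 := index_subgroupOf_dvd N (T i) (h.le i) (h.norm i) ω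
        have h3 : (stabilizer G ω).subgroupOf (T i) = ⊥ := by
          rw [eq_bot_iff]
          intro x hx
          rw [Subgroup.mem_bot]
          exact h1 x hx
        rw [h3, Subgroup.index_bot, hΩ] at h2
        exact hTdvd i h2
    refine ⟨key, ?_⟩
    intro ω i
    have h2 := index_subgroupOf_dvd N (T i) (h.le i) (h.norm i) ω
    rw [hΩ] at h2
    obtain ⟨j, -, hj⟩ := (Nat.dvd_prime_pow hp).mp h2
    refine ⟨j, ?_, hj⟩
    by_contra hj0
    have hj0' : j = 0 := by omega
    rw [hj0', pow_zero, Subgroup.index_eq_one, subgroupOf_eq_top] at hj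
    apply hNK ω
    intro n hn
    apply (key ω ⟨n, hn⟩).mpr
    intro l
    obtain ⟨g, hg⟩ := h.trans i l
    obtain ⟨n', hn', hgn⟩ := hKN ω g
    have h1 : (T i).map (MulAut.conj n').toMonoidHom = T i :=
      mem_normalizer_iff_map_conj_eq.mp (h.norm i hn')
    have h4 : T l = (T i).map (MulAut.conj (g * n')).toMonoidHom := by
      rw [← map_conj_map_conj, h1, hg]
    obtain ⟨s, hs, hsn⟩ := (SetLike.ext_iff.mp h4 _).mp (e ⟨n, hn⟩ l).2
    rw [← hsn]
    exact (stabilizer G ω).mul_mem ((stabilizer G ω).mul_mem hgn (hj hs))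
      ((stabilizer G ω).inv_mem hgn)

end Cfsg.Agent.H893
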