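import Cfsg.Agent.H726.Rel.Type

/-!
# Lemma V for S4985 (helper726): the inertia group of a linear character
-/

set_option autoImplicit false
set_option linter.unusedSectionVars false
set_option linter.style.haveILetI false

namespace Cfsg.Agent.H893.RelV

open Cfsg Subgroup
open Cfsg.Agent.Characters.Core Cfsg.Agent.Characters.Clifford
open Cfsg.Agent.H726.Rel Cfsg.Agent.H672

universe u

/-- normal abelian Sylow subgroups for all primes of `ω` give a normal abelian Hall subgroup -/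
theorem exists_hall {X : Type u} [Group X] [Finite X] {ω : Set ℕ}
    (h : ∀ q : ℕ, q.Prime → q ∈ ω → ∀ P : Sylow q X, (P : Subgroup X).Normal ∧
      ∀ a ∈ (P : Subgroup X), ∀ b ∈ (P : Subgroup X), a * b = b * a) :
    ∃ K : Subgroup X, K.Normal ∧ (∀ a ∈ K, ∀ b ∈ K, a * b = b * a) ∧
      PiNum ω (Nat.card K) ∧ PiNum ωᶜ K.index := by
  classical
  let S : Set X := {x | ∃ q : ℕ, q.Prime ∧ q ∈ ω ∧ ∃ P : Sylow q X, x ∈ (P : Subgroup X)}
  have hSc : ∀ x ∈ S, ∀ y ∈ S, x * y = y * x := by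
    rintro x ⟨q, hq, hqω, P, hxP⟩ y ⟨r, hr, hrω, R, hyR⟩
    have : Fact q.Prime := ⟨hq⟩
    have : Fact r.Prime := ⟨hr⟩
    obtain ⟨hPn, hPc⟩ := h q hq hqω P
    obtain ⟨hRn, hRc⟩ := h r hr hrω R
    by_cases hqr : q = r
    · subst hqr
      have := P.unique_of_normal hPn
      have hPR : R = P := Subsingleton.elim _ _
      rw [hPR] at hyR
      exact hPc x hxP y hyR
    · have hdis : Disjoint (P : Subgroup X) (R : Subgroup X) :=
        IsPGroup.disjoint_of_ne q r hqr _ _ P.2 R.2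
      exact commute_of_normal_of_disjoint _ _ hPn hRn hdis x y hxP hyR
  have hKc : ∀ a ∈ closure S, ∀ b ∈ closure S, a * b = b * a := by
    intro a ha b hb
    have h1 : closure S ≤ centralizer (closure S : Set X) := by
      rw [centralizer_closure]
      rw [closure_le]
      intro x hx
      exact mem_centralizer_iff.2 fun y hy => hSc y hy x hx
    exact (mem_centralizer_iff.1 (h1 ha) b hb).symm
  refine ⟨closure S, ?_, hKc, ?_, ?_⟩
  · constructor
    intro x hx g
    induction hx using closure_induction with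
    | mem x hx =>
      obtain ⟨q, hq, hqω, P, hxP⟩ := hx
      exact Subgroup.subset_closure ⟨q, hq, hqω, P, (h q hq hqω P).1.conj_mem x hxP g⟩
    | one => simp
    | mul x y _ _ hx hy =>
      have e1 : g * (x * y) * g⁻¹ = (g * x * g⁻¹) * (g * y * g⁻¹) := by group
      rw [e1]
      exact mul_mem hx hy
    | inv x _ hx =>
      have e1 : g * x⁻¹ * g⁻¹ = (g * x * g⁻¹)⁻¹ := by group
      rw [e1]
      exact inv_mem hx
  · intro r hr hrK
    have : Fact r.Prime := ⟨hr⟩
    obtain ⟨⟨x, hx⟩, hxo⟩ := exists_prime_orderOf_dvd_card' r hrK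
    have hord : ∀ x ∈ closure S, PiNum ω (orderOf x) := by
      intro x hx
      induction hx using closure_induction with
      | mem x hx =>
        obtain ⟨q, hq, hqω, P, hxP⟩ := hx
        have : Fact q.Prime := ⟨hq⟩
        obtain ⟨k, hk⟩ := IsPGroup.iff_orderOf.1 P.2 ⟨x, hxP⟩
        rw [orderOf_mk] at hk
        rw [hk]
        intro s hs hsd
        have h1 := (Nat.prime_dvd_prime_iff_eq hs hq).1 (hs.dvd_of_dvd_pow hsd)
        rw [h1]
        exact hqω
      | one => rw [orderOf_one]; exact PiNum.one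
      | mul x y hx hy hx' hy' =>
        exact (hx'.mul hy').of_dvd (Commute.orderOf_mul_dvd_mul_orderOf (hKc x hx y hy))
      | inv x _ hx => rw [orderOf_inv]; exact hx
    have h1 := hord x hx
    rw [orderOf_mk] at hxo
    rw [hxo] at h1
    exact h1 r hr dvd_rfl
  · intro r hr hrK hrω
    have : Fact r.Prime := ⟨hr⟩
    obtain ⟨P⟩ : Nonempty (Sylow r X) := inferInstance
    have hPK : (P : Subgroup X) ≤ closure S := fun x hx =>
      Subgroup.subset_closure ⟨r, hr, hrω, P, hx⟩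
    exact P.not_dvd_index (hrK.trans (index_dvd_of_le hPK))

variable {G : Type u} [Group G] [Finite G] (N : Subgroup G) [N.Normal]

/-- the Clifford correspondent -/
theorem exists_cliff {θ : N → ℂ} (hθ : IsIrrCharacter N θ) {χ : G → ℂ} (hχ : IsIrrCharacter G χ)
    (ho : Over N.subtype χ θ) (hNT : N ≤ inertia N θ) :
    ∃ η : inertia N θ → ℂ, IsIrrCharacter _ η ∧
      charDegree χ = (inertia N θ).index * charDegree η ∧
      ∃ c : ℂ, ∀ n : N, η ⟨n, hNT n.2⟩ = c * θ n := by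
  classical
  letI := Fintype.ofFinite G
  letI := Fintype.ofFinite N
  letI := Fintype.ofFinite (inertia N θ)
  obtain ⟨η, hη, hηi, hηc⟩ := S0854.result N θ hθ (inertia N θ) (fun g => mem_inertia_iff) hNT χ hχ
    ((over_subtype_iff N χ θ).1 ho)
  refine ⟨η, hη, charDegree_indFun _ hη hηi,
    classInner (fun n : N => η ⟨(n : G), hNT n.2⟩) θ, fun n => ?_⟩
  exact CharDeep.CliffordCorr.restrict_eq_mul_of_invariant N (inertia N θ) hNT hη hθ
      (fun x hx => mem_inertia_iff.1 hx) (by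
        rw [hηc]; exact (over_subtype_iff N χ θ).1 ho) n

variable (l : N →* ℂˣ) {ω : Set ℕ} {m : ℕ} (hm : ∀ n, l n ^ m = 1) (hmω : PiNum ω m)
  (hdeg : ∀ χ : G → ℂ, IsIrrCharacter G χ → Over N.subtype χ (lf l) → PiNum ωᶜ (charDegree χ))

include hm hmω hdeg

theorem exists_ext (hNT : N ≤ inertia N (lf l)) :
    ∃ F : inertia N (lf l) →* ℂˣ, ∀ n : N, F ⟨n, hNT n.2⟩ = l n := by
  obtain ⟨χ, hχ, ho⟩ := exists_over N (lf l) (isIrr_lf l)
  obtain ⟨η, hη, hd, c, hc⟩ := exists_cliff N (isIrr_lf l) hχ ho hNT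
  have h1 : η 1 = c := by
    have h2 := hc 1
    rw [lf_apply, map_one, Units.val_one, mul_one] at h2
    exact h2
  have h3 : PiNum ωᶜ (charDegree η) := by
    have h4 := hdeg χ hχ ho
    rw [hd] at h4
    exact h4.of_mul_right
  refine exists_ext_lin (Subgroup.inclusion hNT) l hη (fun n => ?_) hm (hmω.coprime h3).symm
  rw [h1]
  exact hc n

theorem index_pinum : PiNum ωᶜ (inertia N (lf l)).index := by
  obtain ⟨χ, hχ, ho⟩ := exists_over N (lf l) (isIrr_lf l)
  exact (hdeg χ hχ ho).of_dvd ((dvd_mul_right _ _).trans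
    (index_mul_charDegree_dvd N hχ (isIrr_lf l) ho))

theorem lemmaV (hIM : IMT.{u}) :
    ∃ H : Subgroup G, N ≤ H ∧ H ≤ inertia N (lf l) ∧
      (∀ t ∈ inertia N (lf l), ∀ x ∈ H, t * x * t⁻¹ ∈ H) ∧
      (∀ a ∈ H, ∀ b ∈ H, a * b * a⁻¹ * b⁻¹ ∈ N) ∧
      PiNum ω (N.relIndex H) ∧ PiNum ωᶜ H.index := by
  classical
  have hNT : N ≤ inertia N (lf l) := le_inertia (isIrr_isClassFunction (isIrr_lf l))
  obtain ⟨F, hF⟩ := exists_ext N l hm hmω hdeg hNT
  have hidx := index_pinum N l hm hmω hdeg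
  obtain ⟨T, hT⟩ : ∃ T, T = inertia N (lf l) := ⟨_, rfl⟩
  rw [← hT] at hidx
  have hNT' : N ≤ T := by rw [hT]; exact hNT
  obtain ⟨F, hF⟩ : ∃ F : T →* ℂˣ, ∀ n : N, F ⟨n, hNT' n.2⟩ = l n := by
    subst hT
    exact ⟨F, hF⟩
  rw [← hT]
  obtain ⟨K, hKn, hKc, hKω, hKi⟩ := exists_hall (X := T ⧸ N.subgroupOf T) (ω := ω) (by
    intro q hq hqω P
    have : Fact q.Prime := ⟨hq⟩
    refine hIM q (T ⧸ N.subgroupOf T) (fun β hβ hqβ => ?_) P
    obtain ⟨β', hβ'⟩ : ∃ β' : T → ℂ, β' = β ∘ (QuotientGroup.mk' (N.subgroupOf T)) := ⟨_, rfl⟩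
    have hβirr : IsIrrCharacter T β' := by
      rw [hβ']
      exact isIrr_comp (QuotientGroup.mk' (N.subgroupOf T)) (QuotientGroup.mk'_surjective _) hβ
    have hker : ∀ n : N, β' ⟨n, hNT' n.2⟩ = β' 1 := by
      intro n
      rw [hβ']
      show β (QuotientGroup.mk' (N.subgroupOf T) ⟨n, hNT' n.2⟩) =
        β (QuotientGroup.mk' (N.subgroupOf T) 1)
      have h5 : QuotientGroup.mk' (N.subgroupOf T) (⟨n, hNT' n.2⟩ : T) = 1 :=
        (QuotientGroup.eq_one_iff _).2 (Subgroup.mem_subgroupOf.2 n.2)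
      rw [h5, map_one]
    obtain ⟨χ, hχ, ho, hd⟩ := Cfsg.Agent.H673.twist_irr_over l T hT hNT' F hF hβirr hker
    have h6 : charDegree β' = charDegree β := by
      rw [hβ', charDegree_comp_one]
    have h7 := hdeg χ hχ ho
    rw [hd, h6] at h7
    exact h7.of_mul_right q hq hqβ hqω)
  obtain ⟨L, hL⟩ : ∃ L, L = K.comap (QuotientGroup.mk' (N.subgroupOf T)) := ⟨_, rfl⟩
  have hLn : L.Normal := by rw [hL]; infer_instance
  have hNL : N.subgroupOf T ≤ L := by
    rw [hL]
    have := ker_le_comap (QuotientGroup.mk' (N.subgroupOf T)) K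
    rwa [QuotientGroup.ker_mk'] at this
  have hLK : L.map (QuotientGroup.mk' (N.subgroupOf T)) = K := by
    rw [hL]
    exact map_comap_eq_self_of_surjective (QuotientGroup.mk'_surjective _) K
  refine ⟨L.map T.subtype, ?_, ?_, ?_, ?_, ?_, ?_⟩
  · intro n hn
    exact ⟨⟨n, hNT' hn⟩, hNL (mem_subgroupOf.2 hn), rfl⟩
  · rintro _ ⟨x, -, rfl⟩
    exact x.2
  · rintro t ht _ ⟨x, hx, rfl⟩
    exact ⟨(⟨t, ht⟩ : T) * x * (⟨t, ht⟩ : T)⁻¹, hLn.conj_mem x hx _, rfl⟩
  · rintro _ ⟨a, ha, rfl⟩ _ ⟨b, hb, rfl⟩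
    have ha' : QuotientGroup.mk' (N.subgroupOf T) a ∈ K := by rw [← hLK]; exact mem_map_of_mem _ ha
    have hb' : QuotientGroup.mk' (N.subgroupOf T) b ∈ K := by rw [← hLK]; exact mem_map_of_mem _ hb
    have h1 := hKc _ ha' _ hb'
    have h2 : a * b * a⁻¹ * b⁻¹ ∈ N.subgroupOf T := by
      rw [← QuotientGroup.eq_one_iff]
      show QuotientGroup.mk' (N.subgroupOf T) _ = 1
      rw [map_mul, map_mul, map_mul, map_inv, map_inv, h1]
      group
    exact mem_subgroupOf.1 h2
  · have h1 : N.relIndex (L.map T.subtype) = Nat.card K := by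
      rw [← relIndex_comap, ← hLK, ← relIndex_ker, QuotientGroup.ker_mk']
      rfl
    rw [h1]
    exact hKω
  · have h1 : (L.map T.subtype).index = L.index * T.index := by
      have h2 : L.map T.subtype ≤ T := by
        rintro _ ⟨x, -, rfl⟩
        exact x.2
      rw [← relIndex_mul_index h2]
      congr 1
      show ((L.map T.subtype).subgroupOf T).index = L.index
      congr 1
      exact comap_map_eq_self_of_injective T.subtype_injective L
    have h3 : L.index = K.index := by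
      rw [hL]
      exact index_comap_of_surjective _ (QuotientGroup.mk'_surjective _)
    rw [h1, h3]
    exact hKi.mul hidx

theorem abHall (hIM : IMT.{u}) : AbHall ω (G ⧸ N) := by
  obtain ⟨H, hNH, -, -, hc, hω, hi⟩ := lemmaV N l hm hmω hdeg hIM
  refine ⟨H.map (QuotientGroup.mk' N), ?_, ?_, ?_⟩
  · rintro _ ⟨a, ha, rfl⟩ _ ⟨b, hb, rfl⟩
    have h1 := (QuotientGroup.eq_one_iff (N := N) _).2 (hc a ha b hb)
    have h2 : QuotientGroup.mk' N (a * b * a⁻¹ * b⁻¹) = 1 := h1
    rw [map_mul, map_mul, map_mul, map_inv, map_inv] at h2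
    calc QuotientGroup.mk' N a * QuotientGroup.mk' N b =
        (QuotientGroup.mk' N a * QuotientGroup.mk' N b * (QuotientGroup.mk' N a)⁻¹ *
          (QuotientGroup.mk' N b)⁻¹) * (QuotientGroup.mk' N b * QuotientGroup.mk' N a) := by group
      _ = _ := by rw [h2, one_mul]
  · rw [← relIndex_ker, QuotientGroup.ker_mk']
    exact hω
  · have h1 : (H.map (QuotientGroup.mk' N)).index = H.index := by
      rw [← index_comap_of_surjective (H.map (QuotientGroup.mk' N))
        (QuotientGroup.mk'_surjective N), comap_map_eq, QuotientGroup.ker_mk', sup_eq_left.2 hNH]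
    rw [h1]
    exact hi

end Cfsg.Agent.H893.RelV
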