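import Cfsg.Agent.H893.RelD
import Cfsg.Agent.H893.RelV
import Cfsg.Agent.H692.Rel.Tri
import Cfsg.Agent.S0572
import Cfsg.Agent.SolvableStructure.ComplementSystem

/-!
# Lemma U for S4985 (helper726)
-/

set_option autoImplicit false
set_option linter.unusedSectionVars false
set_option linter.style.haveILetI false

namespace Cfsg.Agent.H893.RelU

open Cfsg Subgroup
open Cfsg.Agent.Characters.Core Cfsg.Agent.Characters.Clifford
open Cfsg.Agent.H726.Rel Cfsg.Agent.H672

universe u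

/-- the statement of the central case (task 1687) -/
def CentralHyp : Prop := ∀ (Q : Type u) [Group Q] [Finite Q] (Z : Subgroup Q) [Z.Normal]
  (l : Z →* ℂˣ) (ω : Set ℕ), Z ≤ Subgroup.center Q → AllDeg ω Z l → AbHall ω (Q ⧸ Z) →
    Group.IsSolvable Q

section N

variable {J : Type u} [Group J] [Finite J] {N X Y : Subgroup J} [N.Normal] [X.Normal] [Y.Normal]
  (hNX : N ≤ X) (hXY : X ≤ Y) {θ : N → ℂ} (hθ : IsIrrCharacter N θ) {ω : Set ℕ}
  (hdeg : ∀ χ : J → ℂ, IsIrrCharacter J χ → Over N.subtype χ θ →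
    PiNum ω (charDegree χ / charDegree θ))
  (hi : PiNum ωᶜ (X.relIndex Y))

include hNX hXY hθ hdeg hi

theorem restrict_irr {ζ : Y → ℂ} (hζ : IsIrrCharacter Y ζ)
    (ho : Over (Subgroup.inclusion (hNX.trans hXY)) ζ θ) :
    IsIrrCharacter X (fun x : X => ζ ⟨x, hXY x.2⟩) := by
  classical
  obtain ⟨ψ, hψ, hψζ⟩ := exists_over_subtype Y hζ
  have e1 : Y.subtype.comp (Subgroup.inclusion (hNX.trans hXY)) = N.subtype := by ext; rfl
  have hψθ : Over N.subtype ψ θ := by
    rw [← e1]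
    exact (over_comp_iff _ _ (isIrr_isCharacter hψ) hθ).2 ⟨ζ, hζ, hψζ, ho⟩
  have e2 : (Subgroup.inclusion hXY).comp (Subgroup.inclusion hNX) =
      Subgroup.inclusion (hNX.trans hXY) := by ext; rfl
  rw [← e2] at ho
  obtain ⟨ξ, hξ, h1, h2⟩ := (over_comp_iff _ _ (isIrr_isCharacter hζ) hθ).1 ho
  have hn1 : (Subgroup.inclusion hXY).range.Normal := by
    rw [Subgroup.inclusion_range]; infer_instance
  have hn2 : (Subgroup.inclusion hNX).range.Normal := by
    rw [Subgroup.inclusion_range]; infer_instance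
  obtain ⟨d1, d2⟩ := charDegree_dvd_of_over_hom (Subgroup.inclusion hXY)
    (Subgroup.inclusion_injective _) hn1 hζ hξ h1
  obtain ⟨d3, -⟩ := charDegree_dvd_of_over_hom (Subgroup.inclusion hNX)
    (Subgroup.inclusion_injective _) hn2 hξ hθ h2
  obtain ⟨d4, -⟩ := charDegree_dvd_of_over Y hψ hζ hψζ
  have hθ0 := charDegree_pos hθ
  have hξ0 := charDegree_pos hξ
  -- `ζ(1) / ξ(1)` divides `ψ(1) / θ(1)`
  have d5 : charDegree ζ / charDegree ξ ∣ charDegree ψ / charDegree θ := by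
    obtain ⟨a, ha⟩ := d1
    obtain ⟨b, hb⟩ := d3
    obtain ⟨c, hc⟩ := d4
    have h3 : charDegree ζ / charDegree ξ = a := by rw [ha, Nat.mul_div_cancel_left _ hξ0]
    have h4 : charDegree ψ / charDegree θ = b * a * c := by
      rw [hc, ha, hb, mul_assoc, mul_assoc, Nat.mul_div_cancel_left _ hθ0, mul_assoc]
    rw [h3, h4]
    exact ⟨b * c, by ring⟩
  have h5 : charDegree ζ / charDegree ξ = 1 := by
    refine PiNum.eq_one (ω := ω) ((hdeg ψ hψ hψθ).of_dvd d5) (hi.of_dvd ?_)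
    rw [Subgroup.inclusion_range] at d2
    exact d2
  have h6 : charDegree ξ = charDegree ζ := by
    rw [← Nat.div_mul_cancel d1, h5, one_mul]
  have h7 := eq_of_over_of_charDegree_eq hζ hξ h1 h6
  have h8 : (fun x : X => ζ ⟨x, hXY x.2⟩) = ξ := h7
  rw [h8]
  exact hξ

theorem lemmaN : ∀ a ∈ Y, ∀ b ∈ Y, a * b * a⁻¹ * b⁻¹ ∈ X := by
  classical
  have e1 : Y.subtype.comp (Subgroup.inclusion (hNX.trans hXY)) = N.subtype := by ext; rfl
  obtain ⟨χ, hχ, hoχ⟩ := exists_over N θ hθ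
  rw [← e1] at hoχ
  obtain ⟨ζ, hζ, -, ho⟩ := (over_comp_iff _ _ (isIrr_isCharacter hχ) hθ).1 hoχ
  have hres := restrict_irr hNX hXY hθ hdeg hi hζ ho
  have hres' : IsIrrCharacter (X.subgroupOf Y) (fun x : X.subgroupOf Y => ζ x) := by
    have h1 := isIrr_comp ((Subgroup.subgroupOfEquivOfLe hXY : X.subgroupOf Y ≃* X) :
      X.subgroupOf Y →* X) (Subgroup.subgroupOfEquivOfLe hXY).surjective hres
    exact h1
  have hlin : ∀ β : IrrCharacter (Y ⧸ X.subgroupOf Y), charDegree (β : Y ⧸ X.subgroupOf Y → ℂ) = 1 := by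
    intro β
    obtain ⟨β', hβ'⟩ : ∃ β' : Y → ℂ, β' = (β : Y ⧸ X.subgroupOf Y → ℂ) ∘
      (QuotientGroup.mk' (X.subgroupOf Y)) := ⟨_, rfl⟩
    have hβirr : IsIrrCharacter Y β' := by
      rw [hβ']
      exact isIrr_comp (QuotientGroup.mk' _) (QuotientGroup.mk'_surjective _) β.2
    have hβK : ∀ k ∈ X.subgroupOf Y, β' k = β' 1 := by
      intro k hk
      rw [hβ']
      show (β : Y ⧸ X.subgroupOf Y → ℂ) (QuotientGroup.mk' (X.subgroupOf Y) k) =
        (β : Y ⧸ X.subgroupOf Y → ℂ) (QuotientGroup.mk' (X.subgroupOf Y) 1)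
      have h5 : QuotientGroup.mk' (X.subgroupOf Y) k = 1 := (QuotientGroup.eq_one_iff _).2 hk
      rw [h5, map_one]
    have hdeg' : β' 1 = charDegree (β : Y ⧸ X.subgroupOf Y → ℂ) := by
      rw [hβ']
      show (β : Y ⧸ X.subgroupOf Y → ℂ) (QuotientGroup.mk' (X.subgroupOf Y) 1) = _
      rw [map_one, coe_charDegree β.2]
    have hirr := Cfsg.Agent.H597.FrobC.isIrr_mul_of_restrict (X.subgroupOf Y) hζ hres' hβirr hβK
    have ho2 : Over (Subgroup.inclusion (hNX.trans hXY)) (β' * ζ) θ := by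
      letI := Fintype.ofFinite N
      rw [over_iff] at ho ⊢
      have e2 : (β' * ζ) ∘ (Subgroup.inclusion (hNX.trans hXY)) =
          β' 1 • (ζ ∘ (Subgroup.inclusion (hNX.trans hXY))) := by
        funext n
        show β' (Subgroup.inclusion (hNX.trans hXY) n) * ζ (Subgroup.inclusion (hNX.trans hXY) n) =
          β' 1 * ζ (Subgroup.inclusion (hNX.trans hXY) n)
        rw [hβK _ (mem_subgroupOf.2 (hNX n.2))]
      rw [e2, classInner_smul_left]
      exact mul_ne_zero (isIrr_apply_one_ne_zero hβirr) ho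
    have hres2 := restrict_irr hNX hXY hθ hdeg hi hirr ho2
    refine Cfsg.Agent.H893.RelD.deg_of_mul_const hres2 hres fun g => ?_
    show β' ⟨g, hXY g.2⟩ * ζ ⟨g, hXY g.2⟩ = _
    rw [hβK ⟨g, hXY g.2⟩ (mem_subgroupOf.2 g.2), hdeg']
  intro a ha b hb
  have hcomm := Cfsg.Agent.H596.comm_of_charDegree_eq_one hlin
    (QuotientGroup.mk' (X.subgroupOf Y) ⟨a, ha⟩) (QuotientGroup.mk' (X.subgroupOf Y) ⟨b, hb⟩)
  have h3 : ((⟨a, ha⟩ : Y) * ⟨b, hb⟩ * (⟨a, ha⟩ : Y)⁻¹ * (⟨b, hb⟩ : Y)⁻¹) ∈ X.subgroupOf Y := by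
    rw [← QuotientGroup.eq_one_iff]
    show QuotientGroup.mk' (X.subgroupOf Y) _ = 1
    rw [map_mul, map_mul, map_mul, map_inv, map_inv, hcomm]
    group
  exact mem_subgroupOf.1 h3

end N

section ind

variable {G : Type u} [Group G] [Finite G] (N : Subgroup G) [hN : N.Normal]

/-- Clifford correspondence: induction from the inertia group -/
theorem ind_over {θ : N → ℂ} (hθ : IsIrrCharacter N θ) (T : Subgroup G) (hT : T = inertia N θ)
    (hNT : N ≤ T) {ψ : T → ℂ} (hψ : IsIrrCharacter T ψ)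
    (ho : Over (Subgroup.inclusion hNT) ψ θ) :
    ∃ χ : G → ℂ, IsIrrCharacter G χ ∧ Over N.subtype χ θ ∧
      charDegree χ = T.index * charDegree ψ := by
  classical
  letI := Fintype.ofFinite G
  letI := Fintype.ofFinite N
  letI := Fintype.ofFinite T
  have hTmem : ∀ g, g ∈ T ↔ OddOrderCharacters.NormalInduced.conjFn N θ g = θ := by
    intro g
    rw [hT, mem_inertia_iff, funext_iff]
    rfl
  have h0 := ho
  rw [over_iff] at h0
  have hirr := OddOrderCharacters.PF9.CliffGen.irr_ind hθ hTmem hNT hψ h0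
  refine ⟨_, hirr, ?_, charDegree_indFun T hψ rfl⟩
  have h1 : Over T.subtype (indFun T ψ) ψ := by
    rw [over_iff]
    have h3 := CharactersDeep.NormalInd.classInner_indFun T ψ
      (indFun T ψ) (isIrr_isClassFunction hirr)
    rw [classInner_irr_self hirr] at h3
    intro h4
    have h5 := classInner_conj_symm ψ (fun h : T => indFun T ψ h)
    have h6 : classInner (fun h : T => indFun T ψ h) ψ = 0 := h4
    rw [← h3, h6] at h5
    simp at h5
  have e : N.subtype = T.subtype.comp (Subgroup.inclusion hNT) := by ext; rfl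
  rw [e]
  exact (over_comp_iff _ _ (isIrr_isCharacter hirr) hθ).2 ⟨_, hψ, h1, ho⟩

/-- a multiple of `θ` on `N` lies over `θ` -/
theorem over_of_mul {K : Type*} [Group K] {H : Type*} [Group H] [Finite H] (f : H →* K)
    {χ : K → ℂ} {θ : H → ℂ} (hθ : IsIrrCharacter H θ) {c : ℂ} (hc : c ≠ 0)
    (h : ∀ n, χ (f n) = c * θ n) : Over f χ θ := by
  letI := Fintype.ofFinite H
  rw [over_iff]
  have e : χ ∘ f = c • θ := by
    funext n
    exact h n
  rw [e, classInner_smul_left, classInner_irr_self hθ, mul_one]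
  exact hc

variable {θ : N → ℂ} (hθ : IsIrrCharacter N θ) {ω : Set ℕ}
  (hdeg : ∀ χ : G → ℂ, IsIrrCharacter G χ → Over N.subtype χ θ → PiNum ω (charDegree χ))
  (hH : AbHall ω (G ⧸ N))

include hθ hdeg

/-- degrees of the inertia group over `θ` -/
theorem deg_inertia (hNJ : N ≤ inertia N θ) {ψ : inertia N θ → ℂ} (hψ : IsIrrCharacter _ ψ)
    (ho : Over (Subgroup.inclusion hNJ) ψ θ) : PiNum ω (charDegree ψ) := by
  obtain ⟨χ, hχ, h1, h2⟩ := ind_over N hθ (inertia N θ) rfl hNJ hψ ho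
  have h3 := hdeg χ hχ h1
  rw [h2] at h3
  exact h3.of_mul_right

theorem index_inertia : PiNum ω (inertia N θ).index := by
  obtain ⟨χ, hχ, ho⟩ := exists_over N θ hθ
  exact (hdeg χ hχ ho).of_dvd ((dvd_mul_right _ _).trans
    (index_mul_charDegree_dvd N hχ hθ ho))

include hH

/-- the structure of the inertia group, abstractly -/
theorem struct : ∃ H : Subgroup G, N ≤ H ∧ (∀ a ∈ H, ∀ b ∈ H, a * b * a⁻¹ * b⁻¹ ∈ N) ∧
    PiNum ω (N.relIndex H) ∧ PiNum ωᶜ H.index ∧
    (∀ g : G, ∃ h ∈ H, ∃ j ∈ inertia N θ, g = h * j) ∧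
    H.relIndex (inertia N θ) = H.index ∧
    H ⊓ inertia N θ ≤ (inertia N θ).normalCore ∧
    PiNum ωᶜ ((inertia N θ).normalCore.relIndex (inertia N θ)) ∧
    (∀ a ∈ inertia N θ, ∀ b ∈ inertia N θ, a * b * a⁻¹ * b⁻¹ ∈ (inertia N θ).normalCore) := by
  classical
  obtain ⟨K, hKc, hKω, hKi⟩ := hH
  have hNJ : N ≤ inertia N θ := le_inertia (isIrr_isClassFunction hθ)
  have hJω := index_inertia N hθ hdeg
  obtain ⟨H, hHd⟩ : ∃ H, H = K.comap (QuotientGroup.mk' N) := ⟨_, rfl⟩
  have hNH : N ≤ H := by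
    rw [hHd]
    have := ker_le_comap (QuotientGroup.mk' N) K
    rwa [QuotientGroup.ker_mk'] at this
  have hHK : H.map (QuotientGroup.mk' N) = K := by
    rw [hHd]
    exact map_comap_eq_self_of_surjective (QuotientGroup.mk'_surjective _) K
  have hHc : ∀ a ∈ H, ∀ b ∈ H, a * b * a⁻¹ * b⁻¹ ∈ N := by
    intro a ha b hb
    have ha' : QuotientGroup.mk' N a ∈ K := by rw [← hHK]; exact mem_map_of_mem _ ha
    have hb' : QuotientGroup.mk' N b ∈ K := by rw [← hHK]; exact mem_map_of_mem _ hb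
    have h1 := hKc _ ha' _ hb'
    rw [← QuotientGroup.eq_one_iff]
    show QuotientGroup.mk' N _ = 1
    rw [map_mul, map_mul, map_mul, map_inv, map_inv, h1]
    group
  have hHω : PiNum ω (N.relIndex H) := by
    have h1 : N.relIndex H = Nat.card K := by
      rw [← hHK, ← relIndex_ker, QuotientGroup.ker_mk']
    rw [h1]
    exact hKω
  have hHi : PiNum ωᶜ H.index := by
    have h1 : H.index = K.index := by
      rw [hHd]
      exact index_comap_of_surjective _ (QuotientGroup.mk'_surjective _)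
    rw [h1]
    exact hKi
  have hcop : H.index.Coprime (inertia N θ).index := (hJω.coprime hHi).symm
  have hmul : ∀ g : G, ∃ h ∈ H, ∃ j ∈ inertia N θ, g = h * j :=
    fun g => SolvableStructure.ComplementSystem.exists_mul_of_coprime hcop g
  have hrel : H.relIndex (inertia N θ) = H.index := by
    have h1 : (H ⊓ inertia N θ).relIndex (inertia N θ) * (inertia N θ).index =
        (H ⊓ inertia N θ).index := Subgroup.relIndex_mul_index inf_le_right
    rw [Subgroup.inf_relIndex_right,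
      SolvableStructure.ComplementSystem.index_inf_of_coprime hcop] at h1
    exact Nat.eq_of_mul_eq_mul_right (Nat.pos_of_ne_zero Subgroup.index_ne_zero_of_finite) h1
  have hcore : H ⊓ inertia N θ ≤ (inertia N θ).normalCore := by
    rintro x ⟨hxH, hxJ⟩ g
    obtain ⟨a, ha, j, hj, haj⟩ := hmul g⁻¹
    have h1 : g = j⁻¹ * a⁻¹ := by
      rw [← inv_inv g, haj, mul_inv_rev]
    have h2 : a⁻¹ * x * a * x⁻¹ ∈ N := by
      have h3 := hHc a⁻¹ (inv_mem ha) x hxH
      rwa [inv_inv] at h3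
    have h3 : g * x * g⁻¹ = j⁻¹ * ((a⁻¹ * x * a * x⁻¹) * x) * j := by
      rw [h1]; group
    rw [h3]
    exact mul_mem (mul_mem (inv_mem hj) (mul_mem (hNJ h2) hxJ)) hj
  have hDi : PiNum ωᶜ ((inertia N θ).normalCore.relIndex (inertia N θ)) := by
    have h1 : (inertia N θ).normalCore.relIndex (inertia N θ) ∣
        (H ⊓ inertia N θ).relIndex (inertia N θ) := Subgroup.relIndex_dvd_of_le_left _ hcore
    rw [Subgroup.inf_relIndex_right, hrel] at h1
    exact hHi.of_dvd h1
  refine ⟨H, hNH, hHc, hHω, hHi, hmul, hrel, hcore, hDi, ?_⟩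
  -- lemma N inside the inertia group
  have hND : N ≤ (inertia N θ).normalCore := by
    intro n hn g
    exact hNJ (hN.conj_mem n hn g)
  obtain ⟨J, hJ⟩ : ∃ J, J = inertia N θ := ⟨_, rfl⟩
  have hdegJ : ∀ (hNJ : N ≤ J) (ψ : J → ℂ), IsIrrCharacter _ ψ →
      Over (Subgroup.inclusion hNJ) ψ θ → PiNum ω (charDegree ψ) := by
    subst hJ
    intro hNJ ψ hψ ho
    exact deg_inertia N hθ hdeg hNJ hψ ho
  have hinv : ∀ j ∈ J, ∀ n : N, θ ⟨j * n * j⁻¹, hN.conj_mem (n : G) n.2 j⟩ = θ n := by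
    intro j hj
    rw [hJ] at hj
    exact mem_inertia_iff.1 hj
  rw [← hJ] at hNJ hDi hND ⊢
  have hDn : J.normalCore.Normal := inferInstance
  let e := Subgroup.subgroupOfEquivOfLe hNJ
  have hθ' : IsIrrCharacter (N.subgroupOf J) (θ ∘ e) :=
    isIrr_comp (e : N.subgroupOf J →* N) e.surjective hθ
  have key := lemmaN (J := J) (N := N.subgroupOf J) (X := J.normalCore.subgroupOf J) (Y := ⊤)
    (θ := θ ∘ e) (ω := ω) (fun x hx => mem_subgroupOf.2 (hND (mem_subgroupOf.1 hx))) le_top hθ'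
    (fun χ hχ ho => by
      have h1 : Over (Subgroup.inclusion hNJ) χ θ := by
        have h2 := (over_comp_equiv (Subgroup.inclusion hNJ) e χ θ).1
        apply h2
        have e1 : (Subgroup.inclusion hNJ).comp e.toMonoidHom = (N.subgroupOf J).subtype := by
          ext x; rfl
        rw [e1]
        exact ho
      have h2 := hdegJ hNJ χ hχ h1
      refine h2.of_dvd (Nat.div_dvd_of_dvd ?_)
      exact (charDegree_dvd_of_over (N.subgroupOf J) hχ hθ' ho).1)
    (by
      rw [relIndex_top_right]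
      exact hDi)
  intro a ha b hb
  exact mem_subgroupOf.1 (key ⟨a, ha⟩ (mem_top _) ⟨b, hb⟩ (mem_top _))

theorem abHall_inertia (hNJ : N ≤ inertia N θ) :
    AbHall ω (inertia N θ ⧸ N.subgroupOf (inertia N θ)) := by
  classical
  obtain ⟨H, hNH, hHc, hHω, hHi, hmul, hrel, hcore, hDi, hDc⟩ := struct N hθ hdeg hH
  refine ⟨(H.subgroupOf (inertia N θ)).map (QuotientGroup.mk' (N.subgroupOf (inertia N θ))),
    ?_, ?_, ?_⟩
  · rintro _ ⟨a, ha, rfl⟩ _ ⟨b, hb, rfl⟩
    have h1 : a * b * a⁻¹ * b⁻¹ ∈ N.subgroupOf (inertia N θ) :=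
      mem_subgroupOf.2 (hHc a (mem_subgroupOf.1 ha) b (mem_subgroupOf.1 hb))
    have h2 : QuotientGroup.mk' (N.subgroupOf (inertia N θ)) (a * b * a⁻¹ * b⁻¹) = 1 :=
      (QuotientGroup.eq_one_iff _).2 h1
    rw [map_mul, map_mul, map_mul, map_inv, map_inv] at h2
    obtain ⟨f, hf⟩ : ∃ f, f = QuotientGroup.mk' (N.subgroupOf (inertia N θ)) := ⟨_, rfl⟩
    rw [← hf] at h2 ⊢
    calc f a * f b = (f a * f b * (f a)⁻¹ * (f b)⁻¹) * (f b * f a) := by group
      _ = _ := by rw [h2, one_mul]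
  · rw [← relIndex_ker, QuotientGroup.ker_mk']
    have h1 : (N.subgroupOf (inertia N θ)).relIndex (H.subgroupOf (inertia N θ)) ∣
        N.relIndex H := by
      have h2 : (N.subgroupOf (inertia N θ)).relIndex (H.subgroupOf (inertia N θ)) =
          N.relIndex ((H.subgroupOf (inertia N θ)).map (inertia N θ).subtype) :=
        relIndex_comap N (inertia N θ).subtype _
      rw [h2, subgroupOf_map_subtype]
      have h3 : (N.relIndex (H ⊓ inertia N θ)) * ((H ⊓ inertia N θ).relIndex H) =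
          N.relIndex H := relIndex_mul_relIndex _ _ _ (le_inf hNH hNJ) inf_le_left
      rw [← h3]
      exact dvd_mul_right _ _
    exact hHω.of_dvd h1
  · have h1 : ((H.subgroupOf (inertia N θ)).map
        (QuotientGroup.mk' (N.subgroupOf (inertia N θ)))).index =
        (H.subgroupOf (inertia N θ)).index := by
      rw [← index_comap_of_surjective ((H.subgroupOf (inertia N θ)).map
        (QuotientGroup.mk' (N.subgroupOf (inertia N θ))))
        (QuotientGroup.mk'_surjective _), comap_map_eq, QuotientGroup.ker_mk', sup_eq_left.2]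
      intro x hx
      exact mem_subgroupOf.2 (hNH (mem_subgroupOf.1 hx))
    rw [h1]
    have h2 : (H.subgroupOf (inertia N θ)).index = H.index := hrel
    rw [h2]
    exact hHi

theorem solvable_inertia (hC : CentralHyp.{u}) :
    Group.IsSolvable (inertia N θ ⧸ N.subgroupOf (inertia N θ)) := by
  classical
  have hNJ : N ≤ inertia N θ := le_inertia (isIrr_isClassFunction hθ)
  have hHall := abHall_inertia N hθ hdeg hH hNJ
  obtain ⟨J, hJ⟩ : ∃ J, J = inertia N θ := ⟨_, rfl⟩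
  have hdegJ : ∀ (hNJ : N ≤ J) (ψ : J → ℂ), IsIrrCharacter _ ψ →
      Over (Subgroup.inclusion hNJ) ψ θ → PiNum ω (charDegree ψ) := by
    subst hJ
    intro hNJ ψ hψ ho
    exact deg_inertia N hθ hdeg hNJ hψ ho
  have hinv : ∀ j ∈ J, ∀ n : N, θ ⟨j * n * j⁻¹, hN.conj_mem (n : G) n.2 j⟩ = θ n := by
    intro j hj
    rw [hJ] at hj
    exact mem_inertia_iff.1 hj
  rw [← hJ] at hNJ hHall ⊢
  let e := Subgroup.subgroupOfEquivOfLe hNJ
  have hθ' : IsIrrCharacter (N.subgroupOf J) (θ ∘ e) :=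
    isIrr_comp (e : N.subgroupOf J →* N) e.surjective hθ
  obtain ⟨Q, _, _, Z, hZn, l, hZc, ⟨f⟩, hQ⟩ := Cfsg.Agent.H692.Rel.exists_central (N.subgroupOf J)
    ⟨θ ∘ e, hθ'⟩ (by
      intro x n
      exact hinv x x.2 (e n))
  have hall : AllDeg ω Z l := by
    intro β hβ hov
    obtain ⟨χ, hχ, hχβ⟩ := hQ β hβ hov
    have h1 : Over (Subgroup.inclusion hNJ) χ θ := by
      apply over_of_mul (Subgroup.inclusion hNJ) hθ (isIrr_apply_one_ne_zero hβ)
      intro n
      have h2 := hχβ ⟨⟨n, hNJ n.2⟩, mem_subgroupOf.2 n.2⟩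
      exact h2
    have h2 := hdegJ hNJ χ hχ h1
    have h3 : charDegree χ = charDegree β * charDegree θ := by
      apply charDegree_of_eq
      have h4 := hχβ 1
      have h5 : ((1 : N.subgroupOf J) : J) = 1 := rfl
      rw [h5] at h4
      rw [h4]
      show β 1 * θ (e 1) = _
      rw [map_one, Nat.cast_mul, coe_charDegree hβ, coe_charDegree hθ]
    rw [h3] at h2
    exact h2.of_mul_left
  have hAb : AbHall ω (Q ⧸ Z) := by
    obtain ⟨K, hKc, hKω, hKi⟩ := hHall
    refine ⟨K.comap (f : (Q ⧸ Z) →* (J ⧸ N.subgroupOf J)), ?_, ?_, ?_⟩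
    · intro a ha b hb
      apply f.injective
      rw [map_mul, map_mul]
      exact hKc _ ha _ hb
    · have h1 : Nat.card (K.comap (f : (Q ⧸ Z) →* (J ⧸ N.subgroupOf J))) = Nat.card K := by
        have h2 : (K.comap (f : (Q ⧸ Z) →* (J ⧸ N.subgroupOf J))).map
            (f : (Q ⧸ Z) →* (J ⧸ N.subgroupOf J)) = K :=
          map_comap_eq_self_of_surjective f.surjective K
        rw [← card_map_of_injective (f := (f : (Q ⧸ Z) →* (J ⧸ N.subgroupOf J))) f.injective, h2]
      rw [h1]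
      exact hKω
    · rw [index_comap_of_surjective K f.surjective]
      exact hKi
  have hQs := hC Q Z l ω hZc hall hAb
  have h1 : Group.IsSolvable (Q ⧸ Z) :=
    Group.isSolvable_of_surjective (QuotientGroup.mk'_surjective Z)
  exact Group.isSolvable_of_surjective (f := (f : (Q ⧸ Z) →* (J ⧸ N.subgroupOf J))) f.surjective

theorem lemmaU (hC : CentralHyp.{u}) : Group.IsSolvable (G ⧸ N) := by
  classical
  have hNJ : N ≤ inertia N θ := le_inertia (isIrr_isClassFunction hθ)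
  have hJs := solvable_inertia N hθ hdeg hH hC
  obtain ⟨H, hNH, hHc, hHω, hHi, hmul, hrel, hcore, hDi, hDc⟩ := struct N hθ hdeg hH
  have hND : N ≤ (inertia N θ).normalCore := by
    intro n hn g
    exact hNJ (hN.conj_mem n hn g)
  -- `G / D` is a product of two abelian subgroups
  have hGD : Group.IsSolvable (G ⧸ (inertia N θ).normalCore) := by
    have hc1 : ∀ (A : Subgroup G), (∀ a ∈ A, ∀ b ∈ A, a * b * a⁻¹ * b⁻¹ ∈ (inertia N θ).normalCore) →
        IsMulCommutative (A.map (QuotientGroup.mk' (inertia N θ).normalCore)) := by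
      intro A hA
      refine ⟨⟨?_⟩⟩
      rintro ⟨_, a, ha, rfl⟩ ⟨_, b, hb, rfl⟩
      apply Subtype.ext
      have h2 : QuotientGroup.mk' (inertia N θ).normalCore (a * b * a⁻¹ * b⁻¹) = 1 :=
        (QuotientGroup.eq_one_iff _).2 (hA a ha b hb)
      rw [map_mul, map_mul, map_mul, map_inv, map_inv] at h2
      obtain ⟨f, hf⟩ : ∃ f, f = QuotientGroup.mk' (inertia N θ).normalCore := ⟨_, rfl⟩
      rw [← hf] at h2
      show QuotientGroup.mk' (inertia N θ).normalCore a * QuotientGroup.mk' (inertia N θ).normalCore b =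
        QuotientGroup.mk' (inertia N θ).normalCore b * QuotientGroup.mk' (inertia N θ).normalCore a
      rw [← hf]
      calc f a * f b = (f a * f b * (f a)⁻¹ * (f b)⁻¹) * (f b * f a) := by group
        _ = _ := by rw [h2, one_mul]
    have hA := hc1 H fun a ha b hb => hND (hHc a ha b hb)
    have hB := hc1 (inertia N θ) hDc
    have h2 := Cfsg.Agent.S0572.result (H.map (QuotientGroup.mk' (inertia N θ).normalCore))
      ((inertia N θ).map (QuotientGroup.mk' (inertia N θ).normalCore)) (by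
        intro g
        obtain ⟨g, rfl⟩ := QuotientGroup.mk'_surjective _ g
        obtain ⟨h, hh, j, hj, rfl⟩ := hmul g
        exact ⟨_, mem_map_of_mem _ hh, _, mem_map_of_mem _ hj, map_mul _ _ _⟩)
    exact ⟨⟨2, h2⟩⟩
  -- the kernel
  let f : (G ⧸ N) →* (G ⧸ (inertia N θ).normalCore) :=
    QuotientGroup.map _ _ (MonoidHom.id G) hND
  let g : (inertia N θ ⧸ N.subgroupOf (inertia N θ)) →* (G ⧸ N) :=
    QuotientGroup.map _ _ (inertia N θ).subtype (fun x hx => mem_subgroupOf.1 hx)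
  refine Group.isSolvable_of_ker_le_range g f ?_
  intro x hx
  obtain ⟨x, rfl⟩ := QuotientGroup.mk'_surjective _ x
  have h1 : QuotientGroup.mk' (inertia N θ).normalCore x = 1 := hx
  have h2 : x ∈ (inertia N θ).normalCore := (QuotientGroup.eq_one_iff _).1 h1
  exact ⟨QuotientGroup.mk' _ ⟨x, normalCore_le _ h2⟩, rfl⟩

end ind

end Cfsg.Agent.H893.RelU
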