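import Cfsg.Agent.H597.ThreeDegB
import Cfsg.Agent.H597.FrobC
import Cfsg.Agent.H671.Frame
import Cfsg.Agent.H671.Tensor
import Cfsg.Agent.H726.Rel.Iface
import Cfsg.Agent.H596.Degree

/-!
# Relative degree graphs: chief factors (for S4985, helper726)
-/

set_option autoImplicit false

namespace Cfsg.Agent.H893.RelD

open Cfsg Subgroup
open Cfsg.Agent.Characters.Core Cfsg.Agent.Characters.Clifford Cfsg.Agent.Characters.Linear
open Cfsg.Agent.H597.Base Cfsg.Agent.H597.Norm Cfsg.Agent.H597.Degrees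
open Cfsg.Agent.Blocks.Basic (charDegree_of_eq irr_one_eq_charDegree charDegree_pos)
open Cfsg.Agent.H726.Rel

universe u

variable {G : Type u} [Group G]

/-- a character constant on `G` has degree one -/
theorem deg_of_mul_const [Finite G] {χ ψ : G → ℂ} (hχ : IsIrrCharacter G χ)
    (hψ : IsIrrCharacter G ψ) {d : ℕ} (h : ∀ g, χ g = d * ψ g) : d = 1 := by
  classical
  have := Fintype.ofFinite G
  have h1 := sum_normSq_irr hχ
  have h2 := sum_normSq_irr hψ
  have h3 : ∑ g : G, Complex.normSq (χ g) = (d : ℝ) ^ 2 * ∑ g : G, Complex.normSq (ψ g) := by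
    rw [Finset.mul_sum]
    refine Finset.sum_congr rfl fun g _ => ?_
    rw [h, map_mul, Complex.normSq_natCast, pow_two]
  rw [h1, h2] at h3
  have h0 : (Nat.card G : ℝ) ≠ 0 := Nat.cast_ne_zero.2 Nat.card_pos.ne'
  have h4 : (d : ℝ) ^ 2 = 1 := by
    have h5 : ((d : ℝ) ^ 2 - 1) * (Nat.card G : ℝ) = 0 := by linarith
    rcases mul_eq_zero.1 h5 with h6 | h6
    · linarith
    · exact absurd h6 h0
  have h5 : d ^ 2 = 1 := by exact_mod_cast h4
  exact (Nat.pow_eq_one.1 h5).resolve_right (by norm_num)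

theorem isIrr_one : IsIrrCharacter G (1 : G → ℂ) := Cfsg.Agent.Characters.Core.isIrr_one

/-- an irreducible character which is constant has degree one -/
theorem deg_of_const [Finite G] {χ : G → ℂ} (hχ : IsIrrCharacter G χ) (h : ∀ g, χ g = χ 1) :
    charDegree χ = 1 :=
  deg_of_mul_const hχ isIrr_one (d := charDegree χ) fun g => by
    rw [h g, Pi.one_apply, mul_one, irr_one_eq_charDegree hχ]

theorem quot_comm [Finite G] {M : Subgroup G} [M.Normal] {ω : Set ℕ} (hM : M ≠ ⊥)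
    (hidx : PiNum ωᶜ M.index)
    (h : ∀ ψ : G → ℂ, IsIrrCharacter G ψ → (∃ x ∈ M, ψ x ≠ ψ 1) → PiNum ω (charDegree ψ))
    (a b : G) : a * b * a⁻¹ * b⁻¹ ∈ M := by
  classical
  have := Fintype.ofFinite G
  obtain ⟨⟨x, hxM⟩, hx1⟩ := M.ne_bot_iff_exists_ne_one.1 hM
  have hx1' : x ≠ 1 := fun h => hx1 (Subtype.ext h)
  obtain ⟨ψ, hψ, hψx⟩ : ∃ ψ : G → ℂ, IsIrrCharacter G ψ ∧ ψ x ≠ ψ 1 := by
    by_contra hno
    push Not at hno
    exact hx1' (eq_one_of_forall hno)
  have key : ∀ ψ : G → ℂ, IsIrrCharacter G ψ → (∃ x ∈ M, ψ x ≠ ψ 1) →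
      IsIrrCharacter M (fun n : M => ψ n) := by
    intro ψ hψ hne
    exact isIrr_restrict_of_coprime M hψ ((h ψ hψ hne).coprime hidx).symm
  have hres := key ψ hψ ⟨x, hxM, hψx⟩
  have hlin : ∀ β : IrrCharacter (G ⧸ M), charDegree (β : G ⧸ M → ℂ) = 1 := by
    intro β
    obtain ⟨β', hβ'⟩ : ∃ β' : G → ℂ, β' = (β : G ⧸ M → ℂ) ∘ (QuotientGroup.mk' M) := ⟨_, rfl⟩
    have hβirr : IsIrrCharacter G β' := by
      rw [hβ']
      exact isIrr_comp (QuotientGroup.mk' M) (QuotientGroup.mk'_surjective _) β.2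
    have hβK : ∀ k ∈ M, β' k = β' 1 := by
      intro k hk
      rw [hβ']
      show (β : G ⧸ M → ℂ) (QuotientGroup.mk' M k) = (β : G ⧸ M → ℂ) (QuotientGroup.mk' M 1)
      have h5 : QuotientGroup.mk' M k = 1 := (QuotientGroup.eq_one_iff _).2 hk
      rw [h5, map_one]
    have hdeg : β' 1 = charDegree (β : G ⧸ M → ℂ) := by
      rw [hβ']
      show (β : G ⧸ M → ℂ) (QuotientGroup.mk' M 1) = _
      rw [map_one, irr_one_eq_charDegree β.2]
    have hirr := Cfsg.Agent.H597.FrobC.isIrr_mul_of_restrict M hψ hres hβirr hβK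
    have hres2 := key _ hirr ⟨x, hxM, by
      rw [Pi.mul_apply, Pi.mul_apply, hβK x hxM]
      intro h5
      exact hψx (mul_left_cancel₀ (isIrr_apply_one_ne_zero hβirr) h5)⟩
    refine deg_of_mul_const hres2 hres fun g => ?_
    show (β' * ψ) (g : G) = _
    rw [Pi.mul_apply, hβK g g.2, hdeg]
  have hcomm := Cfsg.Agent.H596.comm_of_charDegree_eq_one hlin (QuotientGroup.mk' M a) (QuotientGroup.mk' M b)
  rw [← QuotientGroup.eq_one_iff]
  change QuotientGroup.mk' M (a * b * a⁻¹ * b⁻¹) = 1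
  rw [map_mul, map_mul, map_mul, map_inv, map_inv, hcomm]
  group

/-- The quotient of a normal subgroup whose nontrivial characters have `ωᶜ`-degree, by a normal
subgroup, is an `ωᶜ`-group, if it is a non-abelian minimal normal subgroup. -/
theorem card_pinum (hIM : IMT.{u}) [Finite G] {N : Subgroup G} [N.Normal] {ω : Set ℕ}
    (hB : ∀ d ∈ relCharDegrees N, PiNum ω d)
    (hmin : ∀ L : Subgroup G, L.Normal → L ≤ N → L = ⊥ ∨ L = N)
    (hna : ∃ a ∈ N, ∃ b ∈ N, a * b ≠ b * a) : PiNum ω (Nat.card N) := by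
  classical
  have := Fintype.ofFinite G
  intro q hq hqN
  by_contra hqω
  have : Fact q.Prime := ⟨hq⟩
  have hdeg : ∀ β : N → ℂ, IsIrrCharacter N β → ¬ q ∣ charDegree β := by
    intro β hβ hqβ
    obtain ⟨χ, hχ, ⟨c, hc, -⟩, hker⟩ := Cfsg.Agent.H597.ThreeDegB.exists_over N hβ
    have h1 : ∃ x ∈ N, χ x ≠ χ 1 := by
      by_contra hno
      push Not at hno
      have h2 : charDegree β = 1 := deg_of_const hβ fun x => hker x (hno x x.2)
      rw [h2, Nat.dvd_one] at hqβ
      exact hq.one_lt.ne' hqβ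
    have h2 := hB (charDegree χ) ⟨⟨χ, hχ⟩, h1, rfl⟩
    exact hqω (h2 q hq (hc ▸ Dvd.dvd.mul_right hqβ c))
  obtain ⟨P⟩ : Nonempty (Sylow q N) := inferInstance
  obtain ⟨hPn, hPab⟩ := hIM q N hdeg P
  have hPc : (P : Subgroup N).Characteristic := P.characteristic_of_normal hPn
  have hLn : ((P : Subgroup N).map N.subtype).Normal := inferInstance
  rcases hmin _ hLn (map_subtype_le _) with h1 | h1
  · rw [map_eq_bot_iff_of_injective _ N.subtype_injective] at h1
    exact P.ne_bot_of_dvd_card hqN h1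
  · obtain ⟨a, ha, b, hb, hab⟩ := hna
    rw [← h1] at ha hb
    obtain ⟨a', ha', rfl⟩ := ha
    obtain ⟨b', hb', rfl⟩ := hb
    apply hab
    rw [← map_mul, hPab a' ha' b' hb', map_mul]

theorem quot_nonab (hIM : IMT.{u}) {G : Type u} [Group G] [Finite G] {M N : Subgroup G}
    [M.Normal] [N.Normal] {ω : Set ℕ} (hM : M ≠ ⊥) (hMN : M ≤ N)
    (hA : ∀ d ∈ relCharDegrees M, PiNum ω d)
    (hB : ∀ d ∈ relCharDegrees (N.map (QuotientGroup.mk' M)), PiNum ωᶜ d)
    (hchief : ∀ L : Subgroup G, L.Normal → M ≤ L → L ≤ N → L = M ∨ L = N)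
    (hna : ∃ a ∈ N, ∃ b ∈ N, a * b * a⁻¹ * b⁻¹ ∉ M) : False := by
  classical
  have := Fintype.ofFinite G
  have hNbn : (N.map (QuotientGroup.mk' M)).Normal :=
    Normal.map inferInstance _ (QuotientGroup.mk'_surjective M)
  have hcomap : (N.map (QuotientGroup.mk' M)).comap (QuotientGroup.mk' M) = N := by
    rw [comap_map_eq, QuotientGroup.ker_mk']
    exact sup_eq_left.2 hMN
  obtain ⟨a, ha, b, hb, hab⟩ := hna
  have h1 : PiNum ωᶜ (Nat.card (N.map (QuotientGroup.mk' M))) := by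
    apply card_pinum hIM hB
    · intro L hL hLN
      have h1 : (L.comap (QuotientGroup.mk' M)).Normal := inferInstance
      have h2 : M ≤ L.comap (QuotientGroup.mk' M) := by
        have := ker_le_comap (QuotientGroup.mk' M) L
        rwa [QuotientGroup.ker_mk'] at this
      have h3 : L.comap (QuotientGroup.mk' M) ≤ N := by
        rw [← hcomap]
        exact comap_mono hLN
      have h4 : (L.comap (QuotientGroup.mk' M)).map (QuotientGroup.mk' M) = L :=
        map_comap_eq_self_of_surjective (QuotientGroup.mk'_surjective M) L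
      rcases hchief _ h1 h2 h3 with h5 | h5
      · left
        rw [← h4, h5, Subgroup.map_eq_bot_iff, QuotientGroup.ker_mk']
      · right
        rw [← h4, h5]
    · refine ⟨QuotientGroup.mk' M a, mem_map_of_mem _ ha, QuotientGroup.mk' M b,
        mem_map_of_mem _ hb, ?_⟩
      intro h5
      apply hab
      rw [← QuotientGroup.eq_one_iff]
      change QuotientGroup.mk' M (a * b * a⁻¹ * b⁻¹) = 1
      rw [map_mul, map_mul, map_mul, map_inv, map_inv, h5]
      group
  have hidx : PiNum ωᶜ (M.subgroupOf N).index := by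
    have h5 := relIndex_ker N (QuotientGroup.mk' M)
    rw [QuotientGroup.ker_mk'] at h5
    have h6 : (M.subgroupOf N).index = M.relIndex N := rfl
    rw [h6, h5]
    exact h1
  have hM' : M.subgroupOf N ≠ ⊥ := by
    intro h5
    apply hM
    rw [subgroupOf_eq_bot] at h5
    exact h5.eq_bot_of_le hMN
  have := quot_comm hM' hidx (fun ψ hψ hne => by
    obtain ⟨x, hx, hψx⟩ := hne
    obtain ⟨χ, hχ, ⟨c, hc, -⟩, hker⟩ := Cfsg.Agent.H597.ThreeDegB.exists_over N hψ
    have h2 := hA (charDegree χ) ⟨⟨χ, hχ⟩, ⟨x, mem_subgroupOf.1 hx, fun h5 => hψx (hker x h5)⟩, rfl⟩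
    rw [hc] at h2
    exact h2.of_mul_left) ⟨a, ha⟩ ⟨b, hb⟩
  exact hab (mem_subgroupOf.1 this)

/-- the degree of the restriction -/
theorem charDegree_res {N : Subgroup G} (χ : G → ℂ) :
    charDegree (fun n : N => χ n) = charDegree χ := rfl

theorem min_nonab_false (hE : Cfsg.Agent.H671.H5.FactExt.{0}) {G : Type u} [Group G] [Finite G]
    {M N : Subgroup G} [M.Normal] [N.Normal] {ω : Set ℕ} (hNG : N ≤ commutator G) (hMN : M < N)
    (hA : ∀ d ∈ relCharDegrees M, PiNum ω d)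
    (hB : ∀ d ∈ relCharDegrees (N.map (QuotientGroup.mk' M)), PiNum ωᶜ d)
    (hmin : ∀ L : Subgroup G, L.Normal → L ≤ M → L = ⊥ ∨ L = M)
    (hna : ¬ IsMulCommutative M) : False := by
  classical
  have := Fintype.ofFinite G
  have hM : M ≠ ⊥ := by
    rintro rfl
    exact hna ⟨⟨fun a b => Subsingleton.elim _ _⟩⟩
  obtain ⟨S, iS, iS', k, hk, hSna, ⟨e⟩⟩ :=
    Cfsg.Agent.H671.Frame.minNormal_pi (N := M) inferInstance hM hmin hna
  have hSfin : Finite S := by
    apply Finite.of_injective (fun s : S => e.symm (fun _ : Fin k => s))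
    intro s t hst
    have h1 := e.symm.injective hst
    exact congrFun h1 ⟨0, by omega⟩
  obtain ⟨θ, hθ1, hθ⟩ := hE S hSna
  obtain ⟨χ, hχ⟩ := Cfsg.Agent.H671.Tensor.exists_extension M hSna e hθ
  have hres : IsIrrCharacter M (fun n : M => (χ : G → ℂ) n) := by
    have h4 : (fun n : M => (χ : G → ℂ) n) =
        (fun n : Fin k → S => ∏ i, (θ : S → ℂ) (n i)) ∘ (e : M →* (Fin k → S)) := by
      funext n
      exact hχ n
    rw [h4]
    exact isIrr_comp (e : M →* (Fin k → S)) e.surjective (Cfsg.Agent.H713.isIrr_pi θ.2)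
  have hdeg : charDegree (χ : G → ℂ) = charDegree (θ : S → ℂ) ^ k := by
    apply charDegree_of_eq
    have h5 := hχ 1
    rw [coe_one] at h5
    rw [h5]
    simp only [map_one, Pi.one_apply]
    rw [Finset.prod_const, Finset.card_univ, Fintype.card_fin, irr_one_eq_charDegree θ.2,
      Nat.cast_pow]
  have hdeg1 : charDegree (χ : G → ℂ) ≠ 1 := by
    rw [hdeg]
    intro h5
    rcases Nat.pow_eq_one.1 h5 with h6 | h6
    · exact hθ1 h6
    · omega
  obtain ⟨x, hxM, hx⟩ : ∃ x ∈ M, (χ : G → ℂ) x ≠ (χ : G → ℂ) 1 := by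
    by_contra hno
    push Not at hno
    apply hdeg1
    rw [← charDegree_res (N := M)]
    exact deg_of_const hres fun g => hno g g.2
  obtain ⟨n, hnN, hnM⟩ := SetLike.exists_of_lt hMN
  obtain ⟨β, hβ, hβn⟩ : ∃ β : G ⧸ M → ℂ, IsIrrCharacter (G ⧸ M) β ∧
      β (QuotientGroup.mk' M n) ≠ β 1 := by
    by_contra hno
    push Not at hno
    exact hnM ((QuotientGroup.eq_one_iff n).1 (eq_one_of_forall hno))
  have hβB := hB (charDegree β) ⟨⟨β, hβ⟩, ⟨_, mem_map_of_mem _ hnN, hβn⟩, rfl⟩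
  obtain ⟨β', hβ'⟩ : ∃ β' : G → ℂ, β' = β ∘ (QuotientGroup.mk' M) := ⟨_, rfl⟩
  have hβirr : IsIrrCharacter G β' := by
    rw [hβ']
    exact isIrr_comp (QuotientGroup.mk' M) (QuotientGroup.mk'_surjective _) hβ
  have hβK : ∀ k ∈ M, β' k = β' 1 := by
    intro k hk
    rw [hβ']
    show β (QuotientGroup.mk' M k) = β (QuotientGroup.mk' M 1)
    have h5 : QuotientGroup.mk' M k = 1 := (QuotientGroup.eq_one_iff _).2 hk
    rw [h5, map_one]
  have hβdeg : charDegree β' = charDegree β := by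
    rw [hβ']; exact Cfsg.Agent.H596.charDegree_comp _ hβ
  have hirr := Cfsg.Agent.H597.FrobC.isIrr_mul_of_restrict M χ.2 hres hβirr hβK
  have hmuldeg : charDegree (β' * (χ : G → ℂ)) = charDegree β * charDegree (χ : G → ℂ) := by
    apply charDegree_of_eq
    rw [Pi.mul_apply, irr_one_eq_charDegree hβirr, irr_one_eq_charDegree χ.2, hβdeg, Nat.cast_mul]
  have h6 := hA (charDegree (β' * (χ : G → ℂ))) ⟨⟨_, hirr⟩, ⟨x, hxM, by
    show (β' * (χ : G → ℂ)) x ≠ (β' * (χ : G → ℂ)) 1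
    rw [Pi.mul_apply, Pi.mul_apply, hβK x hxM]
    intro h5
    exact hx (mul_left_cancel₀ (isIrr_apply_one_ne_zero hβirr) h5)⟩, rfl⟩
  rw [hmuldeg] at h6
  have h7 : charDegree β = 1 := h6.of_mul_left.eq_one hβB
  have h8 := Cfsg.Agent.H597.Taketa.commutator_le_ker_of_linear hβirr (hβdeg.trans h7) n (hNG hnN)
  rw [hβ'] at h8
  apply hβn
  have h9 : β (QuotientGroup.mk' M n) = β (QuotientGroup.mk' M 1) := h8
  rwa [map_one] at h9

end Cfsg.Agent.H893.RelD
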