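import Cfsg.Agent.H893.RelD
import Cfsg.Agent.S0188
import Cfsg.Agent.H726.Rel.Type

/-!
# Relative degree graphs: non-abelian minimal normal subgroups (for S4985, helper726)
-/

set_option autoImplicit false
set_option linter.unusedSectionVars false

namespace Cfsg.Agent.H893.RelE

open Cfsg Subgroup
open Cfsg.Agent.Characters.Core Cfsg.Agent.Characters.Clifford Cfsg.Agent.Characters.Linear
open Cfsg.Agent.H597.Base Cfsg.Agent.H597.Norm Cfsg.Agent.H597.Degrees
open Cfsg.Agent.Blocks.Basic (charDegree_of_eq irr_one_eq_charDegree charDegree_pos)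
open Cfsg.Agent.H726.Rel Cfsg.Agent.H893.RelD

universe u v

/-- a nontrivial irreducible character of a power of `S` lies over a nontrivial one of `S` -/
theorem exists_factor {S : Type v} [Group S] [Finite S] {k : ℕ} {ψ : (Fin k → S) → ℂ}
    (hψ : IsIrrCharacter (Fin k → S) ψ) (hne : ∃ x, ψ x ≠ ψ 1) :
    ∃ α : S → ℂ, IsIrrCharacter S α ∧ (∃ s, α s ≠ α 1) ∧ charDegree α ∣ charDegree ψ := by
  classical
  obtain ⟨i, s, hs⟩ : ∃ (i : Fin k) (s : S), ψ (Pi.mulSingle i s) ≠ ψ 1 := by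
    by_contra hno
    push Not at hno
    obtain ⟨x, hx⟩ := hne
    apply hx
    have h1 : x ∈ ker (isIrr_isCharacter hψ) := by
      apply Subgroup.pi_mem_of_mulSingle_mem
      intro i
      exact hno i (x i)
    exact h1
  obtain ⟨f, hf⟩ : ∃ f : S →* (Fin k → S), f = MonoidHom.mulSingle (fun _ : Fin k => S) i := ⟨_, rfl⟩
  have hfs : ∀ t, f t = Pi.mulSingle i t := by intro t; rw [hf]; rfl
  have hn : f.range.Normal := by
    constructor
    rintro _ ⟨t, rfl⟩ g
    refine ⟨g i * t * (g i)⁻¹, ?_⟩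
    rw [hfs, hfs]
    funext j
    by_cases hj : j = i
    · subst hj
      simp
    · simp [Pi.mulSingle_eq_of_ne hj]
  obtain ⟨α, hα, ⟨c, hc, -⟩, hαs⟩ := Cfsg.Agent.H597.ThreeDegB.exists_under_ne f.range hψ
    (x := ⟨f s, ⟨s, rfl⟩⟩) (by show ψ (f s) ≠ ψ 1; rw [hfs]; exact hs)
  refine ⟨α ∘ f.rangeRestrict, isIrr_comp f.rangeRestrict f.rangeRestrict_surjective hα,
    ⟨s, ?_⟩, ?_⟩
  · show α (f.rangeRestrict s) ≠ α (f.rangeRestrict 1)
    rw [map_one]
    exact hαs
  · rw [Cfsg.Agent.H596.charDegree_comp _ hα, hc]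
    exact dvd_mul_right _ _

/-- a nontrivial irreducible character of a perfect group is not linear -/
theorem deg_ne_one {S : Type v} [Group S] [Finite S] (hS : commutator S = ⊤) {α : S → ℂ}
    (hα : IsIrrCharacter S α) (hne : ∃ s, α s ≠ α 1) : charDegree α ≠ 1 := by
  intro h1
  obtain ⟨s, hs⟩ := hne
  exact hs (Cfsg.Agent.H597.Taketa.commutator_le_ker_of_linear hα h1 s (by rw [hS]; exact mem_top s))

section

variable {G : Type u} [Group G] [Finite G] {N : Subgroup G} [N.Normal] {ω : Set ℕ}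
  (htyp : ∀ d ∈ relCharDegrees N, PiNum ω d ∨ PiNum ωᶜ d)

include htyp

/-- the irreducible characters of a normal subgroup containing `N`, nontrivial on `N`, have a type -/
theorem typ_of (Y : Subgroup G) [Y.Normal] {ξ : Y → ℂ} (hξ : IsIrrCharacter Y ξ)
    (hne : ∃ x : Y, (x : G) ∈ N ∧ ξ x ≠ ξ 1) : PiNum ω (charDegree ξ) ∨ PiNum ωᶜ (charDegree ξ) := by
  obtain ⟨x, hxN, hx⟩ := hne
  obtain ⟨χ, hχ, ⟨c, hc, -⟩, hker⟩ := Cfsg.Agent.H597.ThreeDegB.exists_over Y hξ
  have h1 := htyp (charDegree χ) ⟨⟨χ, hχ⟩, ⟨x, hxN, fun h => hx (hker x h)⟩, rfl⟩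
  rw [hc] at h1
  exact h1.imp PiNum.of_mul_left PiNum.of_mul_left

/-- the direct product of `N` and its centraliser -/
theorem centralizer_deg {α β : N → ℂ} (hα : IsIrrCharacter N α) (hβ : IsIrrCharacter N β)
    (hαne : ∃ s, α s ≠ α 1) (hβne : ∃ s, β s ≠ β 1) (hα1 : charDegree α ≠ 1)
    (hβ1 : charDegree β ≠ 1) (hαω : PiNum ω (charDegree α)) (hβω : PiNum ωᶜ (charDegree β))
    (hdisj : N ⊓ centralizer (N : Set G) = ⊥)
    (γ : IrrCharacter (centralizer (N : Set G))) : charDegree γ.1 = 1 := by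
  classical
  obtain ⟨f, hf⟩ : ∃ f : N × centralizer (N : Set G) →* G, ∀ x, f x = (x.1 : G) * (x.2 : G) :=
    ⟨{ toFun := fun x => (x.1 : G) * (x.2 : G)
       map_one' := by simp
       map_mul' := by
        intro x y
        have h1 := mem_centralizer_iff.1 x.2.2 y.1 y.1.2
        show ((x.1 * y.1 : N) : G) * ((x.2 * y.2 : centralizer (N : Set G)) : G) = _
        rw [coe_mul, coe_mul]
        calc (x.1 : G) * y.1 * (x.2 * y.2) = x.1 * ((y.1 : G) * x.2) * y.2 := by group
          _ = x.1 * ((x.2 : G) * y.1) * y.2 := by rw [h1]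
          _ = _ := by group }, fun x => rfl⟩
  have hfinj : Function.Injective f := by
    rw [injective_iff_map_eq_one]
    rintro ⟨n, c⟩ h
    rw [hf] at h
    have h1 : (n : G) = (c : G)⁻¹ := eq_inv_of_mul_eq_one_left h
    have h2 : (n : G) ∈ N ⊓ centralizer (N : Set G) :=
      ⟨n.2, by rw [h1]; exact (centralizer (N : Set G)).inv_mem c.2⟩
    rw [hdisj, mem_bot] at h2
    have h3 : (c : G) = 1 := by
      change (n : G) * (c : G) = 1 at h
      rw [h2, one_mul] at h
      exact h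
    rw [Prod.mk_eq_one]
    exact ⟨Subtype.ext h2, Subtype.ext h3⟩
  have hn : f.range.Normal := by
    constructor
    rintro _ ⟨⟨n, c⟩, rfl⟩ g
    have hcn : (centralizer (N : Set G)).Normal := inferInstance
    refine ⟨(⟨g * n * g⁻¹, Normal.conj_mem inferInstance _ n.2 g⟩,
      ⟨g * c * g⁻¹, hcn.conj_mem _ c.2 g⟩), ?_⟩
    rw [hf, hf]
    show (g * n * g⁻¹) * (g * c * g⁻¹) = g * ((n : G) * c) * g⁻¹
    group
  let e := MonoidHom.ofInjective hfinj
  have key : ∀ δ : N → ℂ, IsIrrCharacter N δ → (∃ s, δ s ≠ δ 1) →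
      (PiNum ω (charDegree δ * charDegree γ.1) ∨
        PiNum ωᶜ (charDegree δ * charDegree γ.1)) := by
    rintro δ hδ ⟨s, hs⟩
    have h1 := Cfsg.Agent.S0188.isIrr_outer hδ γ.2
    have h2 : IsIrrCharacter f.range ((fun x : N × centralizer (N : Set G) =>
        δ x.1 * γ.1 x.2) ∘ (e.symm : f.range →* N × centralizer (N : Set G))) :=
      isIrr_comp (e.symm : f.range →* N × centralizer (N : Set G)) e.symm.surjective h1
    have h3 := typ_of htyp f.range h2 ⟨e (s, 1), by
      show f (s, 1) ∈ N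
      rw [hf]
      simp, by
      show δ (e.symm (e (s, 1))).1 * γ.1 (e.symm (e (s, 1))).2 ≠
        δ (e.symm 1).1 * γ.1 (e.symm 1).2
      rw [MulEquiv.symm_apply_apply, map_one]
      intro h
      exact hs (mul_right_cancel₀ (isIrr_apply_one_ne_zero γ.2) h)⟩
    have h4 : charDegree ((fun x : N × centralizer (N : Set G) =>
        δ x.1 * γ.1 x.2) ∘ (e.symm : f.range →* N × centralizer (N : Set G))) =
        charDegree δ * charDegree γ.1 := by
      rw [Cfsg.Agent.H596.charDegree_comp _ h1]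
      apply charDegree_of_eq
      show δ 1 * γ.1 1 = _
      rw [irr_one_eq_charDegree hδ, irr_one_eq_charDegree γ.2, Nat.cast_mul]
    rwa [h4] at h3
  have k1 : PiNum ω (charDegree γ.1) := by
    rcases key α hα hαne with h | h
    · exact h.of_mul_right
    · exact absurd (hαω.eq_one h.of_mul_left) hα1
  have k2 : PiNum ωᶜ (charDegree γ.1) := by
    rcases key β hβ hβne with h | h
    · exact absurd (PiNum.eq_one h.of_mul_left hβω) hβ1
    · exact h.of_mul_right
  exact k1.eq_one k2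

end

theorem min_nonab_aux (hSch : ∀ (S : Type u) [Group S] [Finite S] [IsSimpleGroup S],
      Group.IsSolvable (Cfsg.Out S)) {G : Type u} [Group G] [Finite G] {N : Subgroup G}
    [N.Normal] {ω : Set ℕ} (htyp : ∀ d ∈ relCharDegrees N, PiNum ω d ∨ PiNum ωᶜ d)
    (hexA : ∃ d ∈ relCharDegrees N, PiNum ω d) (hexB : ∃ d ∈ relCharDegrees N, PiNum ωᶜ d)
    (hmin : ∀ L : Subgroup G, L.Normal → L ≤ N → L = ⊥ ∨ L = N)
    (hna : ¬ IsMulCommutative N) : Group.IsSolvable (G ⧸ N) := by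
  classical
  have := Fintype.ofFinite G
  have hN : N ≠ ⊥ := by
    rintro rfl
    exact hna ⟨⟨fun a b => Subsingleton.elim _ _⟩⟩
  obtain ⟨S, iS, iS', k, hk, hSna, ⟨e⟩⟩ :=
    Cfsg.Agent.H671.Frame.minNormal_pi (N := N) inferInstance hN hmin hna
  have hSfin : Finite S := by
    apply Finite.of_injective (fun s : S => e.symm (fun _ : Fin k => s))
    intro s t hst
    have h1 := e.symm.injective hst
    exact congrFun h1 ⟨0, by omega⟩
  have hSperf : commutator S = ⊤ := by
    rcases (inferInstance : (commutator S).Normal).eq_bot_or_eq_top with h1 | h1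
    · exfalso
      apply hSna
      refine ⟨⟨fun a b => ?_⟩⟩
      have h2 : a * b * a⁻¹ * b⁻¹ ∈ commutator S :=
        commutator_mem_commutator (mem_top a) (mem_top b)
      rw [h1, mem_bot] at h2
      calc a * b = (a * b * a⁻¹ * b⁻¹) * (b * a) := by group
        _ = b * a := by rw [h2, one_mul]
    · exact h1
  -- characters of `S` of both types
  have hfac : ∀ (χ : G → ℂ), IsIrrCharacter G χ → (∃ x ∈ N, χ x ≠ χ 1) →
      ∃ α : S → ℂ, IsIrrCharacter S α ∧ (∃ s, α s ≠ α 1) ∧ charDegree α ∣ charDegree χ := by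
    rintro χ hχ ⟨x, hxN, hx⟩
    obtain ⟨ψ, hψ, ⟨c, hc, -⟩, hψx⟩ := Cfsg.Agent.H597.ThreeDegB.exists_under_ne N hχ
      (x := ⟨x, hxN⟩) hx
    have h1 : IsIrrCharacter (Fin k → S) (ψ ∘ (e.symm : (Fin k → S) →* N)) :=
      isIrr_comp (e.symm : (Fin k → S) →* N) e.symm.surjective hψ
    obtain ⟨α, hα, hαs, hd⟩ := exists_factor h1 ⟨e ⟨x, hxN⟩, by
      show ψ (e.symm (e ⟨x, hxN⟩)) ≠ ψ (e.symm 1)
      rw [MulEquiv.symm_apply_apply, map_one]
      exact hψx⟩
    rw [Cfsg.Agent.H596.charDegree_comp _ hψ] at hd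
    exact ⟨α, hα, hαs, hd.trans (hc ▸ dvd_mul_right _ _)⟩
  obtain ⟨_, ⟨χA, hχA, rfl⟩, hA⟩ := hexA
  obtain ⟨_, ⟨χB, hχB, rfl⟩, hB⟩ := hexB
  obtain ⟨α, hα, hαne, hαd⟩ := hfac χA χA.2 hχA
  obtain ⟨β, hβ, hβne, hβd⟩ := hfac χB χB.2 hχB
  have hα1 := deg_ne_one hSperf hα hαne
  have hβ1 := deg_ne_one hSperf hβ hβne
  have hαω := hA.of_dvd hαd
  have hβω := hB.of_dvd hβd
  -- only one factor
  have hk1 : k = 1 := by
    by_contra hk1
    have h0 : (0 : ℕ) < k := by omega
    have h1 : (1 : ℕ) < k := by omega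
    let f : (Fin k → S) →* S × S :=
      { toFun := fun x => (x ⟨0, h0⟩, x ⟨1, h1⟩)
        map_one' := rfl
        map_mul' := fun x y => rfl }
    have hf : Function.Surjective f := by
      rintro ⟨s, t⟩
      refine ⟨fun i => if i = ⟨0, h0⟩ then s else t, ?_⟩
      show ((if (⟨0, h0⟩ : Fin k) = ⟨0, h0⟩ then s else t),
        (if (⟨1, h1⟩ : Fin k) = ⟨0, h0⟩ then s else t)) = (s, t)
      rw [if_pos rfl, if_neg (by intro h; have := congrArg Fin.val h; simp at this)]
    have h2 := Cfsg.Agent.S0188.isIrr_outer hα hβ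
    have h3 := isIrr_comp f hf h2
    have h4 : IsIrrCharacter N (((fun x : S × S => α x.1 * β x.2) ∘ f) ∘ (e : N →* (Fin k → S))) :=
      isIrr_comp (e : N →* (Fin k → S)) e.surjective h3
    have hd : charDegree (((fun x : S × S => α x.1 * β x.2) ∘ f) ∘ (e : N →* (Fin k → S))) =
        charDegree α * charDegree β := by
      rw [Cfsg.Agent.H596.charDegree_comp _ h3, Cfsg.Agent.H596.charDegree_comp _ h2]
      apply charDegree_of_eq
      show α 1 * β 1 = _
      rw [irr_one_eq_charDegree hα, irr_one_eq_charDegree hβ, Nat.cast_mul]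
    obtain ⟨s, hs⟩ := hαne
    obtain ⟨x, hx⟩ := hf (s, 1)
    have h5 := typ_of htyp N h4 ⟨e.symm x, (e.symm x).2, by
      show (fun x : S × S => α x.1 * β x.2) (f (e (e.symm x))) ≠
        (fun x : S × S => α x.1 * β x.2) (f (e 1))
      rw [MulEquiv.apply_symm_apply, hx, map_one, map_one]
      intro h
      exact hs (mul_right_cancel₀ (isIrr_apply_one_ne_zero hβ) h)⟩
    rw [hd] at h5
    rcases h5 with h5 | h5
    · exact hβ1 (PiNum.eq_one h5.of_mul_right hβω)
    · exact hα1 (hαω.eq_one h5.of_mul_left)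
  subst hk1
  let e1 : N ≃* S := e.trans (MulEquiv.piUnique (fun _ : Fin 1 => S))
  have hNs : IsSimpleGroup N := e1.isSimpleGroup_congr.2 iS'
  have hdisj : N ⊓ centralizer (N : Set G) = ⊥ := by
    have hn : (N ⊓ centralizer (N : Set G)).Normal := inferInstance
    rcases hmin _ hn inf_le_left with h1 | h1
    · exact h1
    · exfalso
      apply hna
      refine ⟨⟨fun a b => Subtype.ext ?_⟩⟩
      have ha : (a : G) ∈ N ⊓ centralizer (N : Set G) := by rw [h1]; exact a.2
      exact (mem_centralizer_iff.1 ha.2 b b.2).symm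
  have hlin := centralizer_deg htyp (α := α ∘ (e1 : N →* S)) (β := β ∘ (e1 : N →* S))
    (isIrr_comp (e1 : N →* S) e1.surjective hα) (isIrr_comp (e1 : N →* S) e1.surjective hβ)
    (by
      obtain ⟨s, hs⟩ := hαne
      refine ⟨e1.symm s, ?_⟩
      show α (e1 (e1.symm s)) ≠ α (e1 1)
      rw [MulEquiv.apply_symm_apply, map_one]
      exact hs)
    (by
      obtain ⟨s, hs⟩ := hβne
      refine ⟨e1.symm s, ?_⟩
      show β (e1 (e1.symm s)) ≠ β (e1 1)
      rw [MulEquiv.apply_symm_apply, map_one]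
      exact hs)
    (by rw [Cfsg.Agent.H596.charDegree_comp _ hα]; exact hα1)
    (by rw [Cfsg.Agent.H596.charDegree_comp _ hβ]; exact hβ1)
    (by rw [Cfsg.Agent.H596.charDegree_comp _ hα]; exact hαω)
    (by rw [Cfsg.Agent.H596.charDegree_comp _ hβ]; exact hβω) hdisj
  have hCab := Cfsg.Agent.H596.comm_of_charDegree_eq_one hlin
  -- the quotient
  have hsolv := hSch N
  let ρ : G →* Cfsg.Out N := (QuotientGroup.mk' (Cfsg.Inn N)).comp MulAut.conjNormal
  have hρN : N ≤ ρ.ker := by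
    intro n hn
    rw [MonoidHom.mem_ker]
    show QuotientGroup.mk' (Cfsg.Inn N) (MulAut.conjNormal n) = 1
    rw [QuotientGroup.mk'_apply, QuotientGroup.eq_one_iff]
    refine ⟨⟨n, hn⟩, ?_⟩
    ext x
    rw [MulAut.conjNormal_apply]
    rfl
  let f : (G ⧸ N) →* Cfsg.Out N := QuotientGroup.lift N ρ hρN
  have hker : Group.IsSolvable f.ker := by
    have hrep : ∀ a : f.ker, ∃ c ∈ centralizer (N : Set G), (QuotientGroup.mk c : G ⧸ N) = a := by
      rintro ⟨a, ha⟩
      obtain ⟨g, rfl⟩ := QuotientGroup.mk_surjective a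
      rw [MonoidHom.mem_ker] at ha
      have h1 : QuotientGroup.mk' (Cfsg.Inn N) (MulAut.conjNormal g) = 1 := ha
      rw [QuotientGroup.mk'_apply, QuotientGroup.eq_one_iff] at h1
      obtain ⟨n, hn⟩ := h1
      refine ⟨(n : G)⁻¹ * g, ?_, ?_⟩
      · rw [mem_centralizer_iff]
        intro x hx
        have h2 := congrArg (fun φ : MulAut N => ((φ ⟨x, hx⟩ : N) : G)) hn
        have h3 : (n : G) * x * (n : G)⁻¹ = g * x * g⁻¹ := by
          have h4 : ((MulAut.conjNormal g ⟨x, hx⟩ : N) : G) = g * x * g⁻¹ :=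
            MulAut.conjNormal_apply g ⟨x, hx⟩
          rw [← h4]
          exact h2
        calc x * ((n : G)⁻¹ * g) = (n : G)⁻¹ * ((n : G) * x * (n : G)⁻¹) * g := by group
          _ = (n : G)⁻¹ * (g * x * g⁻¹) * g := by rw [h3]
          _ = (n : G)⁻¹ * g * x := by group
      · show (QuotientGroup.mk ((n : G)⁻¹ * g) : G ⧸ N) = QuotientGroup.mk g
        rw [QuotientGroup.eq]
        have h2 : ((n : G)⁻¹ * g)⁻¹ * g = g⁻¹ * n * g := by group
        rw [h2]
        have h3 := Normal.conj_mem (inferInstance : N.Normal) _ n.2 g⁻¹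
        rwa [inv_inv] at h3
    have hcomm : ∀ a b : f.ker, a * b = b * a := by
      intro a b
      obtain ⟨c, hc, hca⟩ := hrep a
      obtain ⟨d, hd, hdb⟩ := hrep b
      apply Subtype.ext
      show (a : G ⧸ N) * b = b * a
      rw [← hca, ← hdb, ← QuotientGroup.mk_mul, ← QuotientGroup.mk_mul]
      have h1 := congrArg Subtype.val (hCab ⟨c, hc⟩ ⟨d, hd⟩)
      have h2 : c * d = d * c := h1
      rw [h2]
    let _ : CommGroup f.ker := { (inferInstance : Group f.ker) with mul_comm := hcomm }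
    infer_instance
  exact Group.isSolvable_of_ker_le_range f.ker.subtype f (by simp)

theorem min_nonab (hSch : ∀ (S : Type u) [Group S] [Finite S] [IsSimpleGroup S],
      Group.IsSolvable (Cfsg.Out S)) {G : Type u} [Group G] [Finite G] {N : Subgroup G}
    [N.Normal] {ω : Set ℕ} (h : Disc ω N)
    (hmin : ∀ L : Subgroup G, L.Normal → L ≤ N → L = ⊥ ∨ L = N)
    (hna : ¬ IsMulCommutative N) : Group.IsSolvable (G ⧸ N) :=
  min_nonab_aux hSch h.typ h.exA h.exB hmin hna

end Cfsg.Agent.H893.RelE
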