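import Cfsg.Agent.H893.SElt
import Cfsg.Agent.H854.Seven
import Cfsg.Agent.H854.Unique

/-!
# The splitting over `SU_n(2)`, `n ≥ 8`, `3 ∤ n`
-/

set_option autoImplicit false
set_option linter.unusedSectionVars false

namespace Cfsg.Agent.H893.SplitU

open Cfsg Cfsg.Agent.LieClassical.HermBasic Cfsg.Agent.ClassicalGeometry.UnitTransv
open Cfsg.Agent.SporadicStructure.UnitTwo Cfsg.Agent.H854.UForm Cfsg.Agent.H854.UGeo
open Cfsg.Agent.H854.ClassBasic Cfsg.Agent.H854.Ctx
open Cfsg.Agent.H854.Unique Cfsg.Agent.H893.SGeo Cfsg.Agent.H893.SMod Cfsg.Agent.H893.SElt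
open Cfsg.Agent.H854.UMod (IsUMod omega_cube)
open Cfsg.Agent.H854
open Subgroup
open scoped Matrix

variable {F : Type*} [Field F] [Fintype F] (hF : Fintype.card F = 2 ^ 2)
  {ω : F} (hω : ω ^ 2 + ω + 1 = 0) {m : ℕ} (hm : 4 ≤ m)
  {G : Type*} [Group G] [Finite G] {D : Set G} (h : Cls D) (π : G →* SU (m + 2) F 2)
  (hπ : Function.Surjective π) (hV : IsPGroup 2 π.ker)
  (hc : ∀ a ∈ π.ker, ∀ b ∈ π.ker, a * b = b * a) (h2 : ∀ a ∈ π.ker, a * a = 1)
  (hZ : center G = ⊥)

include hm hω h hπ hV hc h2 hZ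

theorem facts : (∀ (y : G) (p q : Fin (m + 2) → F), Nice hF (π y) p q → ∀ x ∈ π.ker,
      y * x = x * y → x = 1) ∧
    (∀ (v : Fin (m + 2) → F) (hv : hermForm (m + 2) F 2 v v = 0), v ≠ 0 → ∀ (g d k : G),
      act (π g) v = ω • v → π d = T hF v hv → k ∈ π.ker →
      g * (k * (d * k * d⁻¹)) = (k * (d * k * d⁻¹)) * g → k * (d * k * d⁻¹) = 1) := by
  classical
  have hn5 : 5 ≤ m + 2 := by omega
  have hn : π.ker.Normal := inferInstance
  let _ : AddCommGroup (Additive π.ker) := addCommGroupOf π.ker hc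
  have htriv : ∀ x ∈ π.ker, MulAut.conjNormal (H := π.ker) x = 1 := by
    intro x hx
    ext y
    rw [MulAut.conjNormal_apply, hc x hx y y.2, mul_inv_cancel_right]
    rfl
  let ψ : G ⧸ π.ker →* MulAut π.ker := QuotientGroup.lift π.ker MulAut.conjNormal
      (fun x hx => by rw [MonoidHom.mem_ker]; exact htriv x hx)
  let φ : SU (m + 2) F 2 →* MulAut π.ker :=
    ψ.comp (QuotientGroup.quotientKerEquivOfSurjective π hπ).symm.toMonoidHom
  have hφ : ∀ g : G, φ (π g) = MulAut.conjNormal g := by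
    intro g
    have h1 : (QuotientGroup.quotientKerEquivOfSurjective π hπ).symm (π g) = (g : G ⧸ π.ker) := by
      rw [MulEquiv.symm_apply_eq]
      rfl
    change ψ ((QuotientGroup.quotientKerEquivOfSurjective π hπ).symm (π g)) = _
    rw [h1]
    rfl
  let _ : DistribMulAction (SU (m + 2) F 2) (Additive π.ker) := actOf π.ker φ
  have hsm : ∀ (g : G) (m : Additive π.ker),
      ((Additive.toMul (π g • m) : π.ker) : G) = g * ((Additive.toMul m : π.ker) : G) * g⁻¹ := by
    intro g m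
    change ((φ (π g) (Additive.toMul m) : π.ker) : G) = _
    rw [hφ]
    exact MulAut.conjNormal_apply g _
  have hext : ∀ m n : Additive π.ker, ((Additive.toMul m : π.ker) : G) =
      ((Additive.toMul n : π.ker) : G) → m = n :=
    fun m n h => Additive.toMul.injective (Subtype.ext h)
  have hadd : ∀ m n : Additive π.ker, ((Additive.toMul (m + n) : π.ker) : G) =
      ((Additive.toMul m : π.ker) : G) * ((Additive.toMul n : π.ker) : G) := fun m n => rfl
  have htwo : ∀ m : Additive π.ker, m + m = 0 := by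
    intro m
    apply hext
    rw [hadd]
    exact h2 _ (Additive.toMul m).2
  have hmod : IsUMod hF (m + 2) (Additive π.ker) := by
    refine ⟨htwo, ?_, ?_⟩
    · intro u v hu hv huv m
      by_cases hv0 : v = 0
      · subst hv0
        rw [T_zero hF hv, one_smul, htwo, smul_zero]
      · by_cases hu0 : u = 0
        · subst hu0
          rw [T_zero hF hu, one_smul]
        · obtain ⟨e, he, hTe⟩ := lift hF hn5 h π hπ hV hu hu0
          obtain ⟨d, hd, hTd⟩ := lift hF hn5 h π hπ hV hv hv0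
          have hde : d * e = e * d :=
            (comm_iff_herm hF hn5 h π hπ hV hd he hv hu hTd hTe).2
              (herm_eq_zero_swap hF huv)
          rw [← hTe, ← hTd]
          apply hext
          rw [hsm, hadd, hsm]
          have hdd := h.sq d hd
          have hee := h.sq e he
          have hm := (Additive.toMul m).2
          generalize hx : ((Additive.toMul m : π.ker) : G) = x at hm ⊢
          have hxx : x * x = 1 := h2 x hm
          have h3 := commute_conj_of_commute h hn hV hd he hde hm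
          rw [TM.inv_of_sq hxx] at h3
          rw [TM.inv_of_sq hdd, TM.inv_of_sq hee]
          calc e * (x * (d * x * d)) * e = (e * (x * d * x)) * (d * e) := by simp only [mul_assoc]
            _ = ((x * d * x) * e) * (e * d) := by rw [← h3, hde]
            _ = (x * d * x) * (e * e) * d := by simp only [mul_assoc]
            _ = x * (d * x * d) := by rw [hee, mul_one]; simp only [mul_assoc]
    · intro u v hu hv huv m hm
      have hu0 : u ≠ 0 := by rintro rfl; exact huv (herm_zero_left _)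
      have hv0 : v ≠ 0 := by rintro rfl; exact huv (herm_zero_right hF _)
      obtain ⟨d, hd, hTd⟩ := lift hF hn5 h π hπ hV hu hu0
      obtain ⟨e, he, hTe⟩ := lift hF hn5 h π hπ hV hv hv0
      have hde : d * e ≠ e * d := fun h1 =>
        huv ((comm_iff_herm hF hn5 h π hπ hV hd he hu hv hTd hTe).1 h1)
      rw [← hTd, ← hTe, ← map_mul] at hm
      rw [← hTd]
      have h3 : ((Additive.toMul (π (d * e) • m) : π.ker) : G) =
          ((Additive.toMul m : π.ker) : G) := congrArg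
        (fun y : Additive π.ker => ((Additive.toMul y : π.ker) : G)) hm
      rw [hsm] at h3
      apply hext
      rw [hsm]
      have hmem := (Additive.toMul m).2
      generalize hx : ((Additive.toMul m : π.ker) : G) = x at h3 hmem ⊢
      have h4 : (d * e) * x = x * (d * e) := by
        rw [mul_inv_eq_iff_eq_mul] at h3
        exact h3
      have h5 := commute_of_commute_mul h hn hV hd he hde hmem h4
      rw [h5, mul_inv_cancel_right]
  refine ⟨?_, ?_⟩
  · rintro y p q ⟨hp, hq, hpq, lam, mu, nu, hl, hmu, hnu, hl1, hmu1, hnu1, hδp, hδq, hδ⟩ x hx hyx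
    have key := i4 hF hω hm hmod (δ := π y) (x := Additive.ofMul ⟨x, hx⟩) (by
      apply hext
      rw [hsm]
      change y * x * y⁻¹ = x
      rw [hyx, mul_inv_cancel_right]) hp hq hpq hl hmu hnu hl1 hmu1 hnu1 hδp hδq hδ
    have hcen : x ∈ center G := by
      rw [mem_center_iff]
      intro g
      have h3 : ((Additive.toMul (π g • Additive.ofMul (⟨x, hx⟩ : π.ker)) : π.ker) : G) = x :=
        congrArg (fun y : Additive π.ker => ((Additive.toMul y : π.ker) : G)) (key (π g))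
      rw [hsm] at h3
      exact mul_inv_eq_iff_eq_mul.1 h3
    rwa [hZ, mem_bot] at hcen
  · intro v hv hv0 g d k hg hd hk hgk
    have e1 : ((Additive.toMul (Additive.ofMul (⟨k, hk⟩ : π.ker) +
        T hF v hv • Additive.ofMul (⟨k, hk⟩ : π.ker)) : π.ker) : G) = k * (d * k * d⁻¹) := by
      rw [hadd, ← hd, hsm]
      rfl
    have key := omega_fix hF hω hm hmod hv hv0 (π g) hg (Additive.ofMul ⟨k, hk⟩) (by
      apply hext
      rw [hsm, e1, hgk, mul_inv_cancel_right])
    have h3 := congrArg (fun y : Additive π.ker => ((Additive.toMul y : π.ker) : G)) key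
    change ((Additive.toMul (Additive.ofMul (⟨k, hk⟩ : π.ker) +
        T hF v hv • Additive.ofMul (⟨k, hk⟩ : π.ker)) : π.ker) : G) = 1 at h3
    rwa [e1] at h3

omit hm hω h2

/-- members of the class with the same image are conjugate under the kernel -/
theorem class_conj {d d' : G} (hd : d ∈ D) (hd' : d' ∈ D) (hdd : π d = π d') :
    ∃ k ∈ π.ker, d' = k * d * k⁻¹ := by
  have sqd := h.sq d hd
  have sqd' := h.sq d' hd'
  obtain ⟨e, he, hde⟩ : ∃ e ∈ D, d * e ≠ e * d := by
    by_contra hno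
    push Not at hno
    have h1 : d ∈ center G := by
      rw [mem_center_iff]
      intro g
      have hg : g ∈ closure D := by rw [h.gen]; exact mem_top g
      induction hg using closure_induction with
      | mem x hx => exact (hno x hx).symm
      | one => simp
      | mul x y _ _ hx hy => rw [mul_assoc, hy, ← mul_assoc, hx, mul_assoc]
      | inv x _ hx => exact ((show Commute x d from hx).inv_left).eq
    rw [hZ, mem_bot] at h1
    exact h.ne d hd h1
  have sqe := h.sq e he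
  have hd'e : d' * e ≠ e * d' := by
    intro hco
    apply hde
    apply commute_of_mod h hV hd he
    rw [MonoidHom.mem_ker, map_mul, map_mul, hdd, ← map_mul, ← map_mul, hco]
    have : e * d' * (e * d') = e * d' * (d' * e) := by rw [hco]
    rw [this]
    have : e * d' * (d' * e) = e * (d' * d') * e := by simp only [mul_assoc]
    rw [this, sqd', mul_one, sqe, map_one]
  have b1 := (h.braid d hd e he).resolve_left hde
  have b2 := (h.braid d' hd' e he).resolve_left hd'e
  refine ⟨e * d' * d * e, ?_, ?_⟩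
  · rw [MonoidHom.mem_ker, map_mul, map_mul, map_mul, ← hdd, mul_assoc (π e), ← map_mul, sqd,
      map_one, mul_one, ← map_mul, sqe, map_one]
  · rw [mul_inv_rev, mul_inv_rev, mul_inv_rev, TM.inv_of_sq sqd, TM.inv_of_sq sqd',
      TM.inv_of_sq sqe]
    symm
    calc e * d' * d * e * d * (e * (d * (d' * e))) =
        e * d' * d * (e * d * e) * d * d' * e := by simp only [mul_assoc]
      _ = e * d' * d * (d * e * d) * d * d' * e := by rw [b1]
      _ = e * d' * (d * d) * e * (d * d) * d' * e := by simp only [mul_assoc]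
      _ = e * (d' * e * d') * e := by rw [sqd, mul_one, mul_one]; simp only [mul_assoc]
      _ = e * (e * d' * e) * e := by rw [b2]
      _ = (e * e) * d' * (e * e) := by simp only [mul_assoc]
      _ = d' := by rw [sqe, one_mul, mul_one]

omit hF h hπ hV hc hZ [Finite G] in
/-- conjugation action of a subgroup on an invariant set -/
abbrev conjOn (H : Subgroup G) (X : Set G) (hX : ∀ a ∈ H, ∀ x ∈ X, a * x * a⁻¹ ∈ X) :
    MulAction H X where
  smul a x := ⟨(a : G) * x * (a : G)⁻¹, hX a a.2 x x.2⟩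
  one_smul x := by
    apply Subtype.ext
    change ((1 : H) : G) * x * ((1 : H) : G)⁻¹ = x
    simp
  mul_smul a b x := by
    apply Subtype.ext
    change ((a * b : H) : G) * x * ((a * b : H) : G)⁻¹ = a * (b * x * (b : G)⁻¹) * (a : G)⁻¹
    rw [coe_mul]
    group

theorem conj_scalar {v : Fin (m + 2) → F} (hv : hermForm (m + 2) F 2 v v = 0) {g : G} {c : F}
    (hc0 : c ≠ 0) (hg : act (π g) v = c • v) {x : G} (hx : π x = T hF v hv) :
    π (g * x * g⁻¹) = T hF v hv := by
  rw [map_mul, map_mul, map_inv, hx]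
  have h1 : hermForm (m + 2) F 2 (act (π g) v) (act (π g) v) = 0 := by rw [herm_act, hv]
  rw [conj_T hF (π g) v hv h1]
  have h2 : hermForm (m + 2) F 2 (c • v) (c • v) = 0 := by rw [← hg]; exact h1
  rw [T_congr hF hg h1 h2, T_smul hF c hc0 v hv h2]

theorem exists_fixed (hn5 : 5 ≤ m + 2) {v : Fin (m + 2) → F}
    (hv : hermForm (m + 2) F 2 v v = 0) (hv0 : v ≠ 0)
    {g : G} (hg3 : g * g * g = 1) {c : F} (hc0 : c ≠ 0) (hg : act (π g) v = c • v) :
    ∃ p ∈ D, π p = T hF v hv ∧ g * p = p * g := by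
  classical
  obtain ⟨d, hd, hTd⟩ := lift hF hn5 h π hπ hV hv hv0
  let X : Set G := {p | p ∈ D ∧ π p = T hF v hv}
  have hXV : ∀ a ∈ π.ker, ∀ x ∈ X, a * x * a⁻¹ ∈ X := by
    rintro a ha x ⟨hx1, hx2⟩
    refine ⟨h.conj a x hx1, ?_⟩
    rw [map_mul, map_mul, map_inv, show π a = 1 from ha, one_mul, inv_one, mul_one, hx2]
  have hXg : ∀ a ∈ zpowers g, ∀ x ∈ X, a * x * a⁻¹ ∈ X := by
    have hstep : ∀ x ∈ X, g * x * g⁻¹ ∈ X := by
      rintro x ⟨hx1, hx2⟩
      exact ⟨h.conj g x hx1, conj_scalar hF h π hπ hV hc hZ hv hc0 hg hx2⟩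
    intro a ha
    obtain ⟨k, rfl⟩ : ∃ k : ℕ, g ^ k = a := (Submonoid.mem_powers_iff _ _).1
      (mem_powers_iff_mem_zpowers.2 ha)
    clear ha
    induction k with
    | zero => intro x hx; simpa using hx
    | succ k ih =>
      intro x hx
      have h1 := hstep _ (ih x hx)
      have e1 : g ^ (k + 1) * x * (g ^ (k + 1))⁻¹ = g * (g ^ k * x * (g ^ k)⁻¹) * g⁻¹ := by
        rw [pow_succ']; group
      rw [e1]; exact h1
  have hfin : Finite X := inferInstance
  have hdX : d ∈ X := ⟨hd, hTd⟩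
  -- the cardinality of the class is a power of two
  have hcard : ¬ 3 ∣ Nat.card X := by
    let _ : MulAction π.ker X := conjOn π.ker X hXV
    have htr : MulAction.IsPretransitive π.ker X := by
      refine ⟨?_⟩
      rintro ⟨x, hx1, hx2⟩ ⟨y, hy1, hy2⟩
      obtain ⟨k, hk, hkx⟩ := class_conj h π hπ hV hc hZ hx1 hy1 (hx2.trans hy2.symm)
      exact ⟨⟨k, hk⟩, Subtype.ext hkx.symm⟩
    have h1 := MulAction.index_stabilizer_of_transitive π.ker (⟨d, hdX⟩ : X)
    have h3 : Nat.card X ∣ Nat.card π.ker := by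
      rw [← h1]
      exact (MulAction.stabilizer π.ker (⟨d, hdX⟩ : X)).index_dvd_card
    obtain ⟨k, hk⟩ := IsPGroup.iff_card.1 hV
    rw [hk] at h3
    intro h4
    have h5 : 3 ∣ 2 := Nat.Prime.dvd_of_dvd_pow Nat.prime_three (h4.trans h3)
    omega
  have hpg : IsPGroup 3 (zpowers g) := by
    intro a
    refine ⟨1, ?_⟩
    obtain ⟨k, hk⟩ := mem_zpowers_iff.1 a.2
    apply Subtype.ext
    rw [coe_pow, ← hk, pow_one]
    have h3 : g ^ (3 : ℕ) = 1 := by rw [pow_succ, pow_two, hg3]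
    calc (g ^ k) ^ 3 = (g ^ (3 : ℕ)) ^ k := by
          rw [← zpow_natCast, ← zpow_natCast, ← zpow_mul, ← zpow_mul, mul_comm]
      _ = 1 := by rw [h3, one_zpow]
  let _ : MulAction (zpowers g) X := conjOn (zpowers g) X hXg
  have : Fact (Nat.Prime 3) := ⟨Nat.prime_three⟩
  obtain ⟨⟨p, hp1, hp2⟩, hfx⟩ := hpg.nonempty_fixed_point_of_prime_not_dvd_card X hcard
  refine ⟨p, hp1, hp2, ?_⟩
  have h3 := hfx ⟨g, mem_zpowers g⟩
  have h4 : g * p * g⁻¹ = p := congrArg Subtype.val h3
  exact mul_inv_eq_iff_eq_mul.1 h4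

include hω hm h2 in
theorem uniq_fixed {v : Fin (m + 2) → F}
    (hv : hermForm (m + 2) F 2 v v = 0) (hv0 : v ≠ 0)
    {g : G} (hg : act (π g) v = ω • v) {p p' : G} (hp : p ∈ D) (hp' : p' ∈ D)
    (hTp : π p = T hF v hv) (hTp' : π p' = T hF v hv) (hgp : g * p = p * g)
    (hgp' : g * p' = p' * g) : p = p' := by
  obtain ⟨k, hk, hkp⟩ := class_conj h π hπ hV hc hZ hp hp' (hTp.trans hTp'.symm)
  have h3 := (facts hF hω hm h π hπ hV hc h2 hZ).2 v hv hv0 g p k hg hTp hk
  have hkk := h2 k hk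
  have h4 : k * (p * k * p⁻¹) = p' * p⁻¹ := by
    rw [hkp, TM.inv_of_sq hkk]
    group
  rw [h4] at h3
  have c1 : Commute g p := hgp
  have c2 : Commute g p' := hgp'
  have h5 := h3 (c2.mul_right c1.inv_right).eq
  exact (mul_inv_eq_one.1 h5).symm



section lifts

omit hF h hπ hV hc hZ

variable {y : G} (hy : ∀ x ∈ π.ker, y * x = x * y → x = 1)

include hy

theorem surj {v : G} (hv : v ∈ π.ker) : ∃ x ∈ π.ker, x * y * x⁻¹ * y⁻¹ = v := by
  have hn : π.ker.Normal := inferInstance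
  let φ : π.ker → π.ker := fun x => ⟨(x : G) * y * (x : G)⁻¹ * y⁻¹, by
    have h1 : (x : G) * y * (x : G)⁻¹ * y⁻¹ = (x : G) * (y * (x : G)⁻¹ * y⁻¹) := by group
    rw [h1]
    exact mul_mem x.2 (hn.conj_mem _ (inv_mem x.2) y)⟩
  have hinj : Function.Injective φ := by
    intro a b hab
    have h1 : (a : G) * y * (a : G)⁻¹ * y⁻¹ = (b : G) * y * (b : G)⁻¹ * y⁻¹ :=
      congrArg Subtype.val hab
    have h2 : (a : G) * y * (a : G)⁻¹ = (b : G) * y * (b : G)⁻¹ := mul_right_cancel h1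
    have h3 : y * ((b : G)⁻¹ * a) = ((b : G)⁻¹ * a) * y := by
      have h4 : (b : G)⁻¹ * ((a : G) * y * (a : G)⁻¹) * a = ((b : G)⁻¹ * a) * y := by group
      have h5 : (b : G)⁻¹ * ((b : G) * y * (b : G)⁻¹) * a = y * ((b : G)⁻¹ * a) := by group
      rw [← h4, ← h5, h2]
    have h4 := hy _ (mul_mem (inv_mem b.2) a.2) h3
    apply Subtype.ext
    exact (inv_mul_eq_one.1 h4).symm
  obtain ⟨x, hx⟩ := (Finite.injective_iff_surjective.1 hinj) ⟨v, hv⟩
  exact ⟨x, x.2, congrArg Subtype.val hx⟩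

theorem uniq {a b : G} (hab : π a = π b) (h1 : y * a = a * y) (h2 : y * b = b * y) : a = b := by
  have c1 : Commute y a := h1
  have c2 : Commute y b := h2
  have h3 := hy (b⁻¹ * a) (by
    rw [MonoidHom.mem_ker, map_mul, map_inv, hab, inv_mul_cancel]) (c2.inv_right.mul_right c1).eq
  exact (inv_mul_eq_one.1 h3).symm

include hπ in
theorem exist {s : SU (m + 2) F 2} (hs : π y * s = s * π y) :
    ∃ a : G, π a = s ∧ y * a = a * y := by
  obtain ⟨a, ha⟩ := hπ s
  have hc : a⁻¹ * y * a * y⁻¹ ∈ π.ker := by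
    rw [MonoidHom.mem_ker, map_mul, map_mul, map_mul, map_inv, map_inv, ha]
    rw [mul_assoc s⁻¹, hs]
    group
  obtain ⟨x, hx, hxc⟩ := surj π hy hc
  refine ⟨a * x, ?_, ?_⟩
  · rw [map_mul, ha, show π x = 1 from hx, mul_one]
  · have h1 : a * (x * y * x⁻¹ * y⁻¹) = y * a * y⁻¹ := by rw [hxc]; group
    calc y * (a * x) = (y * a * y⁻¹) * (y * x) := by group
      _ = a * (x * y * x⁻¹ * y⁻¹) * (y * x) := by rw [h1]
      _ = a * x * y := by group

end lifts

include hF hω h2 in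
theorem split_aux (hm6 : 6 ≤ m) (h3 : ¬ 3 ∣ m + 2) : ∃ K : Subgroup G, π.ker.IsComplement' K := by
  classical
  have hm : 4 ≤ m := by omega
  have hn5 : 5 ≤ m + 2 := by omega
  have hω0 : ω ≠ 0 := om_ne_zero hω
  obtain ⟨μ, hμ, hdet, hcs⟩ := exists_mu hF hω h3
  obtain ⟨p, hp⟩ : ∃ p : Fin (m + 2) → F, hermForm (m + 2) F 2 p p = 1 :=
    ⟨e 0, by rw [herm_e_right hF, e_self]⟩
  obtain ⟨q, hq, hqp'⟩ := exists_norm_one hF (fun _ : Fin 1 => p)
    (by intro i j; rw [if_pos (Subsingleton.elim i j)]; exact hp) (by simp)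
  have hqp : hermForm (m + 2) F 2 q p = 0 := hqp' 0
  have hpq := herm_eq_zero_swap hF hqp
  obtain ⟨δ, hδ⟩ := exists_nice hF hω hμ hdet hp hq hpq hcs
  obtain ⟨y, hyδ⟩ := hπ δ
  have hfacts := facts hF hω hm h π hπ hV hc h2 hZ
  have hy := hfacts.1 y p q (by rw [hyδ]; exact hδ)
  obtain ⟨-, -, -, -, -, nu, -, -, hnu, -, -, -, -, -, hδnu⟩ := hδ
  -- the lifts
  let N : Type _ := {c : Fin (m + 2) → F // hermForm (m + 2) F 2 c c = 1 ∧
    hermForm (m + 2) F 2 c p = 0 ∧ hermForm (m + 2) F 2 c q = 0}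
  have hex : ∀ c : N, ∃ a : G, π a = Hc hF hω hμ hdet c.2.1 ∧ y * a = a * y := by
    intro c
    apply exist π hπ hy
    rw [hyδ]
    exact H_comm hF hω hμ hdet c.2.1 hnu (hδnu c.1 c.2.2.1 c.2.2.2)
  choose H hH1 hH2 using hex
  have hH3 : ∀ c, H c * H c * H c = 1 := by
    intro c
    apply uniq π hy
    · rw [map_mul, map_mul, hH1, H_cube hF hω hμ hdet c.2.1, map_one]
    · have c1 : Commute y (H c) := hH2 c
      exact ((c1.mul_right c1).mul_right c1).eq
    · rw [mul_one, one_mul]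
  have hH4 : ∀ c c' : N, hermForm (m + 2) F 2 c.1 c'.1 = 0 → H c * H c' = H c' * H c := by
    intro c c' hcc
    have c1 : Commute y (H c) := hH2 c
    have c2 : Commute y (H c') := hH2 c'
    apply uniq π hy _ (c1.mul_right c2).eq (c2.mul_right c1).eq
    rw [map_mul, map_mul, hH1, hH1]
    exact H_comm hF hω hμ hdet c'.2.1 (omega_cube hF hω)
      (H_perp hF hω hμ hdet c.2.1 (herm_eq_zero_swap hF hcc))
  have hHv : ∀ (c : N) (v : Fin (m + 2) → F), hermForm (m + 2) F 2 v c.1 = 0 →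
      act (π (H c)) v = ω • v := by
    intro c v hvc
    rw [hH1]
    exact H_perp hF hω hμ hdet c.2.1 hvc
  -- neighbours
  have hnb1 : ∀ v w : Fin (m + 2) → F, ∃ c : N, hermForm (m + 2) F 2 v c.1 = 0 ∧
      hermForm (m + 2) F 2 w c.1 = 0 := by
    intro v w
    obtain ⟨t, ht, htc, htv, htw⟩ := P2 hF (on_two hF hp hq hpq) (by simp; omega) v w
    exact ⟨⟨t, ht, htc 0, htc 1⟩, herm_eq_zero_swap hF htv, herm_eq_zero_swap hF htw⟩
  have hnb2 : ∀ (c c' : N) (v : Fin (m + 2) → F), ∃ t : N, hermForm (m + 2) F 2 v t.1 = 0 ∧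
      hermForm (m + 2) F 2 c.1 t.1 = 0 ∧ hermForm (m + 2) F 2 c'.1 t.1 = 0 := by
    intro c c' v
    obtain ⟨t, ht, htc, htv, htw⟩ := P2 hF (on_three hF hp hq c.2.1 hpq
      (herm_eq_zero_swap hF c.2.2.1) (herm_eq_zero_swap hF c.2.2.2)) (by simp; omega) v c'.1
    exact ⟨⟨t, ht, htc 0, htc 1⟩, herm_eq_zero_swap hF htv, herm_eq_zero_swap hF (htc 2),
      herm_eq_zero_swap hF htw⟩
  -- the good members of the class
  have hstep : ∀ (c c' : N) (v : Fin (m + 2) → F) (hv : hermForm (m + 2) F 2 v v = 0), v ≠ 0 →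
      hermForm (m + 2) F 2 v c.1 = 0 → hermForm (m + 2) F 2 v c'.1 = 0 →
      hermForm (m + 2) F 2 c.1 c'.1 = 0 → ∀ s ∈ D, π s = T hF v hv → H c * s = s * H c →
      H c' * s = s * H c' := by
    intro c c' v hv hv0 hvc hvc' hcc s hs hTs hcs
    have c1 : Commute (H c) s := hcs
    have c2 : Commute (H c) (H c') := hH4 c c' hcc
    have h5 := uniq_fixed hF hω hm h π hπ hV hc h2 hZ hv hv0 (hHv c v hvc)
      (h.conj (H c') s hs) hs
      (conj_scalar hF h π hπ hV hc hZ hv hω0 (hHv c' v hvc') hTs) hTs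
      ((c2.mul_right c1).mul_right c2.inv_right).eq hcs
    exact mul_inv_eq_iff_eq_mul.1 h5
  have hindep : ∀ (c c' : N) (v : Fin (m + 2) → F) (hv : hermForm (m + 2) F 2 v v = 0), v ≠ 0 →
      hermForm (m + 2) F 2 v c.1 = 0 → hermForm (m + 2) F 2 v c'.1 = 0 →
      ∀ s ∈ D, π s = T hF v hv → H c * s = s * H c → H c' * s = s * H c' := by
    intro c c' v hv hv0 hvc hvc' s hs hTs hcs
    obtain ⟨t, htv, htc, htc'⟩ := hnb2 c c' v
    have h5 := hstep c t v hv hv0 hvc htv htc s hs hTs hcs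
    exact hstep t c' v hv hv0 htv hvc' (herm_eq_zero_swap hF htc') s hs hTs h5
  let Good : (Fin (m + 2) → F) → G → Prop := fun v s => s ∈ D ∧
    (∃ hv : hermForm (m + 2) F 2 v v = 0, π s = T hF v hv) ∧ v ≠ 0 ∧
    ∀ c : N, hermForm (m + 2) F 2 v c.1 = 0 → H c * s = s * H c
  have good_ex : ∀ (v : Fin (m + 2) → F), hermForm (m + 2) F 2 v v = 0 → v ≠ 0 →
      ∃ s, Good v s := by
    intro v hv hv0
    obtain ⟨c, hvc, -⟩ := hnb1 v v
    obtain ⟨s, hs, hTs, hcs⟩ := exists_fixed hF h π hπ hV hc hZ hn5 hv hv0 (hH3 c) hω0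
      (hHv c v hvc)
    exact ⟨s, hs, ⟨hv, hTs⟩, hv0, fun c' hvc' => hindep c c' v hv hv0 hvc hvc' s hs hTs hcs⟩
  have good_un : ∀ v s s', Good v s → Good v s' → s = s' := by
    rintro v s s' ⟨hs, ⟨hv, hTs⟩, hv0, hcs⟩ ⟨hs', ⟨_, hTs'⟩, _, hcs'⟩
    obtain ⟨c, hvc, -⟩ := hnb1 v v
    exact uniq_fixed hF hω hm h π hπ hV hc h2 hZ hv hv0 (hHv c v hvc) hs hs' hTs hTs'
      (hcs c hvc) (hcs' c hvc)
  have good_conj : ∀ v w s r, Good v s → Good w r → Good (act (π r) v) (r * s * r⁻¹) := by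
    rintro v w s r ⟨hs, ⟨hv, hTs⟩, hv0, hcs⟩ ⟨hr, ⟨hw, hTr⟩, hw0, hcr⟩
    have hv' : hermForm (m + 2) F 2 (act (π r) v) (act (π r) v) = 0 := by rw [herm_act, hv]
    have hT : π (r * s * r⁻¹) = T hF (act (π r) v) hv' := by
      rw [map_mul, map_mul, map_inv, hTs]
      exact conj_T hF (π r) v hv hv'
    have hv0' : act (π r) v ≠ 0 := by
      intro h5
      apply hv0
      rw [← act_inv_act (π r) v, h5, act_zero]
    obtain ⟨c, hvc, hwc⟩ := hnb1 v w
    have hvc' : hermForm (m + 2) F 2 (act (π r) v) c.1 = 0 := by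
      rw [hTr, act_T, herm_add_left, herm_smul_left, hvc, hwc, mul_zero, add_zero]
    have c1 : Commute (H c) s := hcs c hvc
    have c2 : Commute (H c) r := hcr c hwc
    refine ⟨h.conj r s hs, ⟨hv', hT⟩, hv0', fun c' hc' => ?_⟩
    exact hindep c c' _ hv' hv0' hvc' hc' _ (h.conj r s hs) hT
      ((c2.mul_right c1).mul_right c2.inv_right).eq
  let K : Subgroup G :=
    { carrier := {g | ∀ v s, Good v s → Good (act (π g) v) (g * s * g⁻¹)}
      mul_mem' := by
        intro a b ha hb v s hvs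
        have h5 := ha _ _ (hb v s hvs)
        rw [map_mul, act_mul]
        have e1 : a * b * s * (a * b)⁻¹ = a * (b * s * b⁻¹) * a⁻¹ := by group
        rw [e1]
        exact h5
      one_mem' := by
        intro v s hvs
        rw [map_one, act_one]
        simpa using hvs
      inv_mem' := by
        intro a ha v s hvs
        obtain ⟨hs, ⟨hv, hTs⟩, hv0, hcs⟩ := id hvs
        have hv' : hermForm (m + 2) F 2 (act (π a⁻¹) v) (act (π a⁻¹) v) = 0 := by rw [herm_act, hv]
        have hv0' : act (π a⁻¹) v ≠ 0 := by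
          intro h5
          apply hv0
          rw [map_inv] at h5
          rw [← act_act_inv (π a) v, h5, act_zero]
        obtain ⟨s', hs'⟩ := good_ex _ hv' hv0'
        have h5 := ha _ _ hs'
        rw [map_inv, act_act_inv] at h5
        have h6 := good_un _ _ _ h5 hvs
        have h7 : a⁻¹ * s * a⁻¹⁻¹ = s' := by rw [← h6]; group
        rw [h7]
        exact hs' }
  have hKmem : ∀ g, g ∈ K ↔ ∀ v s, Good v s → Good (act (π g) v) (g * s * g⁻¹) := fun g => Iff.rfl
  have hgoodK : ∀ w r, Good w r → r ∈ K := fun w r hr v s hs => good_conj v w s r hs hr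
  have hgen : ∀ L : Subgroup G, (∀ w r, Good w r → r ∈ L) → ∀ g : G, ∃ k ∈ L, π k = π g := by
    intro L hL g
    have h5 : R (n := m + 2) hF ≤ L.map π := by
      unfold R
      rw [closure_le]
      rintro _ ⟨v, hv, hv0, rfl⟩
      obtain ⟨s, hs⟩ := good_ex v hv hv0
      exact ⟨s, hL v s hs, hs.2.1.2⟩
    rw [R_eq_top hF (by omega)] at h5
    exact h5 (mem_top (π g))
  have hn : π.ker.Normal := inferInstance
  refine ⟨K, ?_⟩
  apply isComplement'_of_disjoint_and_mul_eq_univ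
  · rw [disjoint_iff, eq_bot_iff]
    rintro x ⟨hxV, hxK⟩
    rw [mem_bot]
    have hx1 : ∀ w r, Good w r → r ∈ centralizer {x} := by
      intro w r hr
      have h5 := (hKmem x).1 hxK w r hr
      rw [show π x = 1 from hxV, act_one] at h5
      have h6 := good_un _ _ _ h5 hr
      rw [mem_centralizer_singleton_iff]
      first
        | exact mul_inv_eq_iff_eq_mul.1 h6
        | exact (mul_inv_eq_iff_eq_mul.1 h6).symm
    have hcen : x ∈ center G := by
      rw [mem_center_iff]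
      intro g
      obtain ⟨k, hk, hkg⟩ := hgen _ hx1 g
      rw [mem_centralizer_singleton_iff] at hk
      have h5 : k⁻¹ * g ∈ π.ker := by
        rw [MonoidHom.mem_ker, map_mul, map_inv, hkg, inv_mul_cancel]
      have h6 := hc _ h5 _ hxV
      calc g * x = k * (k⁻¹ * g * x) := by group
        _ = k * (x * (k⁻¹ * g)) := by rw [h6]
        _ = (k * x) * (k⁻¹ * g) := by group
        _ = (x * k) * (k⁻¹ * g) := by
            rw [hk]
        _ = x * g := by group
    rwa [hZ, mem_bot] at hcen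
  · rw [Set.eq_univ_iff_forall]
    intro g
    obtain ⟨k, hk, hkg⟩ := hgen K hgoodK g
    refine Set.mem_mul.2 ⟨g * k⁻¹, ?_, k, hk, by group⟩
    change g * k⁻¹ ∈ π.ker
    rw [MonoidHom.mem_ker, map_mul, map_inv, hkg, mul_inv_cancel]

end Cfsg.Agent.H893.SplitU

namespace Cfsg.Agent.H893

open Cfsg Cfsg.Agent.LieClassical.HermBasic Cfsg.Agent.ClassicalGeometry.UnitTransv
open Cfsg.Agent.SporadicStructure.UnitTwo Cfsg.Agent.H854.ClassBasic

/-- splitting over `SU_n(2)`, `n ≥ 8`, `3 ∤ n` -/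
theorem split_u {F : Type*} [Field F] [Fintype F] (hF : Fintype.card F = 2 ^ 2) {n : ℕ}
    (hn : 8 ≤ n) (h3 : ¬ 3 ∣ n) {G : Type*} [Group G] [Finite G] {D : Set G} (h : Cls D)
    (π : G →* SU n F 2) (hπ : Function.Surjective π) (hV : IsPGroup 2 π.ker)
    (hZ : Subgroup.center G = ⊥) : ∃ K : Subgroup G, π.ker.IsComplement' K := by
  obtain ⟨m, rfl⟩ : ∃ m, n = m + 2 := ⟨n - 2, by omega⟩
  obtain ⟨ω, hω⟩ := exists_omega hF
  obtain ⟨hc, h2⟩ := H854.Seven.seven hF h (by omega) π hπ hV hZ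
  exact SplitU.split_aux hF hω h π hπ hV hc h2 hZ (by omega) h3

end Cfsg.Agent.H893
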