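import Mathlib

/-!
# The composition length of a finite group

`clen G` is the largest length of a subnormal chain from `⊥` to `⊤`.

* `le_clen_of_chain` : the bridge from chains `H : Fin (l + 1) → Subgroup G`;
* `clen_of_surjective` : `clen G = clen f.ker + clen Q`;
* `clen_range` : `clen G = clen f.ker + clen f.range`;
* `clen_quotient` : `clen G = clen N + clen (G ⧸ N)`;
* `clen_congr`, `clen_le_of_normal`, `clen_le_of_surjective`, `clen_of_simple`;
* `clen_le_cardFactors`, `two_pow_clen_le`;
* `clen_le_sum` : subdirect products.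
-/

set_option autoImplicit false

namespace Cfsg.Agent.H893

open Subgroup ArithmeticFunction

/-- `B` is normalised by `C`. -/
def NIn {G : Type*} [Group G] (B C : Subgroup G) : Prop := ∀ c ∈ C, ∀ b ∈ B, c * b * c⁻¹ ∈ B

theorem subgroupOf_normal_iff {G : Type*} [Group G] {B C : Subgroup G} (h : B ≤ C) :
    (B.subgroupOf C).Normal ↔ NIn B C := by
  constructor
  · intro hn c hc b hb
    exact hn.conj_mem ⟨b, h hb⟩ hb ⟨c, hc⟩
  · intro hn
    exact ⟨fun b hb c => hn c c.2 b hb⟩

/-- `Ch l A B` : there is a chain `A = H₀ < H₁ < ⋯ < H_l = B`, each term normal in the next. -/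
inductive Ch {G : Type*} [Group G] : ℕ → Subgroup G → Subgroup G → Prop
  | refl (A : Subgroup G) : Ch 0 A A
  | step {l : ℕ} {A B C : Subgroup G} (h : Ch l A B) (hlt : B < C) (hn : NIn B C) : Ch (l + 1) A C

section basics

variable {G Q : Type*} [Group G] [Group Q]

theorem Ch.le {l : ℕ} {A B : Subgroup G} (h : Ch l A B) : A ≤ B := by
  induction h with
  | refl A => exact le_rfl
  | step _ hlt _ ih => exact ih.trans hlt.le

theorem Ch.trans {l m : ℕ} {A B C : Subgroup G} (h : Ch l A B) (h' : Ch m B C) :
    Ch (l + m) A C := by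
  induction h' with
  | refl A => exact h
  | step _ hlt hn ih => exact (ih h).step hlt hn

theorem ch_of_chain : ∀ (l : ℕ) (H : Fin (l + 1) → Subgroup G)
    (_ : ∀ i : Fin l, H i.castSucc < H i.succ ∧ ((H i.castSucc).subgroupOf (H i.succ)).Normal),
    Ch l (H 0) (H (Fin.last l)) := by
  intro l
  induction l with
  | zero =>
    intro H _
    exact Ch.refl _
  | succ l ih =>
    intro H hc
    have h1 := ih (fun i => H i.castSucc) (fun i => by
      have := hc i.castSucc
      exact this)
    have h2 := hc (Fin.last l)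
    refine Ch.step (B := H (Fin.last l).castSucc) h1 h2.1 ?_
    exact (subgroupOf_normal_iff h2.1.le).mp h2.2

theorem chain_of_ch {l : ℕ} {A B : Subgroup G} (h : Ch l A B) :
    ∃ H : Fin (l + 1) → Subgroup G, H 0 = A ∧ H (Fin.last l) = B ∧
      ∀ i : Fin l, H i.castSucc < H i.succ ∧ ((H i.castSucc).subgroupOf (H i.succ)).Normal := by
  induction h with
  | refl A => exact ⟨fun _ => A, rfl, rfl, fun i => i.elim0⟩
  | @step l A B C _ hlt hn ih =>
    obtain ⟨H, h0, hl, hc⟩ := ih
    refine ⟨Fin.snoc (α := fun _ => Subgroup G) H C, ?_, ?_, ?_⟩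
    · have : (0 : Fin (l + 1 + 1)) = Fin.castSucc 0 := rfl
      rw [this, Fin.snoc_castSucc, h0]
    · rw [Fin.snoc_last]
    · intro i
      refine Fin.lastCases ?_ (fun j => ?_) i
      · rw [Fin.snoc_castSucc, Fin.succ_last, Fin.snoc_last, hl]
        exact ⟨hlt, (subgroupOf_normal_iff hlt.le).mpr hn⟩
      · rw [Fin.snoc_castSucc, Fin.succ_castSucc, Fin.snoc_castSucc]
        exact hc j

/-- the length of a chain is bounded by the number of prime factors -/
theorem Ch.bound [Finite G] {l : ℕ} {A B : Subgroup G} (h : Ch l A B) :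
    l + cardFactors (Nat.card A) ≤ cardFactors (Nat.card B) := by
  induction h with
  | refl A => simp
  | @step l A B C _ hlt hn ih =>
    have h1 : cardFactors (Nat.card B) + 1 ≤ cardFactors (Nat.card C) := by
      obtain ⟨k, hk⟩ := Subgroup.card_dvd_of_le hlt.le
      have hC : Nat.card C ≠ 0 := Nat.card_pos.ne'
      have hB : Nat.card B ≠ 0 := Nat.card_pos.ne'
      have hk0 : k ≠ 0 := by
        rintro rfl
        exact hC (by rw [hk, mul_zero])
      have hk1 : k ≠ 1 := by
        rintro rfl
        rw [mul_one] at hk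
        exact hlt.ne (Subgroup.eq_of_le_of_card_ge hlt.le hk.le)
      rw [hk, cardFactors_mul hB hk0]
      have h3 : cardFactors k ≠ 0 := by
        rw [cardFactors_apply]
        intro h
        rw [List.length_eq_zero_iff, Nat.primeFactorsList_eq_nil] at h
        omega
      omega
    omega

theorem exists_ch : ∃ l, Ch l (⊥ : Subgroup G) ⊤ := by
  by_cases h : (⊥ : Subgroup G) = ⊤
  · exact ⟨0, by rw [← h]; exact Ch.refl _⟩
  · refine ⟨1, (Ch.refl (⊥ : Subgroup G)).step (lt_of_le_of_ne bot_le h) ?_⟩
    intro c _ b hb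
    rw [mem_bot] at hb
    subst hb
    simp

/-- transport of a chain along an injective homomorphism -/
theorem Ch.map_inj {f : G →* Q} (hf : Function.Injective f) {l : ℕ} {A B : Subgroup G}
    (h : Ch l A B) : Ch l (A.map f) (B.map f) := by
  induction h with
  | refl A => exact Ch.refl _
  | @step l A B C _ hlt hn ih =>
    refine ih.step ?_ ?_
    · exact (Subgroup.map_lt_map_iff_of_injective hf).mpr hlt
    · rintro _ ⟨c, hc, rfl⟩ _ ⟨b, hb, rfl⟩
      exact ⟨c * b * c⁻¹, hn c hc b hb, by simp⟩

/-- preimages of a chain along a surjective homomorphism -/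
theorem Ch.comap_surj {f : G →* Q} (hf : Function.Surjective f) {l : ℕ} {A B : Subgroup Q}
    (h : Ch l A B) : Ch l (A.comap f) (B.comap f) := by
  induction h with
  | refl A => exact Ch.refl _
  | @step l A B C _ hlt hn ih =>
    refine ih.step ?_ ?_
    · exact (Subgroup.comap_lt_comap_of_surjective hf).mpr hlt
    · intro c hc b hb
      rw [mem_comap] at *
      rw [map_mul, map_mul, map_inv]
      exact hn _ hc _ hb

/-- splitting a chain along a homomorphism -/
theorem Ch.split (f : G →* Q) {l : ℕ} {A B : Subgroup G} (h : Ch l A B) :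
    ∃ l₁ l₂, l ≤ l₁ + l₂ ∧ Ch l₁ (A.comap f.ker.subtype) (B.comap f.ker.subtype) ∧
      Ch l₂ (A.map f) (B.map f) := by
  induction h with
  | refl A => exact ⟨0, 0, le_rfl, Ch.refl _, Ch.refl _⟩
  | @step l A B C _ hlt hn ih =>
    obtain ⟨l₁, l₂, hl, h1, h2⟩ := ih
    have hn1 : NIn (B.comap f.ker.subtype) (C.comap f.ker.subtype) := by
      intro c hc b hb
      rw [mem_comap] at *
      exact hn _ hc _ hb
    have hn2 : NIn (B.map f) (C.map f) := by
      rintro _ ⟨c, hc, rfl⟩ _ ⟨b, hb, rfl⟩
      exact ⟨c * b * c⁻¹, hn c hc b hb, by simp⟩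
    have hle1 : B.comap f.ker.subtype ≤ C.comap f.ker.subtype := comap_mono hlt.le
    have hle2 : B.map f ≤ C.map f := map_mono hlt.le
    by_cases he1 : B.comap f.ker.subtype = C.comap f.ker.subtype
    · by_cases he2 : B.map f = C.map f
      · exfalso
        apply hlt.not_ge
        intro c hc
        have h3 : f c ∈ B.map f := by rw [he2]; exact mem_map_of_mem f hc
        obtain ⟨b, hb, hbc⟩ := h3
        have hk : b⁻¹ * c ∈ f.ker := by
          rw [MonoidHom.mem_ker, map_mul, map_inv, hbc, inv_mul_cancel]
        have h4 : (⟨b⁻¹ * c, hk⟩ : f.ker) ∈ B.comap f.ker.subtype := by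
          rw [he1, mem_comap]
          exact C.mul_mem (C.inv_mem (hlt.le hb)) hc
        rw [mem_comap] at h4
        have h5 := B.mul_mem hb h4
        simpa using h5
      · exact ⟨l₁, l₂ + 1, by omega, he1 ▸ h1, h2.step (lt_of_le_of_ne hle2 he2) hn2⟩
    · by_cases he2 : B.map f = C.map f
      · exact ⟨l₁ + 1, l₂, by omega, h1.step (lt_of_le_of_ne hle1 he1) hn1, he2 ▸ h2⟩
      · exact ⟨l₁ + 1, l₂ + 1, by omega, h1.step (lt_of_le_of_ne hle1 he1) hn1,
          h2.step (lt_of_le_of_ne hle2 he2) hn2⟩

end basics

/-- The composition length: the largest length of a subnormal chain from `⊥` to `⊤`. -/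
noncomputable def clen (G : Type*) [Group G] : ℕ := sSup {l | Ch l (⊥ : Subgroup G) ⊤}

section

variable {G Q : Type*} [Group G] [Group Q]

theorem bddAbove_ch [Finite G] : BddAbove {l | Ch l (⊥ : Subgroup G) ⊤} := by
  refine ⟨cardFactors (Nat.card (⊤ : Subgroup G)), fun l hl => ?_⟩
  have := Ch.bound hl
  omega

theorem le_clen [Finite G] {l : ℕ} (h : Ch l (⊥ : Subgroup G) ⊤) : l ≤ clen G :=
  le_csSup bddAbove_ch h

theorem clen_ch [Finite G] : Ch (clen G) (⊥ : Subgroup G) ⊤ :=
  Nat.sSup_mem exists_ch bddAbove_ch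

/-- The bridge from the chains of the statements. -/
theorem le_clen_of_chain [Finite G] (l : ℕ) (H : Fin (l + 1) → Subgroup G) (h0 : H 0 = ⊥)
    (hl : H (Fin.last l) = ⊤)
    (hchain : ∀ i : Fin l, H i.castSucc < H i.succ ∧ ((H i.castSucc).subgroupOf (H i.succ)).Normal) :
    l ≤ clen G := by
  apply le_clen
  have := ch_of_chain l H hchain
  rwa [h0, hl] at this

theorem clen_le_cardFactors [Finite G] : clen G ≤ cardFactors (Nat.card G) := by
  have := Ch.bound (clen_ch (G := G))
  rw [Subgroup.card_top] at this
  omega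

theorem two_pow_cardFactors_le (n : ℕ) (hn : n ≠ 0) : 2 ^ cardFactors n ≤ n := by
  rw [cardFactors_apply]
  conv_rhs => rw [← Nat.prod_primeFactorsList hn]
  have : ∀ L : List ℕ, (∀ p ∈ L, 2 ≤ p) → 2 ^ L.length ≤ L.prod := by
    intro L
    induction L with
    | nil => intro _; simp
    | cons a L ih =>
      intro h
      rw [List.length_cons, List.prod_cons, pow_succ, mul_comm]
      exact Nat.mul_le_mul (h a (by simp)) (ih fun p hp => h p (by simp [hp]))
  exact this _ fun p hp => (Nat.prime_of_mem_primeFactorsList hp).two_le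

theorem two_pow_clen_le [Finite G] : 2 ^ clen G ≤ Nat.card G :=
  (Nat.pow_le_pow_right (by norm_num) clen_le_cardFactors).trans
    (two_pow_cardFactors_le _ Nat.card_pos.ne')

theorem cardFactors_le_of_dvd {m n : ℕ} (h : m ∣ n) (hn : n ≠ 0) :
    cardFactors m ≤ cardFactors n := by
  obtain ⟨k, rfl⟩ := h
  have hm : m ≠ 0 := left_ne_zero_of_mul hn
  have hk : k ≠ 0 := right_ne_zero_of_mul hn
  rw [cardFactors_mul hm hk]
  omega

theorem clen_le_cardFactors_of_dvd [Finite G] {n : ℕ} (hn : n ≠ 0) (h : Nat.card G ∣ n) :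
    clen G ≤ cardFactors n :=
  clen_le_cardFactors.trans (cardFactors_le_of_dvd h hn)

theorem clen_le_of_injective [Finite Q] (f : G →* Q) (hf : Function.Injective f)
    (hn : f.range.Normal) : clen G ≤ clen Q := by
  have : Finite G := Finite.of_injective f hf
  have h1 := (clen_ch (G := G)).map_inj hf
  rw [Subgroup.map_bot, ← MonoidHom.range_eq_map] at h1
  by_cases h : f.range = ⊤
  · rw [h] at h1
    exact le_clen h1
  · refine le_trans (Nat.le_succ _) (le_clen (h1.step (lt_of_le_of_ne le_top h) ?_))
    intro c _ b hb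
    exact hn.conj_mem b hb c

theorem clen_congr (e : G ≃* Q) : clen G = clen Q := by
  unfold clen
  congr 1
  ext l
  constructor
  · intro h
    have := Ch.map_inj (f := e.toMonoidHom) e.injective h
    rwa [Subgroup.map_bot, ← MonoidHom.range_eq_map,
      MonoidHom.range_eq_top.mpr e.surjective] at this
  · intro h
    have := Ch.map_inj (f := e.symm.toMonoidHom) e.symm.injective h
    rwa [Subgroup.map_bot, ← MonoidHom.range_eq_map,
      MonoidHom.range_eq_top.mpr e.symm.surjective] at this

theorem clen_of_surjective [Finite G] (f : G →* Q) (hf : Function.Surjective f) :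
    clen G = clen f.ker + clen Q := by
  have : Finite Q := Finite.of_surjective f hf
  apply le_antisymm
  · obtain ⟨l₁, l₂, hl, h1, h2⟩ := (clen_ch (G := G)).split f
    have e1 : (⊥ : Subgroup G).comap f.ker.subtype = ⊥ := by
      rw [MonoidHom.comap_bot, Subgroup.ker_subtype]
    rw [e1, Subgroup.comap_top] at h1
    rw [Subgroup.map_bot, ← MonoidHom.range_eq_map, MonoidHom.range_eq_top.mpr hf] at h2
    exact hl.trans (add_le_add (le_clen h1) (le_clen h2))
  · have h1 := (clen_ch (G := f.ker)).map_inj (f := f.ker.subtype) f.ker.subtype_injective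
    rw [Subgroup.map_bot, ← MonoidHom.range_eq_map, Subgroup.range_subtype] at h1
    have h2 := (clen_ch (G := Q)).comap_surj hf
    rw [Subgroup.comap_top, MonoidHom.comap_bot] at h2
    exact le_clen (h1.trans h2)

theorem clen_range [Finite G] (f : G →* Q) : clen G = clen f.ker + clen f.range := by
  rw [clen_of_surjective f.rangeRestrict f.rangeRestrict_surjective,
    clen_congr (MulEquiv.subgroupCongr f.ker_rangeRestrict)]

theorem clen_quotient [Finite G] (N : Subgroup G) [N.Normal] :
    clen G = clen N + clen (G ⧸ N) := by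
  rw [clen_of_surjective (QuotientGroup.mk' N) (QuotientGroup.mk'_surjective N),
    clen_congr (MulEquiv.subgroupCongr (QuotientGroup.ker_mk' N))]

theorem clen_le_of_normal [Finite G] (N : Subgroup G) [N.Normal] : clen N ≤ clen G := by
  rw [clen_quotient N]
  omega

theorem clen_le_of_surjective [Finite G] (f : G →* Q) (hf : Function.Surjective f) :
    clen Q ≤ clen G := by
  rw [clen_of_surjective f hf]
  omega

theorem clen_range_le [Finite G] (f : G →* Q) : clen f.range ≤ clen G := by
  rw [clen_range f]
  omega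

theorem clen_quotient_le [Finite G] (N : Subgroup G) [N.Normal] : clen (G ⧸ N) ≤ clen G := by
  rw [clen_quotient N]
  omega

theorem clen_of_subsingleton [Subsingleton G] : clen G = 0 := by
  have h := clen_le_cardFactors (G := G)
  rw [Nat.card_unique] at h
  simpa using h

theorem clen_of_bot : clen (⊥ : Subgroup G) = 0 := clen_of_subsingleton

theorem clen_of_top : clen (⊤ : Subgroup G) = clen G := clen_congr Subgroup.topEquiv

theorem clen_pos [Finite G] [Nontrivial G] : 0 < clen G := by
  apply Nat.lt_of_lt_of_le one_pos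
  refine le_clen ((Ch.refl (⊥ : Subgroup G)).step bot_lt_top ?_)
  intro c _ b hb
  rw [mem_bot] at hb
  subst hb
  simp

theorem clen_of_simple [Finite G] [IsSimpleGroup G] : clen G = 1 := by
  apply le_antisymm _ clen_pos
  by_contra hcon
  push Not at hcon
  have h := clen_ch (G := G)
  obtain ⟨m, hm⟩ : ∃ m, clen G = m + 2 := ⟨clen G - 2, by omega⟩
  rw [hm] at h
  cases h with
  | @step _ _ B _ h hlt hn =>
    have hBn : B.Normal := ⟨fun b hb c => hn c (mem_top c) b hb⟩
    rcases hBn.eq_bot_or_eq_top with h1 | h1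
    · subst h1
      cases h with
      | step h hlt' _ =>
        exact not_lt_bot hlt'
    · exact hlt.ne h1

/-- `clen` of a subgroup `C` with a normal subgroup `B ≤ C`, all inside an ambient group,
with a homomorphism from `C` with kernel `B`. -/
theorem clen_subgroup (B C : Subgroup G) [Finite C] (h : B ≤ C)
    [hn : (B.subgroupOf C).Normal] :
    clen C = clen B + clen (C ⧸ B.subgroupOf C) := by
  rw [clen_quotient (B.subgroupOf C), clen_congr (Subgroup.subgroupOfEquivOfLe h)]

theorem clen_le_of_le_of_normal (B C : Subgroup G) [Finite C] (h : B ≤ C)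
    (hn : (B.subgroupOf C).Normal) : clen B ≤ clen C := by
  rw [clen_subgroup B C h]
  omega

/-- Subdirect products. -/
theorem clen_le_sum {ι : Type*} [Finite G] (s : Finset ι) {R : ι → Type*} [∀ i, Group (R i)]
    (f : ∀ i, G →* R i) (hf : ∀ g, (∀ i ∈ s, f i g = 1) → g = 1) :
    clen G ≤ ∑ i ∈ s, clen (f i).range := by
  classical
  -- for a normal subgroup `N` which meets the intersection of the kernels trivially
  have key : ∀ (s : Finset ι) (N : Subgroup G), N.Normal →
      (∀ g ∈ N, (∀ i ∈ s, f i g = 1) → g = 1) → clen N ≤ ∑ i ∈ s, clen (f i).range := by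
    intro s
    induction s using Finset.induction_on with
    | empty =>
      intro N _ hN
      have : N = ⊥ := by
        rw [eq_bot_iff]
        intro g hg
        exact hN g hg (by simp)
      subst this
      simp [clen_of_bot]
    | insert a s ha ih =>
      intro N hNn hN
      rw [Finset.sum_insert ha]
      -- the kernel of `f a` on `N`
      have h1 := clen_range ((f a).comp N.subtype)
      rw [h1, add_comm]
      have h2 : clen ((f a).comp N.subtype).range ≤ clen (f a).range := by
        have hle : ((f a).comp N.subtype).range ≤ (f a).range := by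
          rintro _ ⟨x, rfl⟩
          exact ⟨x, rfl⟩
        have : Finite (f a).range := Finite.of_surjective _ (f a).rangeRestrict_surjective
        refine clen_le_of_le_of_normal _ _ hle ?_
        rw [subgroupOf_normal_iff hle]
        rintro _ ⟨c, rfl⟩ _ ⟨b, rfl⟩
        refine ⟨⟨c * b * c⁻¹, hNn.conj_mem _ b.2 c⟩, ?_⟩
        simp
      have h3 : clen ((f a).comp N.subtype).ker ≤ ∑ i ∈ s, clen (f i).range := by
        have e : ((f a).comp N.subtype).ker ≃* (N ⊓ (f a).ker : Subgroup G) :=
          { toFun := fun x => ⟨x.1.1, x.1.2, x.2⟩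
            invFun := fun x => ⟨⟨x.1, x.2.1⟩, x.2.2⟩
            left_inv := fun x => rfl
            right_inv := fun x => rfl
            map_mul' := fun x y => rfl }
        rw [clen_congr e]
        apply ih (N ⊓ (f a).ker) inferInstance
        intro g hg hg'
        apply hN g hg.1
        intro i hi
        rcases Finset.mem_insert.mp hi with rfl | hi
        · exact hg.2
        · exact hg' i hi
      omega
  have := key s ⊤ inferInstance (fun g _ h => hf g h)
  rwa [clen_of_top] at this

end

end Cfsg.Agent.H893
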