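import Cfsg.Agent.H893.OutBd
import Cfsg.Agent.S0704

/-!
# Primitive groups with a non-abelian minimal normal subgroup

`nonaff_bound` : `5 ^ (3 * clen G + 4) ≤ n ^ 10`.
-/

set_option autoImplicit false

namespace Cfsg.Agent.H893

open Subgroup Equiv ArithmeticFunction

theorem clen_pi_range {ι G : Type*} [Fintype ι] [Group G] [Finite G] {R : ι → Type*}
    [∀ i, Group (R i)] (f : G →* ∀ i, R i) :
    clen f.range ≤ ∑ i, clen ((Pi.evalMonoidHom R i).comp f).range := by
  have : Finite f.range := Finite.of_surjective _ f.rangeRestrict_surjective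
  refine (clen_le_sum (G := f.range) Finset.univ
    (fun i => (Pi.evalMonoidHom R i).comp f.range.subtype) ?_).trans ?_
  · intro g hg
    exact Subtype.ext (funext fun i => hg i (Finset.mem_univ i))
  · apply Finset.sum_le_sum
    intro i _
    have h1 : ((Pi.evalMonoidHom R i).comp f.range.subtype).range =
        ((Pi.evalMonoidHom R i).comp f).range := by
      rw [MonoidHom.range_comp, MonoidHom.range_comp, range_subtype]
    rw [h1]

namespace Fac

variable {G : Type*} [Group G] {N : Subgroup G} {m : ℕ} {T : Fin m → Subgroup G}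
  {e : N ≃* (∀ i, T i)}

/-- the action of the kernel of `perm` on a factor -/
noncomputable def kap (h : Fac N m T e) (i : Fin m) : h.perm.ker →* MulAut (T i) :=
  (normalizerMonoidHom (T i)).comp
    (Subgroup.inclusion fun k hk => (h.mem_ker_perm k).mp hk i)

theorem kap_apply (h : Fac N m T e) (i : Fin m) (k : h.perm.ker) (t : T i) :
    ((h.kap i k t : T i) : G) = k * (t : G) * (k : G)⁻¹ := rfl

/-- the image of the kernel of `perm` in the automorphism group of a factor -/
noncomputable def im (h : Fac N m T e) (i : Fin m) : Subgroup (MulAut (T i)) := (h.kap i).range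

/-- an element of `N` acts on a factor as its coordinate -/
theorem kap_of_mem [N.Normal] (h : Fac N m T e) (i : Fin m) (n : N) :
    h.kap i ⟨n, h.le_ker_perm n.2⟩ = MulAut.conj (e n i) := by
  ext t
  rw [h.kap_apply, MulAut.conj_apply]
  have h1 := h.conj_coord (fun i => h.norm i n.2) (e.symm (Pi.mulSingle i t)) i
  rw [MulEquiv.apply_symm_apply, Pi.mulSingle_eq_same] at h1
  change (n : G) * (t : G) * (n : G)⁻¹ = _
  rw [← h1]
  have h2 : cj N n (e.symm (Pi.mulSingle i t)) = n * e.symm (Pi.mulSingle i t) * n⁻¹ := rfl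
  rw [h2, map_mul, map_mul, MulEquiv.apply_symm_apply, map_inv, Pi.mul_apply, Pi.mul_apply,
    Pi.mulSingle_eq_same, Pi.inv_apply]

/-- The composition length of the kernel on the factors. -/
theorem clen_ker_perm [Finite G] [N.Normal] (h : Fac N m T e) :
    clen h.perm.ker ≤ clen (centralizer (N : Set G)) + m + ∑ i, beta (h.im i) := by
  classical
  let g : h.perm.ker →* ∀ i, Out (T i) :=
    MonoidHom.pi fun i => (QuotientGroup.mk' (Inn (T i))).comp (h.kap i)
  have h1 := clen_range g
  have h2 : clen g.range ≤ ∑ i, beta (h.im i) := by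
    refine (clen_pi_range g).trans (le_of_eq ?_)
    apply Finset.sum_congr rfl
    intro i _
    have h3 : ((Pi.evalMonoidHom (fun i => Out (T i)) i).comp g).range =
        (h.im i).map (QuotientGroup.mk' (Inn (T i))) := by
      have h4 : (Pi.evalMonoidHom (fun i => Out (T i)) i).comp g =
        (QuotientGroup.mk' (Inn (T i))).comp (h.kap i) := rfl
      rw [h4, MonoidHom.range_comp]
      rfl
    rw [h3]
    rfl
  have hgker : ∀ x : h.perm.ker, x ∈ g.ker ↔ ∀ i, h.kap i x ∈ Inn (T i) := by
    intro x
    rw [MonoidHom.mem_ker, funext_iff]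
    exact forall_congr' fun i => QuotientGroup.eq_one_iff _
  let κ : g.ker →* ∀ i, MulAut (T i) := (MonoidHom.pi h.kap).comp g.ker.subtype
  have h3 := clen_range κ
  have h4 : clen κ.range ≤ m := by
    refine (clen_pi_range κ).trans ?_
    calc ∑ i, clen ((Pi.evalMonoidHom (fun i => MulAut (T i)) i).comp κ).range
        ≤ ∑ _i : Fin m, 1 := by
          apply Finset.sum_le_sum
          intro i _
          have h5 : ((Pi.evalMonoidHom (fun i => MulAut (T i)) i).comp κ).range = Inn (T i) := by
            ext α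
            constructor
            · rintro ⟨x, rfl⟩
              exact (hgker x.1).mp x.2 i
            · rintro ⟨t, rfl⟩
              have h6 : h.kap i ⟨(t : G), h.le_ker_perm (h.le i t.2)⟩ = MulAut.conj t := by
                ext s
                rfl
              refine ⟨⟨⟨(t : G), h.le_ker_perm (h.le i t.2)⟩, ?_⟩, h6⟩
              rw [hgker]
              intro j
              exact ⟨_, (h.kap_of_mem j ⟨t, h.le i t.2⟩).symm⟩
          have h7 : IsSimpleGroup (T i) := h.simple i
          have h8 : clen (Inn (T i)) = 1 := by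
            rw [← clen_congr (MonoidHom.ofInjective (conj_injective (h.nonab i))), clen_of_simple]
          rw [h5, h8]
      _ = m := by simp
  have h5 : clen κ.ker = clen (centralizer (N : Set G)) := by
    have hcen : ∀ c : G, c ∈ centralizer (N : Set G) → c ∈ h.perm.ker := by
      intro c hc
      rw [h.mem_ker_perm]
      intro i
      rw [mem_normalizer_iff]
      have h6 : ∀ t ∈ N, c * t * c⁻¹ = t := by
        intro t ht
        rw [mul_inv_eq_iff_eq_mul]
        exact (mem_centralizer_iff.mp hc t ht).symm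
      intro t
      constructor
      · intro ht
        rw [h6 t (h.le i ht)]
        exact ht
      · intro ht
        have h7 : c * t * c⁻¹ ∈ N := h.le i ht
        have h8 : t ∈ N := by
          have h9 := (inferInstance : N.Normal).conj_mem _ h7 c⁻¹
          simpa [mul_assoc] using h9
        rwa [h6 t h8] at ht
    have hcen' : ∀ x : h.perm.ker, (x : G) ∈ centralizer (N : Set G) ↔ ∀ i, h.kap i x = 1 := by
      intro x
      constructor
      · intro hx i
        ext t
        rw [h.kap_apply]
        change _ = (t : G)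
        rw [mul_inv_eq_iff_eq_mul]
        exact (mem_centralizer_iff.mp hx t (h.le i t.2)).symm
      · intro hx
        rw [mem_centralizer_iff]
        intro n hn
        have h6 : cj N x ⟨n, hn⟩ = ⟨n, hn⟩ := by
          apply e.injective
          funext i
          apply Subtype.ext
          rw [h.conj_coord ((h.mem_ker_perm x).mp x.2)]
          have h7 := congrArg (fun α : MulAut (T i) => ((α (e ⟨n, hn⟩ i) : T i) : G)) (hx i)
          exact h7
        have h7 : (x : G) * n * (x : G)⁻¹ = n := congrArg Subtype.val h6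
        rw [mul_inv_eq_iff_eq_mul] at h7
        exact h7.symm
    have hker : ∀ x : g.ker, x ∈ κ.ker ↔ ∀ i, h.kap i x.1 = 1 := by
      intro x
      rw [MonoidHom.mem_ker, funext_iff]
      rfl
    let E : κ.ker ≃* centralizer (N : Set G) :=
      { toFun := fun x => ⟨x.1.1.1, (hcen' x.1.1).mpr ((hker x.1).mp x.2)⟩
        invFun := fun c => ⟨⟨⟨c.1, hcen c.1 c.2⟩, (hgker _).mpr fun i => by
            rw [(hcen' ⟨c.1, hcen c.1 c.2⟩).mp c.2 i]
            exact one_mem _⟩, (hker _).mpr ((hcen' ⟨c.1, hcen c.1 c.2⟩).mp c.2)⟩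
        left_inv := fun x => rfl
        right_inv := fun x => rfl
        map_mul' := fun x y => rfl }
    exact clen_congr E
  omega

end Fac

theorem pow_sum_le {m : ℕ} (f : Fin m → ℕ) (g : Fin m → ℕ) (h : ∀ i, 5 ^ f i ≤ g i) :
    5 ^ (∑ i, f i) ≤ ∏ i, g i := by
  rw [← Finset.prod_pow_eq_pow_sum]
  exact Finset.prod_le_prod' fun i _ => h i

theorem exists_min_normal_le {G : Type*} [Group G] [Finite G] (C : Subgroup G) [C.Normal]
    (hC : C ≠ ⊥) :
    ∃ M : Subgroup G, M.Normal ∧ M ≤ C ∧ M ≠ ⊥ ∧
      ∀ M' : Subgroup G, M'.Normal → M' ≤ M → M' = ⊥ ∨ M' = M := by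
  have hfin : {M : Subgroup G | M.Normal ∧ M ≤ C ∧ M ≠ ⊥}.Finite := Set.toFinite _
  obtain ⟨M, ⟨h1, h2, h3⟩, h4⟩ := hfin.exists_minimal ⟨C, inferInstance, le_rfl, hC⟩
  refine ⟨M, h1, h2, h3, fun M' hM' hle => ?_⟩
  by_cases hbot : M' = ⊥
  · exact Or.inl hbot
  · exact Or.inr (le_antisymm hle (h4 ⟨hM', hle.trans h2, hbot⟩ hle))

/-- the permutation group induced on the factors -/
theorem clen_perm_range {G : Type*} [Group G] [Finite G] {N : Subgroup G} {m : ℕ}
    {T : Fin m → Subgroup G} {e : N ≃* (∀ i, T i)} (h : Fac N m T e) :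
    3 * clen h.perm.range + 4 ≤ 4 * m := by
  have hm := h.pos
  have b3 := clen_action_le h.perm (ι := Unit) (fun _ => ()) (by
    intro i
    exact ⟨⟨0, hm⟩, rfl⟩) (fun _ _ => rfl)
  rw [Nat.card_unique] at b3
  simpa using b3

/-- Primitive groups with a non-abelian minimal normal subgroup -/
theorem nonaff_bound {Ω : Type*} [Finite Ω] (G : Subgroup (Perm Ω))
    (hG : MulAction.IsPreprimitive G Ω) [Nonempty Ω] (N : Subgroup G) [N.Normal] (hN : N ≠ ⊥)
    (hmin : ∀ M : Subgroup G, M.Normal → M ≤ N → M = ⊥ ∨ M = N)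
    (hab : ¬ ∀ x ∈ N, ∀ y ∈ N, Commute x y)
    (hOut : ∀ T : Subgroup G, IsSimpleGroup T → (∃ a b : T, a * b ≠ b * a) →
      ∀ R : Subgroup T, R ≠ ⊤ → 2 ^ Nat.card (Out T) ≤ R.index ^ 3) :
    5 ^ (3 * clen G + 4) ≤ Nat.card Ω ^ 10 := by
  classical
  obtain ⟨a⟩ := (inferInstance : Nonempty Ω)
  obtain ⟨m, T, e, h⟩ := exists_fac N hmin hab
  obtain ⟨htr, hKN, hNK⟩ := prim_facts G hG N hN
  set H := MulAction.stabilizer G a with hH
  have hm := h.pos
  have c1 := clen_range h.perm
  have c2 := clen_perm_range h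
  have c3 := h.clen_ker_perm
  have hsum : ∀ k : ℕ, 3 * clen G + 4 ≤ 3 * clen (centralizer (N : Set G)) + 7 * m +
      3 * ∑ i, beta (h.im i) := by
    intro _
    omega
  have hsum7 : ∑ i, (3 * beta (h.im i) + 7) = 7 * m + 3 * ∑ i, beta (h.im i) := by
    rw [Finset.sum_add_distrib, Finset.mul_sum]
    simp
    ring
  have hsum10 : ∑ i, (3 * beta (h.im i) + 10) = 10 * m + 3 * ∑ i, beta (h.im i) := by
    rw [Finset.sum_add_distrib, Finset.mul_sum]
    simp
    ring
  have hNcard : Nat.card N = ∏ i, Nat.card (T i) := by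
    rw [Nat.card_congr e.toEquiv, Nat.card_pi]
  have hcardB : ∀ i, 5 ^ (3 * beta (h.im i) + 7) ≤ Nat.card (T i) ^ 5 := by
    intro i
    have := h.simple i
    exact out_card_bound (h.nonab i) (hOut (T i) (h.simple i) (h.nonab i)) _
  by_cases hC : centralizer (N : Set G) = ⊥
  · rw [hC, clen_of_bot] at hsum
    have hidx : Nat.card Ω * Nat.card (N ⊓ H : Subgroup G) = Nat.card N := by
      have h1 := (MulAction.stabilizer N a).card_mul_index
      rw [MulAction.index_stabilizer_of_transitive] at h1
      have h2 : Nat.card (MulAction.stabilizer N a) = Nat.card (N ⊓ H : Subgroup G) := by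
        have e1 : MulAction.stabilizer N a ≃ (N ⊓ H : Subgroup G) :=
          { toFun := fun x => ⟨x.1.1, x.1.2, x.2⟩
            invFun := fun x => ⟨⟨x.1, x.2.1⟩, x.2.2⟩
            left_inv := fun x => rfl
            right_inv := fun x => rfl }
        exact Nat.card_congr e1
      rw [← h2, mul_comm]
      exact h1
    have htrans : ∀ i j, ∃ k ∈ H, T j = (T i).map (MulAut.conj k).toMonoidHom := by
      intro i j
      obtain ⟨g, hg⟩ := h.trans i j
      obtain ⟨n, hn, hgn⟩ := hKN a g
      refine ⟨g * n, hgn, ?_⟩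
      have h1 : (T i).map (MulAut.conj n).toMonoidHom = T i :=
        Subgroup.mem_normalizer_iff_map_conj_eq.mp (h.norm i hn)
      rw [← Cfsg.Agent.Lib.MinNormal.map_conj_map_conj, h1, hg]
    rcases h.scott H (hKN a) (hNK a)
      (fun X hX hKX hinv => Cfsg.Agent.S0722.result G N hN hmin a X hX hKX hinv) with
      hA | ⟨c, hcc, hc2, hc3, -⟩
    · -- product case
      let R : ∀ i, Subgroup (T i) := fun i => H.subgroupOf (T i)
      have hR : ∀ i (t : T i), t ∈ R i ↔ (t : G) ∈ H := fun i t => Iff.rfl
      have hRtop : ∀ i, R i ≠ ⊤ := by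
        intro i hi
        apply hNK a
        intro n hn
        refine (hA ⟨n, hn⟩).mpr ?_
        intro j
        obtain ⟨k, hk, hkj⟩ := htrans i j
        obtain ⟨s, hs, hsn⟩ := (SetLike.ext_iff.mp hkj _).mp (e ⟨n, hn⟩ j).2
        rw [← hsn]
        have hsH : s ∈ H := by
          have : (⟨s, hs⟩ : T i) ∈ R i := by rw [hi]; exact mem_top _
          exact this
        exact H.mul_mem (H.mul_mem hk hsH) (H.inv_mem hk)
      have hNH : Nat.card (N ⊓ H : Subgroup G) = ∏ i, Nat.card (R i) := by
        rw [← Nat.card_pi]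
        have e1 : (N ⊓ H : Subgroup G) ≃ ∀ i, R i :=
          { toFun := fun x i => ⟨e ⟨x.1, x.2.1⟩ i, (hA ⟨x.1, x.2.1⟩).mp x.2.2 i⟩
            invFun := fun y => ⟨(e.symm (fun i => (y i : T i)) : N), SetLike.coe_mem _,
              (hA _).mpr fun i => by
                rw [MulEquiv.apply_symm_apply]
                exact (y i).2⟩
            left_inv := fun x => by
              apply Subtype.ext
              change ((e.symm (e ⟨x.1, x.2.1⟩) : N) : G) = x.1
              rw [MulEquiv.symm_apply_apply]
            right_inv := fun y => by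
              funext i
              apply Subtype.ext
              change e (e.symm (fun i => (y i : T i))) i = (y i : T i)
              rw [MulEquiv.apply_symm_apply] }
        exact Nat.card_congr e1
      have hΩ : Nat.card Ω = ∏ i, (R i).index := by
        have h1 : 0 < Nat.card (N ⊓ H : Subgroup G) := Nat.card_pos
        apply Nat.eq_of_mul_eq_mul_right h1
        rw [hidx, hNH, hNcard, ← Finset.prod_mul_distrib]
        apply Finset.prod_congr rfl
        intro i _
        rw [mul_comm]
        exact ((R i).card_mul_index).symm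
      have hinv : ∀ i, ∀ α ∈ h.im i, ∃ t : T i,
          (R i).map α.toMonoidHom = (R i).map (MulAut.conj t).toMonoidHom := by
        rintro i _ ⟨k, rfl⟩
        obtain ⟨n, hn, hkn⟩ := hKN a (k : G)⁻¹
        have hhK : (n : G)⁻¹ * (k : G) ∈ h.perm.ker :=
          mul_mem (inv_mem (h.le_ker_perm hn)) k.2
        have hhH : (n : G)⁻¹ * (k : G) ∈ H := by
          have := H.inv_mem hkn
          rwa [mul_inv_rev, inv_inv] at this
        have hk : k = ⟨n, h.le_ker_perm hn⟩ * ⟨(n : G)⁻¹ * (k : G), hhK⟩ := by
          apply Subtype.ext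
          change (k : G) = n * (n⁻¹ * (k : G))
          group
        refine ⟨e ⟨n, hn⟩ i, ?_⟩
        conv_lhs => rw [hk]
        rw [map_mul, map_conj_mul]
        have h1 : h.kap i ⟨n, h.le_ker_perm hn⟩ = MulAut.conj (e ⟨n, hn⟩ i) :=
          h.kap_of_mem i ⟨n, hn⟩
        rw [h1]
        congr 1
        -- elements of `H` preserve `R i`
        have h2 : ∀ x : h.perm.ker, (x : G) ∈ H → (R i).map (h.kap i x).toMonoidHom ≤ R i := by
          rintro x hx _ ⟨r, hr, rfl⟩
          rw [hR]
          change ((h.kap i x r : T i) : G) ∈ H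
          rw [h.kap_apply]
          exact H.mul_mem (H.mul_mem hx hr) (H.inv_mem hx)
        apply le_antisymm (h2 _ hhH)
        intro r hr
        refine ⟨h.kap i (⟨(n : G)⁻¹ * (k : G), hhK⟩)⁻¹ r, ?_, ?_⟩
        · exact h2 _ (H.inv_mem hhH) ⟨r, hr, rfl⟩
        · change (h.kap i _) ((h.kap i _) r) = r
          rw [← MulAut.mul_apply, ← map_mul, mul_inv_cancel, map_one]
          rfl
      have hb : ∀ i, 5 ^ (3 * beta (h.im i) + 7) ≤ (R i).index ^ 10 := by
        intro i
        have := h.simple i
        exact out_index_bound (h.nonab i) (hOut (T i) (h.simple i) (h.nonab i)) _ (R i)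
          (hRtop i) (hinv i)
      calc 5 ^ (3 * clen G + 4) ≤ 5 ^ (∑ i, (3 * beta (h.im i) + 7)) := by
            apply Nat.pow_le_pow_right (by norm_num)
            have := hsum 0
            omega
        _ ≤ ∏ i, (R i).index ^ 10 := pow_sum_le _ _ hb
        _ = Nat.card Ω ^ 10 := by rw [Finset.prod_pow, ← hΩ]
    · -- diagonal case
      have hτ : ∀ i, Nat.card (T i) = Nat.card (T ⟨0, hm⟩) := by
        intro i
        obtain ⟨g, hg⟩ := h.trans ⟨0, hm⟩ i
        rw [hg]
        exact (Nat.card_congr ((T ⟨0, hm⟩).equivMapOfInjective (MulAut.conj g).toMonoidHom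
          (MulAut.conj g).injective).toEquiv).symm
      set τ := Nat.card (T ⟨0, hm⟩) with hτd
      have hτ0 : 0 < τ := Nat.card_pos
      let I : Set (Fin m) := {i | c i ≠ i}
      have hIm : m ≤ 2 * Nat.card I ∧ Nat.card I + Nat.card {i // i ∉ I} = m := by
        choose f hf1 hf2 using hc2
        have h1 : Nat.card {i // i ∉ I} ≤ Nat.card I := by
          refine Nat.card_le_card_of_injective
            (fun r : {i // i ∉ I} => (⟨f r, fun h => hf1 r ?_⟩ : I)) ?_
          · rw [← h, hf2]
            exact not_not.mp r.2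
          · intro r s hrs
            have h2 : f r = f s := congrArg Subtype.val hrs
            apply Subtype.ext
            have h3 : c (r : Fin m) = c (s : Fin m) := by rw [← hf2 r, ← hf2 s, h2]
            have h4 : c (r : Fin m) = r := not_not.mp r.2
            have h5 : c (s : Fin m) = s := not_not.mp s.2
            rw [← h4, ← h5, h3]
        have h2 : Nat.card I + Nat.card {i // i ∉ I} = m := by
          rw [← Nat.card_sum, Nat.card_congr (Equiv.sumCompl (fun i => i ∈ I))]
          simp
        omega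
      have hNH : Nat.card (N ⊓ H : Subgroup G) ≤ τ ^ Nat.card {i // i ∉ I} := by
        let F : (N ⊓ H : Subgroup G) → ∀ i : {i // i ∉ I}, T i := fun x i => e ⟨x.1, x.2.1⟩ i
        have hF : Function.Injective F := by
          intro x y hxy
          have h1 : (⟨x.1, x.2.1⟩ : N) * (⟨y.1, y.2.1⟩ : N)⁻¹ = 1 := by
            apply hc3
            · exact H.mul_mem x.2.2 (H.inv_mem y.2.2)
            · intro i
              have h2 : e ⟨x.1, x.2.1⟩ (c i) = e ⟨y.1, y.2.1⟩ (c i) :=
                congrFun hxy ⟨c i, fun hi => hi (hcc i)⟩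
              rw [map_mul, map_inv, Pi.mul_apply, Pi.inv_apply, h2, mul_inv_cancel]
          rw [mul_inv_eq_one] at h1
          apply Subtype.ext
          exact congrArg (fun z : N => (z : G)) h1
        have h1 := Nat.card_le_card_of_injective F hF
        rw [Nat.card_pi] at h1
        refine h1.trans (le_of_eq ?_)
        rw [Finset.prod_congr rfl (fun (i : {i // i ∉ I}) _ => hτ i), Finset.prod_const,
          Finset.card_univ, Nat.card_eq_fintype_card]
      have hNτ : Nat.card N = τ ^ m := by
        rw [hNcard, Finset.prod_congr rfl (fun i _ => hτ i), Finset.prod_const, Finset.card_univ,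
          Fintype.card_fin]
      have hΩ : τ ^ Nat.card I ≤ Nat.card Ω := by
        have h1 : 0 < τ ^ Nat.card {i // i ∉ I} := Nat.pow_pos hτ0
        apply Nat.le_of_mul_le_mul_right _ h1
        calc τ ^ Nat.card I * τ ^ Nat.card {i // i ∉ I} = Nat.card N := by
              rw [← pow_add, hIm.2, hNτ]
          _ = Nat.card Ω * Nat.card (N ⊓ H : Subgroup G) := hidx.symm
          _ ≤ _ := Nat.mul_le_mul_left _ hNH
      have hΩ2 : τ ^ m ≤ Nat.card Ω ^ 2 := by
        calc τ ^ m ≤ τ ^ (2 * Nat.card I) := Nat.pow_le_pow_right hτ0 hIm.1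
          _ = (τ ^ Nat.card I) ^ 2 := by rw [← pow_mul, mul_comm]
          _ ≤ _ := Nat.pow_le_pow_left hΩ 2
      calc 5 ^ (3 * clen G + 4) ≤ 5 ^ (∑ i, (3 * beta (h.im i) + 7)) := by
            apply Nat.pow_le_pow_right (by norm_num)
            have := hsum 0
            omega
        _ ≤ ∏ i, Nat.card (T i) ^ 5 := pow_sum_le _ _ hcardB
        _ = (τ ^ m) ^ 5 := by rw [Finset.prod_pow, ← hNcard, hNτ]
        _ ≤ (Nat.card Ω ^ 2) ^ 5 := Nat.pow_le_pow_left hΩ2 5
        _ = Nat.card Ω ^ 10 := by rw [← pow_mul]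
  · -- two minimal normal subgroups
    obtain ⟨M, hMn, hMC, hM, hMmin⟩ := exists_min_normal_le (centralizer (N : Set G)) hC
    have hMN : M ≠ N := by
      rintro rfl
      apply hab
      intro x hx y hy
      exact mem_centralizer_iff.mp (hMC hy) x hx
    obtain ⟨htrM, -, -⟩ := prim_facts G hG M hM
    obtain ⟨-, hst, -, ⟨f⟩, -, hcent, -⟩ := Cfsg.Agent.S0704.result G M N hM hN hMmin hmin hMN htrM htr
    have hCM : centralizer (N : Set G) = M := by
      apply le_antisymm _ hMC
      intro x hx
      have h1 : (x : Perm Ω) ∈ centralizer ((N.map G.subtype : Subgroup (Perm Ω)) : Set (Perm Ω)) := by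
        rw [mem_centralizer_iff]
        rintro _ ⟨n, hn, rfl⟩
        exact congrArg Subtype.val (mem_centralizer_iff.mp hx n hn)
      rw [hcent] at h1
      obtain ⟨y, hy, hyx⟩ := h1
      have : y = x := Subtype.ext hyx
      exact this ▸ hy
    have hclC : clen (centralizer (N : Set G)) ≤ m := by
      rw [hCM, clen_congr f, clen_congr e]
      exact clen_pi_le T h.simple
    have hΩ : Nat.card Ω = Nat.card N := by
      rw [← MulAction.index_stabilizer_of_transitive N a, hst a, Subgroup.index_bot]
    have hb : ∀ i, 5 ^ (3 * beta (h.im i) + 10) ≤ Nat.card (T i) ^ 10 := by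
      intro i
      have h1 := hcardB i
      have h2 : 5 ^ 3 ≤ 5 ^ (3 * beta (h.im i) + 7) := Nat.pow_le_pow_right (by norm_num) (by omega)
      calc 5 ^ (3 * beta (h.im i) + 10) = 5 ^ (3 * beta (h.im i) + 7) * 5 ^ 3 := by
            rw [← pow_add]
        _ ≤ Nat.card (T i) ^ 5 * Nat.card (T i) ^ 5 := Nat.mul_le_mul h1 (h2.trans h1)
        _ = _ := by rw [← pow_add]
    calc 5 ^ (3 * clen G + 4) ≤ 5 ^ (∑ i, (3 * beta (h.im i) + 10)) := by
          apply Nat.pow_le_pow_right (by norm_num)
          have := hsum 0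
          omega
      _ ≤ ∏ i, Nat.card (T i) ^ 10 := pow_sum_le _ _ hb
      _ = Nat.card Ω ^ 10 := by rw [Finset.prod_pow, ← hNcard, hΩ]

end Cfsg.Agent.H893
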