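import Cfsg.Agent.H893.SmallDeg
import Cfsg.Agent.S0496
import Cfsg.Prelude.Def_KGroupFacts

/-!
# Bounds for the composition length of subgroups of `Out T`, `T` simple

* `out_index_bound` : if `A ≤ Aut T` preserves the class of a proper subgroup `R` of index `μ`
  and `b` is the composition length of the image of `A` in `Out T`, then `5 ^ (3 * b + 7) ≤ μ ^ 10`;
* `out_card_bound` : `5 ^ (3 * b + 7) ≤ |T| ^ 5`.
-/

set_option autoImplicit false

namespace Cfsg.Agent.H893

open Subgroup Equiv ArithmeticFunction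

theorem isPreprimitive_range (G X : Type*) [Group G] [MulAction G X]
    [MulAction.IsPreprimitive G X] :
    MulAction.IsPreprimitive (MulAction.toPermHom G X).range X := by
  let f : X →ₑ[(MulAction.toPermHom G X).rangeRestrict] X := ⟨id, fun g x => rfl⟩
  exact MulAction.IsPreprimitive.of_surjective (f := f) Function.surjective_id

/-- `small_quot` for abstract actions -/
theorem small_quot' {X Ω : Type*} [Group X] [Finite X] [MulAction X Ω] [FaithfulSMul X Ω]
    [Finite Ω] (hX : MulAction.IsPreprimitive X Ω) (S : Subgroup X) [hSn : S.Normal]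
    [hSs : IsSimpleGroup S] (hna : ∃ a b : S, a * b ≠ b * a) (h13 : Nat.card Ω ≤ 13) :
    5 ≤ Nat.card Ω ∧ Nat.card (X ⧸ S) < 8 ∧ (Nat.card Ω ≤ 8 → Nat.card (X ⧸ S) < 4) := by
  classical
  have : Fintype Ω := Fintype.ofFinite Ω
  let f := MulAction.toPermHom X Ω
  have hf : Function.Injective f := MulAction.toPerm_injective
  let e : X ≃* f.range := MonoidHom.ofInjective hf
  have h1 := isPreprimitive_range X Ω
  have hn : (S.map e.toMonoidHom).Normal := hSn.map _ e.surjective
  have hcard : Nat.card (f.range ⧸ S.map e.toMonoidHom) = Nat.card (X ⧸ S) := by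
    have h2 := Subgroup.index_map_equiv S e
    exact h2
  let e' : S ≃* S.map e.toMonoidHom := S.equivMapOfInjective e.toMonoidHom e.injective
  have hs : IsSimpleGroup (S.map e.toMonoidHom) := e'.symm.isSimpleGroup
  have hna' : ∃ a b : S.map e.toMonoidHom, a * b ≠ b * a := by
    obtain ⟨a, b, hab⟩ := hna
    refine ⟨e' a, e' b, fun h => hab ?_⟩
    apply e'.injective
    rw [map_mul, map_mul, h]
  have h3 := small_quot f.range h1 (S.map e.toMonoidHom) hna' (by rwa [← Nat.card_eq_fintype_card])
  rw [hcard, ← Nat.card_eq_fintype_card] at h3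
  exact h3


section out

variable {T : Type*} [Group T] [Finite T] [IsSimpleGroup T]

omit [Finite T] [IsSimpleGroup T] in
theorem map_conj_mul (R : Subgroup T) (a b : MulAut T) :
    R.map (a * b).toMonoidHom = (R.map b.toMonoidHom).map a.toMonoidHom := by
  rw [Subgroup.map_map]
  rfl

omit [Finite T] in
theorem conj_injective (hna : ∃ a b : T, a * b ≠ b * a) :
    Function.Injective (MulAut.conj : T →* MulAut T) := by
  rw [← MonoidHom.ker_eq_bot_iff]
  rcases (inferInstance : (MulAut.conj : T →* MulAut T).ker.Normal).eq_bot_or_eq_top with h | h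
  · exact h
  · exfalso
    obtain ⟨a, b, hab⟩ := hna
    apply hab
    have h1 : a ∈ (MulAut.conj : T →* MulAut T).ker := by rw [h]; exact mem_top a
    have h2 : MulAut.conj a b = b := by
      rw [MonoidHom.mem_ker.mp h1]
      rfl
    rw [MulAut.conj_apply, mul_inv_eq_iff_eq_mul] at h2
    exact h2

omit [Finite T] in
/-- Only the identity centralizes the inner automorphisms -/
theorem eq_one_of_commute_inn (hna : ∃ a b : T, a * b ≠ b * a) (α : MulAut T)
    (h : ∀ t : T, α * MulAut.conj t = MulAut.conj t * α) : α = 1 := by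
  ext t
  apply conj_injective hna
  have h1 : α * MulAut.conj t * α⁻¹ = MulAut.conj (α t) := by
    ext x
    simp
  rw [← h1, h t]
  simp

theorem out_prim (hna : ∃ a b : T, a * b ≠ b * a) (A : Subgroup (MulAut T)) (R : Subgroup T)
    (hR : R ≠ ⊤) (hR1 : R ≠ ⊥)
    (hinv : ∀ α ∈ A, ∃ t : T, R.map α.toMonoidHom = R.map (MulAut.conj t).toMonoidHom)
    (h13 : R.index ≤ 13) :
    5 ≤ R.index ∧ Nat.card (A.map (QuotientGroup.mk' (Inn T))) < 8 ∧
      (R.index ≤ 8 → Nat.card (A.map (QuotientGroup.mk' (Inn T))) < 4) := by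
  let X : Subgroup (MulAut T) := A ⊔ Inn T
  have hAX : A ≤ X := le_sup_left
  have hIX : Inn T ≤ X := le_sup_right
  have hX : ∀ x ∈ X, ∃ t : T, R.map x.toMonoidHom = R.map (MulAut.conj t).toMonoidHom := by
    intro x hx
    obtain ⟨a, ha, s', ⟨s, rfl⟩, rfl⟩ := Subgroup.mem_sup_of_normal_right.mp hx
    obtain ⟨t, ht⟩ := hinv a ha
    refine ⟨a s * t, ?_⟩
    have h1 : a * MulAut.conj s = MulAut.conj (a s) * a := by
      ext x
      simp
    rw [h1, map_conj_mul, ht, map_mul, map_conj_mul]
  -- the stabiliser of `R`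
  let M₀ : Subgroup X :=
    { carrier := {x | R.map (x : MulAut T).toMonoidHom = R}
      one_mem' := Subgroup.map_id R
      mul_mem' := by
        intro a b ha hb
        change R.map ((a : MulAut T) * (b : MulAut T)).toMonoidHom = R
        rw [map_conj_mul, hb, ha]
      inv_mem' := by
        intro a ha
        change R.map ((a : MulAut T)⁻¹).toMonoidHom = R
        have h1 : R.map (a : MulAut T).toMonoidHom = R := ha
        conv_lhs => rw [← h1]
        rw [← map_conj_mul, inv_mul_cancel]
        exact Subgroup.map_id R }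
  have hM₀ : ∀ x : X, x ∈ M₀ ↔ R.map (x : MulAut T).toMonoidHom = R := fun _ => Iff.rfl
  let S : Subgroup X := (Inn T).subgroupOf X
  have hSn : S.Normal := inferInstance
  let c : T →* X := (MulAut.conj : T →* MulAut T).codRestrict X fun t => hIX ⟨t, rfl⟩
  have hc : Function.Injective c := fun a b hab => conj_injective hna (congrArg Subtype.val hab)
  have hcS : c.range = S := by
    ext x
    constructor
    · rintro ⟨t, rfl⟩
      exact ⟨t, rfl⟩
    · rintro ⟨t, ht⟩
      exact ⟨t, Subtype.ext ht⟩
  let eS : T ≃* S := (MonoidHom.ofInjective hc).trans (MulEquiv.subgroupCongr hcS)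
  have hSs : IsSimpleGroup S := eS.symm.isSimpleGroup
  have hSna : ∃ a b : S, a * b ≠ b * a := by
    obtain ⟨a, b, hab⟩ := hna
    refine ⟨eS a, eS b, fun h => hab ?_⟩
    apply eS.injective
    rw [map_mul, map_mul, h]
  -- Frattini
  have hfr : M₀ ⊔ S = ⊤ := by
    rw [eq_top_iff]
    intro x _
    obtain ⟨t, ht⟩ := hX x x.2
    have h1 : (c t)⁻¹ * x ∈ M₀ := by
      rw [hM₀]
      change R.map ((MulAut.conj t)⁻¹ * (x : MulAut T)).toMonoidHom = R
      rw [map_conj_mul, ht, ← map_conj_mul, inv_mul_cancel]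
      exact Subgroup.map_id R
    have h2 : c t ∈ S := by rw [← hcS]; exact ⟨t, rfl⟩
    have h3 : c t * ((c t)⁻¹ * x) ∈ M₀ ⊔ S :=
      mul_mem (mem_sup_right h2) (mem_sup_left h1)
    simpa using h3
  have hindex : M₀.index ≤ R.index := by
    have h1 : (M₀.comap c).index = M₀.relIndex S := by rw [index_comap, hcS]
    have h2 : R ≤ M₀.comap c := by
      intro r hr
      rw [mem_comap, hM₀]
      exact mem_normalizer_iff_map_conj_eq.mp (le_normalizer hr)
    have h3 : (M₀.comap c).index ≤ R.index := index_antitone h2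
    have h4 : M₀.relIndex S = M₀.index := by
      have e1 : S.relIndex M₀ = S.index := by
        rw [← Subgroup.relIndex_sup_right, hfr, Subgroup.relIndex_top_right]
      have e2 := (S.subgroupOf M₀).card_mul_index
      have e3 := (M₀.subgroupOf S).card_mul_index
      have e4 := S.card_mul_index
      have e5 := M₀.card_mul_index
      have e6 : Nat.card (S.subgroupOf M₀) = Nat.card (M₀.subgroupOf S) := by
        rw [← Subgroup.inf_subgroupOf_right, ← Subgroup.inf_subgroupOf_right (H := M₀),
          Nat.card_congr (subgroupOfEquivOfLe inf_le_right).toEquiv,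
          Nat.card_congr (subgroupOfEquivOfLe inf_le_right).toEquiv, inf_comm]
      change Nat.card (S.subgroupOf M₀) * S.relIndex M₀ = _ at e2
      change Nat.card (M₀.subgroupOf S) * M₀.relIndex S = _ at e3
      rw [e1, e6] at e2
      have e7 : 0 < Nat.card (M₀.subgroupOf S) := Nat.card_pos
      have e8 : 0 < S.index := Nat.pos_of_ne_zero index_ne_zero_of_finite
      apply Nat.eq_of_mul_eq_mul_left (Nat.mul_pos e7 e8)
      calc Nat.card (M₀.subgroupOf S) * S.index * M₀.relIndex S
          = (Nat.card (M₀.subgroupOf S) * M₀.relIndex S) * S.index := by ring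
        _ = Nat.card M₀ * M₀.index := by rw [e3, e4, e5]
        _ = _ := by rw [← e2]
    omega
  have hM₀top : M₀ ≠ ⊤ := by
    intro h
    have h1 : R.Normal := by
      refine ⟨fun r hr g => ?_⟩
      have h2 : c g ∈ M₀ := by rw [h]; exact mem_top _
      rw [hM₀] at h2
      rw [← h2]
      exact ⟨r, hr, rfl⟩
    rcases h1.eq_bot_or_eq_top with h2 | h2
    · exact hR1 h2
    · exact hR h2
  obtain ⟨M, hM, hM₀M⟩ := (eq_top_or_exists_le_coatom M₀).resolve_left hM₀top
  have hSM : ¬ S ≤ M := by
    intro h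
    apply hM.1
    rw [eq_top_iff, ← hfr]
    exact sup_le hM₀M h
  -- the action on the cosets of `M`
  have hfaith : FaithfulSMul X (X ⧸ M) := by
    have hcore : M.normalCore = ⊥ := by
      have h1 : M.normalCore ⊓ S = ⊥ := by
        have h2 : ((M.normalCore).comap c).Normal := inferInstance
        rcases h2.eq_bot_or_eq_top with h3 | h3
        · rw [eq_bot_iff]
          rintro x ⟨hx1, hx2⟩
          rw [SetLike.mem_coe, ← hcS] at hx2
          obtain ⟨t, rfl⟩ := hx2
          have h4 : t ∈ (M.normalCore).comap c := hx1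
          rw [h3, mem_bot] at h4
          rw [h4, map_one]
          exact one_mem _
        · exfalso
          apply hSM
          rw [← hcS]
          rintro _ ⟨t, rfl⟩
          have h4 : t ∈ (M.normalCore).comap c := by rw [h3]; exact mem_top t
          exact M.normalCore_le h4
      rw [eq_bot_iff]
      intro x hx
      rw [mem_bot]
      apply Subtype.ext
      apply eq_one_of_commute_inn hna
      intro t
      have h2 : x * c t * x⁻¹ * (c t)⁻¹ ∈ M.normalCore ⊓ S := by
        have hct : c t ∈ S := by rw [← hcS]; exact ⟨t, rfl⟩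
        refine ⟨?_, S.mul_mem (hSn.conj_mem _ hct x) (S.inv_mem hct)⟩
        have h3 : c t * x⁻¹ * (c t)⁻¹ ∈ M.normalCore :=
          (inferInstance : M.normalCore.Normal).conj_mem _ (inv_mem hx) _
        have h4 := mul_mem hx h3
        simpa [mul_assoc] using h4
      rw [h1, mem_bot, mul_inv_eq_one, mul_inv_eq_iff_eq_mul] at h2
      exact congrArg Subtype.val h2
    refine ⟨fun {x y} hxy => ?_⟩
    have h1 : MulAction.toPermHom X (X ⧸ M) x = MulAction.toPermHom X (X ⧸ M) y :=
      Equiv.ext hxy
    have h2 : (MulAction.toPermHom X (X ⧸ M)).ker = ⊥ := by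
      rw [← Subgroup.normalCore_eq_ker, hcore]
    exact (MonoidHom.ker_eq_bot_iff _).mp h2 h1
  have hnt : Nontrivial (X ⧸ M) := by
    have h1 : M.index ≠ 1 := fun h => hM.1 (index_eq_one.mp h)
    have h2 : M.index ≠ 0 := index_ne_zero_of_finite
    rw [← Finite.one_lt_card_iff_nontrivial]
    change 1 < M.index
    omega
  have hprim : MulAction.IsPreprimitive X (X ⧸ M) := by
    rw [← MulAction.isCoatom_stabilizer_iff_preprimitive X ((1 : X) : X ⧸ M),
      MulAction.stabilizer_quotient]
    exact hM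
  have hMi : Nat.card (X ⧸ M) ≤ R.index := (index_antitone hM₀M).trans hindex
  obtain ⟨h5, h8, h4⟩ := small_quot' hprim S hSna (hMi.trans h13)
  have hAcard : Nat.card (A.map (QuotientGroup.mk' (Inn T))) ≤ Nat.card (X ⧸ S) := by
    have h1 : Nat.card (X.map (QuotientGroup.mk' (Inn T))) = Nat.card (X ⧸ S) := by
      have h2 : ((QuotientGroup.mk' (Inn T)).comp X.subtype).ker = S := by
        ext x
        rw [MonoidHom.mem_ker]
        exact QuotientGroup.eq_one_iff _
      have h3 : ((QuotientGroup.mk' (Inn T)).comp X.subtype).range =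
          X.map (QuotientGroup.mk' (Inn T)) := by
        rw [MonoidHom.range_comp, range_subtype]
      have h4 := Subgroup.index_ker ((QuotientGroup.mk' (Inn T)).comp X.subtype)
      rw [h2, h3] at h4
      exact h4.symm
    rw [← h1]
    exact Subgroup.card_le_of_le (Subgroup.map_mono hAX)
  refine ⟨h5.trans hMi, lt_of_le_of_lt hAcard h8, fun h => lt_of_le_of_lt hAcard (h4 (hMi.trans h))⟩

theorem five_pow_aux (b : ℕ) : 21 * (b + 4) + 49 ≤ 10 * 2 ^ (b + 4) := by
  induction b with
  | zero => norm_num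
  | succ b ih =>
    have : 2 ^ (b + 1 + 4) = 2 * 2 ^ (b + 4) := by ring
    omega

theorem five_pow_aux' (b : ℕ) : 21 * (b + 5) + 49 ≤ 5 * 2 ^ (b + 5) := by
  induction b with
  | zero => norm_num
  | succ b ih =>
    have : 2 ^ (b + 1 + 5) = 2 * 2 ^ (b + 5) := by ring
    omega

theorem five_pow_le (b : ℕ) : 5 ^ (9 * b + 21) ≤ 2 ^ (21 * b + 49) := by
  calc 5 ^ (9 * b + 21) = (5 ^ 3) ^ (3 * b + 7) := by rw [← pow_mul]; congr 1; ring
    _ ≤ (2 ^ 7) ^ (3 * b + 7) := Nat.pow_le_pow_left (by norm_num) _
    _ = 2 ^ (21 * b + 49) := by rw [← pow_mul]; congr 1; ring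

/-- the composition length of the image in `Out T` -/
noncomputable def beta (A : Subgroup (MulAut T)) : ℕ := clen (A.map (QuotientGroup.mk' (Inn T)))

omit [IsSimpleGroup T] in
theorem two_pow_beta_le (A : Subgroup (MulAut T)) :
    2 ^ beta A ≤ Nat.card (A.map (QuotientGroup.mk' (Inn T))) := two_pow_clen_le

omit [IsSimpleGroup T] in
theorem two_pow_beta_le_out (A : Subgroup (MulAut T)) :
    2 ^ beta A ≤ Nat.card (Out T) := (two_pow_beta_le A).trans (Subgroup.card_le_card_group _)

/-- The bound used in the product case. -/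
theorem out_index_bound (hna : ∃ a b : T, a * b ≠ b * a)
    (hOut : ∀ R : Subgroup T, R ≠ ⊤ → 2 ^ Nat.card (Out T) ≤ R.index ^ 3)
    (A : Subgroup (MulAut T)) (R : Subgroup T) (hR : R ≠ ⊤)
    (hinv : ∀ α ∈ A, ∃ t : T, R.map α.toMonoidHom = R.map (MulAut.conj t).toMonoidHom) :
    5 ^ (3 * beta A + 7) ≤ R.index ^ 10 := by
  have hna' : ¬ IsMulCommutative T := by
    rintro ⟨⟨h⟩⟩
    obtain ⟨a, b, hab⟩ := hna
    exact hab (h a b)
  by_cases h13 : R.index ≤ 13
  · have hR1 : R ≠ ⊥ := by
      rintro rfl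
      rw [index_bot] at h13
      rcases Cfsg.Agent.S0496.result (G := T) hna' (by omega) with h | h | h | h | h | h <;> omega
    obtain ⟨h1, h2, h3⟩ := out_prim hna A R hR hR1 hinv h13
    have h4 := two_pow_beta_le A
    by_cases hb : beta A ≤ 1
    · calc 5 ^ (3 * beta A + 7) ≤ 5 ^ 10 := Nat.pow_le_pow_right (by norm_num) (by omega)
        _ ≤ R.index ^ 10 := Nat.pow_le_pow_left h1 _
    · have hb2 : beta A ≤ 2 := by
        by_contra hcon
        push Not at hcon
        have h5 : 2 ^ 3 ≤ 2 ^ beta A := Nat.pow_le_pow_right (by norm_num) hcon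
        omega
      have h9 : 9 ≤ R.index := by
        by_contra hcon
        push Not at hcon
        have h5 : 2 ^ 2 ≤ 2 ^ beta A := Nat.pow_le_pow_right (by norm_num) (by omega)
        have := h3 (by omega)
        omega
      calc 5 ^ (3 * beta A + 7) ≤ 5 ^ 13 := Nat.pow_le_pow_right (by norm_num) (by omega)
        _ ≤ 9 ^ 10 := by norm_num
        _ ≤ R.index ^ 10 := Nat.pow_le_pow_left h9 _
  · push Not at h13
    by_cases hb : beta A ≤ 3
    · calc 5 ^ (3 * beta A + 7) ≤ 5 ^ 16 := Nat.pow_le_pow_right (by norm_num) (by omega)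
        _ ≤ 14 ^ 10 := by norm_num
        _ ≤ R.index ^ 10 := Nat.pow_le_pow_left h13 _
    · obtain ⟨b, hb'⟩ : ∃ b, beta A = b + 4 := ⟨beta A - 4, by omega⟩
      have h1 := two_pow_beta_le_out A
      have h2 := (Nat.pow_le_pow_right (n := 2) (by norm_num) h1).trans (hOut R hR)
      rw [← Nat.pow_le_pow_iff_left (n := 3) (by norm_num)]
      calc (5 ^ (3 * beta A + 7)) ^ 3 = 5 ^ (9 * beta A + 21) := by rw [← pow_mul]; congr 1; ring
        _ ≤ 2 ^ (21 * beta A + 49) := five_pow_le _
        _ ≤ 2 ^ (10 * 2 ^ beta A) := by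
          apply Nat.pow_le_pow_right (by norm_num)
          rw [hb']
          exact five_pow_aux b
        _ = (2 ^ 2 ^ beta A) ^ 10 := by rw [← pow_mul]; congr 1; ring
        _ ≤ (R.index ^ 3) ^ 10 := Nat.pow_le_pow_left h2 _
        _ = (R.index ^ 10) ^ 3 := by rw [← pow_mul, ← pow_mul]

omit [IsSimpleGroup T] in
/-- the normaliser of a Sylow subgroup -/
theorem sylow_class (p : ℕ) [Fact p.Prime] (P : Sylow p T) (α : MulAut T) :
    ∃ t : T, (normalizer (P : Set T)).map α.toMonoidHom =
      (normalizer (P : Set T)).map (MulAut.conj t).toMonoidHom := by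
  obtain ⟨t, ht⟩ := MulAction.exists_smul_eq T P (α • P)
  refine ⟨t, ?_⟩
  have h1 : (P : Subgroup T).map (MulAut.conj t).toMonoidHom =
      (P : Subgroup T).map α.toMonoidHom := congrArg Sylow.toSubgroup ht
  have h2 := map_equiv_normalizer_eq (P : Subgroup T) α
  have h3 := map_equiv_normalizer_eq (P : Subgroup T) (MulAut.conj t)
  exact h2.trans ((congrArg (fun Q : Subgroup T => normalizer (Q : Set T)) h1.symm).trans h3.symm)

/-- a proper subgroup of small index, from Sylow's theorem -/
theorem sylow_bound (hna : ∃ a b : T, a * b ≠ b * a)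
    (hOut : ∀ R : Subgroup T, R ≠ ⊤ → 2 ^ Nat.card (Out T) ≤ R.index ^ 3)
    (A : Subgroup (MulAut T)) (p c k : ℕ) [hp : Fact p.Prime] (hc : Nat.card T = p * c)
    (hpc : ¬ p ∣ c) (hk : ∀ d, d ∣ c → d % p = 1 → d = 1 ∨ d ≤ k) :
    5 ^ (3 * beta A + 7) ≤ k ^ 10 ∧ 2 ^ 2 ^ beta A ≤ k ^ 3 := by
  obtain ⟨P⟩ := (inferInstance : Nonempty (Sylow p T))
  have hcP : Nat.card P = p := by
    rw [P.card_eq_multiplicity, hc, Nat.factorization_mul hp.out.ne_zero (by
      rintro rfl
      exact hpc (dvd_zero p))]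
    rw [Finsupp.add_apply, hp.out.factorization_self, Nat.factorization_eq_zero_of_not_dvd hpc]
    simp
  have hind : (P : Subgroup T).index = c := by
    have h1 := (P : Subgroup T).card_mul_index
    rw [hcP, hc] at h1
    exact Nat.eq_of_mul_eq_mul_left hp.out.pos h1
  have h1 : (normalizer (P : Set T)).index ∣ c := by
    rw [← P.card_eq_index_normalizer, ← hind]
    exact P.card_dvd_index
  have h2 : (normalizer (P : Set T)).index % p = 1 := by
    rw [← P.card_eq_index_normalizer]
    have := card_sylow_modEq_one p T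
    rw [Nat.ModEq, Nat.mod_eq_of_lt hp.out.one_lt] at this
    exact this
  have hntop : normalizer (P : Set T) ≠ ⊤ := by
    intro h
    have h' : (P : Subgroup T).Normal := normalizer_eq_top_iff.mp h
    rcases h'.eq_bot_or_eq_top with h3 | h3
    · have h4 : Nat.card (P : Subgroup T) = 1 := by rw [h3, card_bot]
      have h5 : Nat.card (P : Subgroup T) = p := hcP
      have := hp.out.one_lt
      omega
    · have h4 : Nat.card T = p := by
        rw [← Subgroup.card_top (G := T), ← h3]
        exact hcP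
      have h5 : IsCyclic T := isCyclic_of_prime_card h4
      obtain ⟨a, b, hab⟩ := hna
      exact hab (IsCyclic.commGroup.mul_comm a b)
  have hne1 : (normalizer (P : Set T)).index ≠ 1 := fun h => hntop (index_eq_one.mp h)
  have hle := (hk _ h1 h2).resolve_left hne1
  have h3 := out_index_bound hna hOut A (normalizer (P : Set T)) hntop
    (fun α _ => sylow_class p P α)
  refine ⟨h3.trans (Nat.pow_le_pow_left hle _), ?_⟩
  exact (Nat.pow_le_pow_right (n := 2) (by norm_num) (two_pow_beta_le_out A)).trans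
    ((hOut _ hntop).trans (Nat.pow_le_pow_left hle _))

/-- The bound in terms of the order. -/
theorem out_card_bound (hna : ∃ a b : T, a * b ≠ b * a)
    (hOut : ∀ R : Subgroup T, R ≠ ⊤ → 2 ^ Nat.card (Out T) ≤ R.index ^ 3)
    (A : Subgroup (MulAut T)) : 5 ^ (3 * beta A + 7) ≤ Nat.card T ^ 5 := by
  have hna' : ¬ IsMulCommutative T := by
    rintro ⟨⟨h⟩⟩
    obtain ⟨a, b, hab⟩ := hna
    exact hab (h a b)
  have hsmall := Cfsg.Agent.S0496.result (G := T) hna'
  have h60 : 60 ≤ Nat.card T := by
    by_contra hcon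
    rcases hsmall (by omega) with h | h | h | h | h | h <;> omega
  have hbot : (⊥ : Subgroup T) ≠ ⊤ := by
    intro h
    have : Nat.card (⊥ : Subgroup T) = Nat.card (⊤ : Subgroup T) := by rw [h]
    rw [card_bot, Subgroup.card_top] at this
    omega
  by_cases hb : beta A ≤ 4
  · by_cases hb1 : beta A ≤ 1
    · calc 5 ^ (3 * beta A + 7) ≤ 5 ^ 10 := Nat.pow_le_pow_right (by norm_num) (by omega)
        _ ≤ 60 ^ 5 := by norm_num
        _ ≤ _ := Nat.pow_le_pow_left h60 _
    -- order 60
    have e60 : Nat.card T ≠ 60 := by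
      intro h
      have : Fact (Nat.Prime 5) := ⟨by norm_num⟩
      obtain ⟨h1, -⟩ := sylow_bound hna hOut A 5 12 6 (by rw [h]) (by norm_num) (by
        intro d hd hd'
        have := Nat.le_of_dvd (by norm_num) hd
        interval_cases d <;> omega)
      have h2 : 5 ^ 13 ≤ 5 ^ (3 * beta A + 7) := Nat.pow_le_pow_right (by norm_num) (by omega)
      norm_num at h1 h2
      omega
    have h168 : 168 ≤ Nat.card T := by
      by_contra hcon
      rcases hsmall (by omega) with h | h | h | h | h | h <;> omega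
    by_cases hb2 : beta A ≤ 2
    · calc 5 ^ (3 * beta A + 7) ≤ 5 ^ 13 := Nat.pow_le_pow_right (by norm_num) (by omega)
        _ ≤ 168 ^ 5 := by norm_num
        _ ≤ _ := Nat.pow_le_pow_left h168 _
    have e168 : Nat.card T ≠ 168 := by
      intro h
      have : Fact (Nat.Prime 7) := ⟨by norm_num⟩
      obtain ⟨h1, -⟩ := sylow_bound hna hOut A 7 24 8 (by rw [h]) (by norm_num) (by
        intro d hd hd'
        have := Nat.le_of_dvd (by norm_num) hd
        interval_cases d <;> omega)
      have h2 : 5 ^ 16 ≤ 5 ^ (3 * beta A + 7) := Nat.pow_le_pow_right (by norm_num) (by omega)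
      norm_num at h1 h2
      omega
    have h360 : 360 ≤ Nat.card T := by
      by_contra hcon
      rcases hsmall (by omega) with h | h | h | h | h | h <;> omega
    by_cases hb3 : beta A ≤ 3
    · calc 5 ^ (3 * beta A + 7) ≤ 5 ^ 16 := Nat.pow_le_pow_right (by norm_num) (by omega)
        _ ≤ 360 ^ 5 := by norm_num
        _ ≤ _ := Nat.pow_le_pow_left h360 _
    have hb4 : beta A = 4 := by omega
    have e360 : Nat.card T ≠ 360 := by
      intro h
      have : Fact (Nat.Prime 5) := ⟨by norm_num⟩
      obtain ⟨-, h1⟩ := sylow_bound hna hOut A 5 72 36 (by rw [h]) (by norm_num) (by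
        intro d hd hd'
        have := Nat.le_of_dvd (by norm_num) hd
        interval_cases d <;> omega)
      rw [hb4] at h1
      norm_num at h1
    have h504 : 504 ≤ Nat.card T := by
      by_contra hcon
      rcases hsmall (by omega) with h | h | h | h | h | h <;> omega
    calc 5 ^ (3 * beta A + 7) ≤ 5 ^ 19 := Nat.pow_le_pow_right (by norm_num) (by omega)
        _ ≤ 504 ^ 5 := by norm_num
        _ ≤ _ := Nat.pow_le_pow_left h504 _
  · obtain ⟨b, hb'⟩ : ∃ b, beta A = b + 5 := ⟨beta A - 5, by omega⟩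
    have h1 := two_pow_beta_le_out A
    have h2 := (Nat.pow_le_pow_right (n := 2) (by norm_num) h1).trans (hOut ⊥ hbot)
    rw [index_bot] at h2
    rw [← Nat.pow_le_pow_iff_left (n := 3) (by norm_num)]
    calc (5 ^ (3 * beta A + 7)) ^ 3 = 5 ^ (9 * beta A + 21) := by rw [← pow_mul]; congr 1; ring
      _ ≤ 2 ^ (21 * beta A + 49) := five_pow_le _
      _ ≤ 2 ^ (5 * 2 ^ beta A) := by
        apply Nat.pow_le_pow_right (by norm_num)
        rw [hb']
        exact five_pow_aux' b
      _ = (2 ^ 2 ^ beta A) ^ 5 := by rw [← pow_mul]; congr 1; ring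
      _ ≤ (Nat.card T ^ 3) ^ 5 := Nat.pow_le_pow_left h2 _
      _ = (Nat.card T ^ 5) ^ 3 := by rw [← pow_mul, ← pow_mul]

end out

end Cfsg.Agent.H893
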