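import Cfsg.Agent.H893.RegSub
import Cfsg.Agent.H893.PPow

/-!
# Regular subgroups of primitive groups of prime power degree

`exists_regular` : reduction to simple groups.
-/

set_option autoImplicit false

namespace Cfsg.Agent.H893

open Subgroup MulAction

/-- A subgroup as in `HasReg` is a transversal. -/
theorem HasReg.cover {T : Type*} [Group T] [Finite T] {R Q : Subgroup T}
    (hQ : Nat.card Q = R.index) (h : ∀ t : T, ∀ x ∈ Q, t⁻¹ * x * t ∈ R → x = 1) (t : T) :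
    ∃ x ∈ Q, x⁻¹ * t ∈ R := by
  have hinj : Function.Injective (fun x : Q => (QuotientGroup.mk (x : T) : T ⧸ R)) := by
    intro x y hxy
    have h1 : (x : T)⁻¹ * y ∈ R := QuotientGroup.eq.mp hxy
    have h2 : (y : T) * (x : T)⁻¹ = 1 := by
      apply h (x : T) _ (Q.mul_mem y.2 (Q.inv_mem x.2))
      have : (x : T)⁻¹ * ((y : T) * (x : T)⁻¹) * x = (x : T)⁻¹ * y := by group
      rw [this]
      exact h1
    exact Subtype.ext (mul_inv_eq_one.mp h2).symm
  have hsurj : Function.Surjective (fun x : Q => (QuotientGroup.mk (x : T) : T ⧸ R)) :=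
    ((Nat.bijective_iff_injective_and_card _).mpr ⟨hinj, hQ⟩).2
  obtain ⟨x, hx⟩ := hsurj (QuotientGroup.mk t)
  exact ⟨x, x.2, QuotientGroup.eq.mp hx⟩

theorem exists_regular {G Ω : Type*} [Group G] [MulAction G Ω] [Finite G] [FaithfulSMul G Ω]
    [Finite Ω] {p k : ℕ} (hp : p.Prime) (hk : 1 ≤ k) (hΩ : Nat.card Ω = p ^ k)
    (hG : IsPreprimitive G Ω)
    (hsimple : ∀ (T R : Subgroup G) (j : ℕ), IsSimpleGroup T → (∃ a b : T, a * b ≠ b * a) →
      1 ≤ j → (R.subgroupOf T).index = p ^ j → HasReg (R.subgroupOf T)) :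
    ∃ R : Subgroup G, IsPretransitive ↥R Ω ∧ ∀ ω : Ω, stabilizer ↥R ω = ⊥ := by
  have hcard : 1 < Nat.card Ω := by rw [hΩ]; exact Nat.one_lt_pow (by omega) hp.one_lt
  have hntΩ : Nontrivial Ω := Finite.one_lt_card_iff_nontrivial.mp hcard
  rcases ppow_socle hp hk hΩ hG with ⟨N, -, -, htr, hst⟩ | ⟨N, _, m, T, e, h, hN, hmin, hC, htr,
    hprod, hidx⟩
  · exact ⟨N, htr, hst⟩
  obtain ⟨ω₀⟩ := (inferInstance : Nonempty Ω)
  have hreg : ∀ i, HasReg ((stabilizer G ω₀).subgroupOf (T i)) := by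
    intro i
    obtain ⟨j, hj, hij⟩ := hidx ω₀ i
    exact hsimple (T i) (stabilizer G ω₀) j (h.simple i) (h.nonab i) hj hij
  choose Q hQ hQ' using hreg
  let Q₀ : Subgroup N := (Subgroup.pi Set.univ Q).comap e.toMonoidHom
  have hQ₀ : ∀ n, n ∈ Q₀ ↔ ∀ i, e n i ∈ Q i := by
    intro n
    change e n ∈ Subgroup.pi Set.univ Q ↔ _
    rw [Subgroup.mem_pi]
    simp
  have hst : ∀ (n : N), (n : G) ∈ stabilizer G ω₀ ↔
      ∀ i, e n i ∈ (stabilizer G ω₀).subgroupOf (T i) := fun n => hprod ω₀ n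
  refine ⟨Q₀.map N.subtype, ?_, ?_⟩
  · rw [isPretransitive_iff_base ω₀]
    intro ω
    obtain ⟨n, rfl⟩ := exists_smul_eq N ω₀ ω
    choose x hx hxn using fun i => HasReg.cover (hQ i) (hQ' i) (e n i)
    refine ⟨⟨_, mem_map_of_mem N.subtype (show e.symm x ∈ Q₀ from ?_)⟩, ?_⟩
    · rw [hQ₀, MulEquiv.apply_symm_apply]
      exact hx
    · have h1 : (((e.symm x)⁻¹ * n : N) : G) ∈ stabilizer G ω₀ := by
        rw [hst]
        intro i
        rw [map_mul, map_inv, MulEquiv.apply_symm_apply]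
        exact hxn i
      rw [mem_stabilizer_iff, Subgroup.coe_mul, mul_smul, Subgroup.coe_inv, inv_smul_eq_iff] at h1
      exact h1.symm
  · intro ω
    rw [eq_bot_iff]
    rintro ⟨_, ⟨x, hx, rfl⟩⟩ hxω
    rw [Subgroup.mem_bot]
    obtain ⟨n, rfl⟩ := exists_smul_eq N ω₀ ω
    have h1 : ((n⁻¹ * x * n : N) : G) ∈ stabilizer G ω₀ := by
      rw [mem_stabilizer_iff, Subgroup.coe_mul, Subgroup.coe_mul, mul_smul, mul_smul,
        Subgroup.coe_inv, inv_smul_eq_iff]
      exact hxω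
    rw [hst] at h1
    have h2 : x = 1 := by
      apply e.injective
      rw [map_one]
      funext i
      apply hQ' i (e n i) _ ((hQ₀ x).mp hx i)
      have h3 := h1 i
      rwa [map_mul, map_mul, map_inv] at h3
    apply Subtype.ext
    change N.subtype x = 1
    rw [h2, map_one]

end Cfsg.Agent.H893
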