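import Mathlib
import Cfsg.Prelude.Def_Classical
import Cfsg.Agent.Lib.Zsigmondy
import Cfsg.Agent.ClassicalGeometry.PSL2Basic
import Cfsg.Agent.S0245

/-!
# Regular subgroups of simple groups acting on a prime power number of points

`HasReg R` : some subgroup of `T` acts regularly on the cosets of `R`.
-/

set_option autoImplicit false
set_option linter.unnecessarySeqFocus false
set_option linter.unusedSimpArgs false

namespace Cfsg.Agent.H893

open Subgroup Equiv

/-- A subgroup acting regularly on the cosets of `R` -/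
def HasReg {T : Type*} [Group T] (R : Subgroup T) : Prop :=
  ∃ Q : Subgroup T, Nat.card Q = R.index ∧ ∀ t : T, ∀ x ∈ Q, t⁻¹ * x * t ∈ R → x = 1

theorem hasReg_of_not_dvd {T : Type*} [Group T] [Finite T] {p j : ℕ} (hp : p.Prime)
    (R : Subgroup T) (hR : R.index = p ^ j) (h : ¬ p ∣ Nat.card R) : HasReg R := by
  have : Fact p.Prime := ⟨hp⟩
  obtain ⟨P⟩ := (inferInstance : Nonempty (Sylow p T))
  refine ⟨P, ?_, ?_⟩
  · rw [P.card_eq_multiplicity, ← R.card_mul_index, hR,
      Nat.factorization_mul Nat.card_pos.ne' (pow_ne_zero _ hp.ne_zero), Finsupp.add_apply,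
      Nat.factorization_eq_zero_of_not_dvd h, hp.factorization_pow, Finsupp.single_eq_same,
      zero_add]
  · intro t x hx hxR
    obtain ⟨k, hk⟩ := (IsPGroup.iff_orderOf.mp P.isPGroup') ⟨x, hx⟩
    rw [Subgroup.orderOf_mk] at hk
    have h1 : orderOf (t⁻¹ * x * t) = orderOf x := by
      have := orderOf_injective (MulAut.conj t⁻¹).toMonoidHom (MulAut.conj t⁻¹).injective x
      simpa using this
    have h2 : orderOf x ∣ Nat.card R := by
      rw [← h1, ← Subgroup.orderOf_mk _ hxR]
      exact orderOf_dvd_natCard _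
    rw [← orderOf_eq_one_iff]
    by_cases hk0 : k = 0
    · rw [hk, hk0, pow_zero]
    · exfalso
      apply h
      rw [hk] at h2
      exact (dvd_pow_self p hk0).trans h2

/-- transport along an isomorphism -/
theorem HasReg.of_map {T T' : Type*} [Group T] [Group T'] (e : T ≃* T') (R : Subgroup T)
    (h : HasReg (R.map e.toMonoidHom)) : HasReg R := by
  obtain ⟨Q, hQ, hQ'⟩ := h
  refine ⟨Q.comap e.toMonoidHom, ?_, ?_⟩
  · rw [← Subgroup.index_map_equiv R e]
    refine Eq.trans ?_ hQ
    have h1 : (Q.comap e.toMonoidHom).map e.toMonoidHom = Q :=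
      Subgroup.map_comap_eq_self_of_surjective e.surjective Q
    conv_rhs => rw [← h1]
    exact Nat.card_congr ((Q.comap e.toMonoidHom).equivMapOfInjective e.toMonoidHom
      e.injective).toEquiv
  · intro t x hx hxR
    apply e.injective
    rw [map_one]
    apply hQ' (e t) (e x) hx
    refine ⟨t⁻¹ * x * t, hxR, ?_⟩
    simp

section alternating

/-- The left regular representation of an elementary abelian group of order at least 5 consists of
even permutations. -/
theorem regular_even {E : Type*} [Group E] [Fintype E] [DecidableEq E] {p j : ℕ} (hp : p.Prime)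
    (hE : Fintype.card E = p ^ j) (h5 : 5 ≤ p ^ j) (hexp : ∀ x : E, x ^ p = 1) (x : E) :
    Perm.sign (MulAction.toPermHom E E x) = 1 := by
  set σ := MulAction.toPermHom E E x with hσ
  by_cases hp2 : p = 2
  · subst hp2
    by_cases hx : x = 1
    · rw [hσ, hx, map_one, map_one]
    have hfix : ∀ y, σ y ≠ y := by
      intro y hy
      apply hx
      have : x * y = y := hy
      simpa using this
    have hσ2 : orderOf σ = 2 := by
      apply orderOf_eq_prime
      · rw [hσ, ← map_pow, hexp, map_one]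
      · intro h
        exact hfix 1 (by rw [h]; rfl)
    obtain ⟨n, hn⟩ := Perm.cycleType_prime_order (σ := σ) (by rw [hσ2]; norm_num)
    have hsum := Perm.sum_cycleType σ
    have hsupp : σ.support = Finset.univ := by
      ext y
      simp [hfix y]
    rw [hsupp, Finset.card_univ, hE, hn, hσ2, Multiset.sum_replicate, smul_eq_mul] at hsum
    rw [Perm.sign_of_cycleType, hn, hσ2, Multiset.sum_replicate, smul_eq_mul, hsum,
      Multiset.card_replicate]
    obtain ⟨i, rfl⟩ : ∃ i, j = i + 3 := by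
      refine ⟨j - 3, ?_⟩
      have : 3 ≤ j := by
        by_contra hcon
        push Not at hcon
        interval_cases j <;> omega
      omega
    have h1 : n + 1 = 2 ^ i * 4 := by
      have : 2 ^ (i + 3) = 2 ^ i * 8 := by ring
      omega
    rw [h1]
    apply Even.neg_one_pow
    have : 2 ^ (i + 3) = 2 ^ i * 8 := by ring
    rw [this]
    exact ⟨2 ^ i * 6, by ring⟩
  · have hodd : Odd p := hp.odd_of_ne_two hp2
    have h1 : (Perm.sign σ) ^ p = 1 := by
      rw [← map_pow, hσ, ← map_pow, hexp, map_one, map_one]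
    rcases Int.units_eq_one_or (Perm.sign σ) with h | h
    · exact h
    · rw [h, hodd.neg_one_pow] at h1
      exact absurd h1 (by decide)

end alternating


theorem toPermHom_injective_of_simple {T : Type*} [Group T] [IsSimpleGroup T] (R : Subgroup T)
    (hR : R ≠ ⊤) : Function.Injective (MulAction.toPermHom T (T ⧸ R)) := by
  rw [← MonoidHom.ker_eq_bot_iff]
  rcases (inferInstance : (MulAction.toPermHom T (T ⧸ R)).ker.Normal).eq_bot_or_eq_top with h | h
  · exact h
  · exfalso
    apply hR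
    rw [eq_top_iff]
    intro x _
    have h1 : x ∈ (MulAction.toPermHom T (T ⧸ R)).ker := by rw [h]; exact mem_top x
    rw [← Subgroup.normalCore_eq_ker] at h1
    exact R.normalCore_le h1

theorem hasReg_alternating {T : Type*} [Group T] [Finite T] {p j : ℕ} (hp : p.Prime)
    (h5 : 5 ≤ p ^ j) (e : T ≃* alternatingGroup (Fin (p ^ j))) (R : Subgroup T)
    (hR : R.index = p ^ j) : HasReg R := by
  classical
  have : Fact p.Prime := ⟨hp⟩
  have hs : IsSimpleGroup T := by
    have h1 : IsSimpleGroup (alternatingGroup (Fin (p ^ j))) :=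
      alternatingGroup.isSimpleGroup (by rw [Nat.card_eq_fintype_card, Fintype.card_fin]; exact h5)
    exact e.isSimpleGroup
  have hRtop : R ≠ ⊤ := by
    rintro rfl
    rw [Subgroup.index_top] at hR
    omega
  set φ := MulAction.toPermHom T (T ⧸ R) with hφ
  have hinj : Function.Injective φ := toPermHom_injective_of_simple R hRtop
  have : Fintype (T ⧸ R) := Fintype.ofFinite _
  have hcard : Fintype.card (T ⧸ R) = p ^ j := by
    rw [← Nat.card_eq_fintype_card]
    exact hR
  have hnt : Nontrivial (Fin (p ^ j)) := Fin.nontrivial_iff_two_le.mpr (by omega)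
  have hnt' : Nontrivial (T ⧸ R) := by
    rw [← Fintype.one_lt_card_iff_nontrivial, hcard]
    omega
  have hT : 2 * Nat.card T = (p ^ j).factorial := by
    rw [Nat.card_congr e.toEquiv, Nat.card_eq_fintype_card, two_mul_card_alternatingGroup,
      Fintype.card_perm, Fintype.card_fin]
  have hrange : φ.range = alternatingGroup (T ⧸ R) := by
    apply Equiv.Perm.eq_alternatingGroup_of_index_eq_two
    have h1 := φ.range.card_mul_index
    rw [Nat.card_eq_fintype_card (α := Perm (T ⧸ R)), Fintype.card_perm, hcard, ← hT,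
      ← Nat.card_congr (MonoidHom.ofInjective hinj).toEquiv, mul_comm 2] at h1
    exact Nat.eq_of_mul_eq_mul_left Nat.card_pos h1
  let E := Multiplicative (Fin j → ZMod p)
  have hE : Fintype.card E = p ^ j := by
    rw [Fintype.card_multiplicative, Fintype.card_fun, ZMod.card, Fintype.card_fin]
  have hexp : ∀ x : E, x ^ p = 1 := by
    intro x
    apply Multiplicative.toAdd.injective
    rw [toAdd_pow, toAdd_one]
    funext i
    simp
  let f : E ≃ T ⧸ R := Fintype.equivOfCardEq (by rw [hE, hcard])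
  let ρ : E →* Perm (T ⧸ R) := f.permCongrHom.toMonoidHom.comp (MulAction.toPermHom E E)
  have hρ : ∀ x y, ρ x (f y) = f (x * y) := by
    intro x y
    change f (MulAction.toPermHom E E x (f.symm (f y))) = _
    rw [Equiv.symm_apply_apply]
    rfl
  have hρfix : ∀ x z, ρ x z = z → x = 1 := by
    intro x z hz
    obtain ⟨y, rfl⟩ := f.surjective z
    rw [hρ] at hz
    have := f.injective hz
    simpa using this
  have hρinj : Function.Injective ρ := by
    rw [injective_iff_map_eq_one]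
    intro x hx
    exact hρfix x (f 1) (by rw [hx]; rfl)
  have hρalt : ρ.range ≤ φ.range := by
    rw [hrange]
    rintro _ ⟨x, rfl⟩
    rw [Equiv.Perm.mem_alternatingGroup]
    have h1 := regular_even hp hE h5 hexp x
    change Perm.sign (f.permCongr (MulAction.toPermHom E E x)) = 1
    rw [Equiv.Perm.sign_permCongr]
    exact h1
  refine ⟨ρ.range.comap φ, ?_, ?_⟩
  · rw [hR]
    have h1 : (ρ.range.comap φ).map φ = ρ.range := by
      rw [Subgroup.map_comap_eq]
      exact inf_eq_right.mpr hρalt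
    rw [Nat.card_congr ((ρ.range.comap φ).equivMapOfInjective φ hinj).toEquiv, h1,
      ← Nat.card_congr (MonoidHom.ofInjective hρinj).toEquiv, Nat.card_eq_fintype_card, hE]
  · rintro t x ⟨y, hy⟩ htx
    apply hinj
    rw [map_one, ← hy]
    have h1 : φ x (QuotientGroup.mk t : T ⧸ R) = QuotientGroup.mk t := by
      change (QuotientGroup.mk (x * t) : T ⧸ R) = QuotientGroup.mk t
      rw [eq_comm, QuotientGroup.eq]
      simpa [mul_assoc] using htx
    rw [← hy] at h1
    rw [hρfix y _ h1, map_one]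


theorem psl_not_dvd {T : Type*} [Group T] [Finite T] {p j : ℕ} (hp : p.Prime) (hj : 1 ≤ j)
    (R : Subgroup T) (hR : R.index = p ^ j) {d : ℕ} {F : Type*} [Field F] [Fintype F] (hd : 2 ≤ d)
    (hq : Fintype.card F ^ d - 1 = p ^ j * (Fintype.card F - 1))
    (e : T ≃* Matrix.ProjectiveSpecialLinearGroup (Fin d) F) : ¬ p ∣ Nat.card R := by
  classical
  set q := Fintype.card F with hqdef
  have hq2 : 2 ≤ q := Fintype.one_lt_card
  have hpj : 0 < p ^ j := pow_pos hp.pos j
  have hcT : Nat.card T = Nat.card R * p ^ j := by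
    rw [← R.card_mul_index, hR]
  rcases Nat.lt_or_ge 2 d with h3 | h3
  · -- `d ≥ 3`
    have h6 : ¬ (q = 2 ∧ d = 6) := by
      rintro ⟨h1, rfl⟩
      rw [h1] at hq
      norm_num at hq
      have h7 : (7 : ℕ) ∣ p ^ j := by rw [← hq]; norm_num
      have h8 : (3 : ℕ) ∣ p ^ j := by rw [← hq]; norm_num
      have h9 := (Nat.prime_dvd_prime_iff_eq (by norm_num) hp).mp
        (Nat.Prime.dvd_of_dvd_pow (by norm_num) h7)
      have h10 := (Nat.prime_dvd_prime_iff_eq (by norm_num) hp).mp
        (Nat.Prime.dvd_of_dvd_pow (by norm_num) h8)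
      omega
    obtain ⟨r, hr, hrd, -, hrq⟩ := Cfsg.Agent.Lib.Zsigmondy.exists_primitive (a := q) (n := d) hq2
      (by omega) (by omega) h6
    have hrp : r = p := by
      have h1 : r ∣ q ^ d - 1 := (hrd d).mpr dvd_rfl
      have h2 : ¬ r ∣ q - 1 := by
        intro h
        have h4 := (hrd 1).mp (by rwa [pow_one])
        have := Nat.le_of_dvd one_pos h4
        omega
      rw [hq] at h1
      have h4 := (hr.dvd_mul.mp h1).resolve_right h2
      exact (Nat.prime_dvd_prime_iff_eq hr hp).mp (hr.dvd_of_dvd_pow h4)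
    subst hrp
    obtain ⟨n, rfl⟩ : ∃ n, d = n + 1 := ⟨d - 1, by omega⟩
    have hX : ¬ r ∣ ∏ i : Fin n, (q ^ (n + 1) - q ^ ((i : ℕ) + 1)) := by
      rw [Prime.dvd_finsetProd_iff hr.prime]
      rintro ⟨i, -, hi⟩
      have h1 : q ^ (n + 1) - q ^ ((i : ℕ) + 1) = q ^ ((i : ℕ) + 1) * (q ^ (n - i) - 1) := by
        rw [Nat.mul_sub, mul_one, ← pow_add]
        congr 2
        have := i.2
        omega
      rw [h1] at hi
      rcases hr.dvd_mul.mp hi with h2 | h2
      · exact hrq (hr.dvd_of_dvd_pow h2)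
      · have h4 := (hrd _).mp h2
        have h5 := i.2
        have := Nat.le_of_dvd (by omega) h4
        omega
    have hSL : Nat.card (Matrix.SpecialLinearGroup (Fin (n + 1)) F) =
        r ^ j * ∏ i : Fin n, (q ^ (n + 1) - q ^ ((i : ℕ) + 1)) := by
      have h1 := ClassicalGeometry.PSL2Basic.card_SL_mul (Fin (n + 1)) F
      rw [Matrix.card_GL_field, Fin.prod_univ_succ] at h1
      simp only [Fin.val_zero, pow_zero, Fin.val_succ] at h1
      rw [← hqdef, hq] at h1
      apply Nat.eq_of_mul_eq_mul_right (show 0 < q - 1 by omega)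
      rw [h1]
      ring
    have hdvd : Nat.card T ∣ Nat.card (Matrix.SpecialLinearGroup (Fin (n + 1)) F) := by
      rw [Nat.card_congr e.toEquiv]
      exact Subgroup.card_quotient_dvd_card _
    intro h
    apply hX
    refine h.trans ?_
    rw [hSL, hcT, mul_comm (Nat.card R)] at hdvd
    exact Nat.dvd_of_mul_dvd_mul_left hpj hdvd
  · -- `d = 2`
    obtain rfl : d = 2 := by omega
    have hq1 : q ^ 2 - 1 = (q + 1) * (q - 1) := by
      obtain ⟨a, ha⟩ : ∃ a, q = a + 1 := ⟨q - 1, by omega⟩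
      rw [ha, Nat.add_sub_cancel]
      have : (a + 1) ^ 2 = (a + 1 + 1) * a + 1 := by ring
      omega
    have hqp : q + 1 = p ^ j := by
      rw [hq1] at hq
      exact Nat.eq_of_mul_eq_mul_right (show 0 < q - 1 by omega) hq
    have h1 := ClassicalGeometry.PSL2Basic.card_PSL2_gcd F
    rw [← Nat.card_congr e.toEquiv, ← hqdef, hcT, hq1, hqp] at h1
    have h2 : Nat.card R * Nat.gcd 2 (q - 1) = q * (q - 1) := by
      apply Nat.eq_of_mul_eq_mul_right hpj
      rw [mul_assoc, mul_comm (Nat.gcd _ _), ← mul_assoc, h1]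
      ring
    have hpq : ¬ p ∣ q := by
      intro h
      have h4 : p ∣ q + 1 := by rw [hqp]; exact dvd_pow_self p (by omega)
      exact hp.one_lt.ne' (Nat.dvd_one.mp ((Nat.dvd_add_right h).mp h4))
    by_cases hp2 : p = 2
    · subst hp2
      obtain ⟨i, rfl⟩ : ∃ i, j = i + 2 := by
        refine ⟨j - 2, ?_⟩
        have : j ≠ 1 := by
          rintro rfl
          omega
        omega
      have h3 : q - 1 = 2 * (2 ^ (i + 1) - 1) := by
        have h4 : 2 ^ (i + 2) = 2 * 2 ^ (i + 1) := by ring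
        omega
      have h4 : Nat.gcd 2 (q - 1) = 2 := Nat.gcd_eq_left ⟨_, h3⟩
      rw [h4, h3] at h2
      have h5 : Nat.card R = q * (2 ^ (i + 1) - 1) := by
        apply Nat.eq_of_mul_eq_mul_right (show 0 < 2 by norm_num)
        rw [h2]
        ring
      rw [h5]
      intro h
      rcases Nat.prime_two.dvd_mul.mp h with h6 | h6
      · exact hpq h6
      · have h7 : 2 ∣ 2 ^ (i + 1) := dvd_pow_self 2 (by omega)
        have h8 : 1 ≤ 2 ^ (i + 1) := Nat.one_le_pow _ _ (by norm_num)
        omega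
    · intro h
      have h3 : p ∣ q * (q - 1) := by rw [← h2]; exact h.mul_right _
      rcases hp.dvd_mul.mp h3 with h4 | h4
      · exact hpq h4
      · have h5 : p ∣ q + 1 := by rw [hqp]; exact dvd_pow_self p (by omega)
        have h6 : p ∣ 2 := by
          have := Nat.dvd_sub h5 h4
          have h7 : q + 1 - (q - 1) = 2 := by omega
          rwa [h7] at this
        exact hp2 ((Nat.prime_dvd_prime_iff_eq hp Nat.prime_two).mp h6)

/-- If the order is known and `p` divides it exactly `j` times. -/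
theorem hasReg_of_card {T : Type*} [Group T] [Finite T] {p j n : ℕ} (hp : p.Prime)
    (R : Subgroup T) (hR : R.index = p ^ j) (hT : Nat.card T = p ^ j * n) (hn : ¬ p ∣ n) :
    HasReg R := by
  apply hasReg_of_not_dvd hp R hR
  have h1 := R.card_mul_index
  rw [hR, hT, mul_comm] at h1
  rwa [Nat.eq_of_mul_eq_mul_left (pow_pos hp.pos j) h1]

theorem hasReg_psl11 {T : Type*} [Group T] [Finite T]
    (e : T ≃* Matrix.ProjectiveSpecialLinearGroup (Fin 2) (ZMod 11)) (R : Subgroup T)
    (hR : R.index = 11) : HasReg R := by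
  have : Fact (Nat.Prime 11) := ⟨by norm_num⟩
  have h1 := ClassicalGeometry.PSL2Basic.card_PSL2_gcd (ZMod 11)
  rw [← Nat.card_congr e.toEquiv, ZMod.card] at h1
  norm_num at h1
  have h2 : Nat.card T = 11 ^ 1 * 60 := by omega
  exact hasReg_of_card (p := 11) (j := 1) (by norm_num) R (by rw [hR]; norm_num) h2 (by norm_num)

theorem hasReg_m11 {T : Type*} [Group T] [Finite T] (hT : Nat.card T = 7920) (R : Subgroup T)
    (hR : R.index = 11) : HasReg R :=
  hasReg_of_card (p := 11) (j := 1) (n := 720) (by norm_num) R (by rw [hR]; norm_num)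
    (by rw [hT]; norm_num) (by norm_num)

theorem hasReg_m23 {T : Type*} [Group T] [Finite T] (hT : Nat.card T = 10200960) (R : Subgroup T)
    (hR : R.index = 23) : HasReg R :=
  hasReg_of_card (p := 23) (j := 1) (n := 443520) (by norm_num) R (by rw [hR]; norm_num)
    (by rw [hT]; norm_num) (by norm_num)


open MulAction

theorem HasReg.of_comap {G T : Type*} [Group G] [Group T] (f : G →* T)
    (hf : Function.Surjective f) (R : Subgroup T) (h : HasReg (R.comap f)) : HasReg R := by
  obtain ⟨Q, hQ, hQ'⟩ := h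
  have hinj : ∀ x ∈ Q, f x = 1 → x = 1 := by
    intro x hx hfx
    apply hQ' 1 x hx
    rw [inv_one, one_mul, mul_one, mem_comap, hfx]
    exact R.one_mem
  refine ⟨Q.map f, ?_, ?_⟩
  · rw [← index_comap_of_surjective R hf, ← hQ]
    have h1 : Function.Injective (f.subgroupMap Q) := by
      rw [injective_iff_map_eq_one]
      intro x hx
      apply Subtype.ext
      exact hinj x x.2 (congrArg Subtype.val hx)
    exact (Nat.card_congr (Equiv.ofBijective _ ⟨h1, f.subgroupMap_surjective Q⟩)).symm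
  · rintro t _ ⟨x, hx, rfl⟩ ht
    obtain ⟨s, rfl⟩ := hf t
    rw [hQ' s x hx (by rw [mem_comap, map_mul, map_mul, map_inv]; exact ht), map_one]

/-- A criterion for the existence of a regular subgroup of order `27`. -/
theorem hasReg_of_chars {G : Type*} [Group G] [Finite G] (R : Subgroup G) (hR : R.index = 27)
    {m : ℕ} (hG : Nat.card G = 81 * m) (hm : ¬ 3 ∣ m) (P : Subgroup G) (hP : Nat.card P = 81)
    (χ : Bool → P →* Multiplicative (ZMod 3)) (hχ : ∀ i, Function.Surjective (χ i))
    (hfus : ∀ x : P, x ≠ 1 → (∀ i, χ i x = 1) → ∃ g : G, ∃ y : P, g * x * g⁻¹ = y ∧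
      ∃ i, χ i y ≠ 1) : HasReg R := by
  classical
  have hRc : Nat.card R = 3 * m := by
    have h1 := R.card_mul_index
    rw [hR, hG] at h1
    omega
  -- stabilisers
  have hmem : ∀ (t : G) (x : P), x ∈ stabilizer P (QuotientGroup.mk t : G ⧸ R) ↔
      t⁻¹ * (x : G) * t ∈ R := by
    intro t x
    rw [mem_stabilizer_iff]
    have h1 : x • (QuotientGroup.mk t : G ⧸ R) = QuotientGroup.mk ((x : G) * t) := rfl
    rw [h1, eq_comm, QuotientGroup.eq, mul_assoc]
  have hst : ∀ ω : G ⧸ R, Nat.card (stabilizer P ω) ∣ 3 := by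
    intro ω
    obtain ⟨t, rfl⟩ := QuotientGroup.mk_surjective ω
    have h1 : Nat.card (stabilizer P (QuotientGroup.mk t : G ⧸ R)) ∣ 81 := by
      rw [← hP]; exact card_subgroup_dvd_card _
    have h2 : Nat.card (stabilizer P (QuotientGroup.mk t : G ⧸ R)) ∣ 3 * m := by
      rw [← hRc]
      let f : stabilizer P (QuotientGroup.mk t : G ⧸ R) →* R :=
        { toFun := fun x => ⟨t⁻¹ * (x : P) * t, (hmem t x).mp x.2⟩
          map_one' := by simp
          map_mul' := fun x y => by
            apply Subtype.ext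
            change t⁻¹ * (((x : P) * (y : P) : P) : G) * t = t⁻¹ * (x : P) * t * (t⁻¹ * (y : P) * t)
            rw [coe_mul]
            group }
      have hf : Function.Injective f := by
        intro x y hxy
        have h3 : t⁻¹ * ((x : P) : G) * t = t⁻¹ * ((y : P) : G) * t := congrArg Subtype.val hxy
        exact Subtype.ext (Subtype.ext (mul_left_cancel (mul_right_cancel h3)))
      exact card_dvd_of_injective f hf
    have h3 : Nat.Coprime 27 m := by
      rw [show (27 : ℕ) = 3 ^ 3 by norm_num]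
      exact Nat.Coprime.pow_left 3 ((Nat.Prime.coprime_iff_not_dvd (by norm_num)).mpr hm)
    have h4 := Nat.dvd_gcd h1 h2
    rw [show (81 : ℕ) = 3 * 27 by norm_num, Nat.gcd_mul_left, h3, mul_one] at h4
    exact h4
  have hidx : ∀ ω : G ⧸ R, (stabilizer P ω).index ≤ 27 := by
    intro ω
    rw [index_stabilizer, ← hR, Subgroup.index]
    exact Set.ncard_le_card _
  have hst3 : ∀ ω : G ⧸ R, Nat.card (stabilizer P ω) = 3 ∧ (stabilizer P ω).index = 27 := by
    intro ω
    have h1 := (stabilizer P ω).card_mul_index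
    rw [hP] at h1
    have h2 := Nat.le_of_dvd (by norm_num) (hst ω)
    have h3 := hidx ω
    constructor <;> nlinarith
  have htr : IsPretransitive P (G ⧸ R) := by
    obtain ⟨ω⟩ := (inferInstance : Nonempty (G ⧸ R))
    rw [isPretransitive_iff_orbit_eq_univ (a := ω)]
    apply Set.eq_of_subset_of_ncard_le (Set.subset_univ _)
    rw [Set.ncard_univ, ← index_stabilizer, (hst3 ω).2]
    exact hR.le
  -- conjugacy of the stabilisers
  have hgen : ∀ (ω : G ⧸ R) (x y : P), x ∈ stabilizer P ω → y ∈ stabilizer P ω → x ≠ 1 →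
      y ∈ zpowers x := by
    intro ω x y hx hy hx1
    have : Fact (Nat.Prime 3) := ⟨by norm_num⟩
    have h1 := mem_zpowers_of_prime_card (hst3 ω).1 (g := (⟨x, hx⟩ : stabilizer P ω))
      (g' := ⟨y, hy⟩) (fun h => hx1 (congrArg Subtype.val h))
    obtain ⟨k, hk⟩ := h1
    exact ⟨k, congrArg Subtype.val hk⟩
  have hconj : ∀ (ω ω' : G ⧸ R) (x y : P), x ∈ stabilizer P ω → x ≠ 1 → y ∈ stabilizer P ω' →
      ∃ h : P, ∃ k : ℤ, h * y * h⁻¹ = x ^ k := by
    intro ω ω' x y hx hx1 hy
    obtain ⟨h, hh⟩ := exists_smul_eq P ω' ω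
    have h1 : h * y * h⁻¹ ∈ stabilizer P ω := by
      rw [mem_stabilizer_iff, mul_smul, mul_smul, ← hh, inv_smul_smul, mem_stabilizer_iff.mp hy]
    obtain ⟨k, hk⟩ := hgen ω x _ hx h1 hx1
    exact ⟨h, k, hk.symm⟩
  have hχc : ∀ i (h y x : P) (k : ℤ), h * y * h⁻¹ = x ^ k → χ i y = χ i x ^ k := by
    intro i h y x k hk
    have h1 := congrArg (χ i) hk
    rw [map_mul, map_mul, map_inv, map_zpow] at h1
    rw [← h1, mul_comm, inv_mul_cancel_left]
  -- an element of the first stabiliser
  obtain ⟨x₀, hx₀, hx₀1⟩ : ∃ x₀ : P, x₀ ∈ stabilizer P (QuotientGroup.mk 1 : G ⧸ R) ∧ x₀ ≠ 1 := by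
    have h1 := (hst3 (QuotientGroup.mk 1)).1
    have h2 : Nontrivial (stabilizer P (QuotientGroup.mk 1 : G ⧸ R)) := by
      rw [← Finite.one_lt_card_iff_nontrivial, h1]
      norm_num
    obtain ⟨x, hx⟩ := exists_ne (1 : stabilizer P (QuotientGroup.mk 1 : G ⧸ R))
    exact ⟨x, x.2, fun h => hx (Subtype.ext h)⟩
  have hx₀R : (x₀ : G) ∈ R := by
    have := (hmem 1 x₀).mp hx₀
    simpa using this
  obtain ⟨i, hi⟩ : ∃ i, χ i x₀ ≠ 1 := by
    by_contra hcon
    push Not at hcon
    obtain ⟨g, y, hgy, j, hj⟩ := hfus x₀ hx₀1 hcon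
    apply hj
    have h1 : y ∈ stabilizer P (QuotientGroup.mk g : G ⧸ R) := by
      rw [hmem, ← hgy]
      have : g⁻¹ * (g * (x₀ : G) * g⁻¹) * g = x₀ := by group
      rw [this]
      exact hx₀R
    obtain ⟨h, k, hk⟩ := hconj _ _ x₀ y hx₀ hx₀1 h1
    rw [hχc j h y x₀ k hk, hcon j, one_zpow]
  refine ⟨(χ i).ker.map P.subtype, ?_, ?_⟩
  · rw [hR, Nat.card_congr ((χ i).ker.equivMapOfInjective P.subtype P.subtype_injective).toEquiv.symm]
    have h1 := (χ i).ker.card_mul_index
    rw [Subgroup.index_ker, MonoidHom.range_eq_top.mpr (hχ i), Subgroup.card_top, hP] at h1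
    have h2 : Nat.card (Multiplicative (ZMod 3)) = 3 := by
      rw [Nat.card_eq_fintype_card, Fintype.card_multiplicative, ZMod.card]
    rw [h2] at h1
    omega
  · rintro t _ ⟨x, hx, rfl⟩ ht
    have h1 : x ∈ stabilizer P (QuotientGroup.mk t : G ⧸ R) := (hmem t x).mpr ht
    by_contra hx1
    have hx1' : x ≠ 1 := fun h => hx1 (by rw [h]; rfl)
    obtain ⟨h, k, hk⟩ := hconj _ _ x x₀ h1 hx1' hx₀
    apply hi
    rw [hχc i h x₀ x k hk, MonoidHom.mem_ker.mp hx, one_zpow]


open MulAction Matrix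

namespace SpThree

abbrev Z := ZMod 3

theorem T2 (a b c d : Z) : (!![a, b; c, d] : Matrix (Fin 2) (Fin 2) Z)ᵀ = !![a, c; b, d] := by
  ext i j
  fin_cases i <;> fin_cases j <;> rfl

/-- Block upper unitriangular matrices -/
def pm (t a b c : Z) : Matrix (Fin 2 ⊕ Fin 2) (Fin 2 ⊕ Fin 2) Z :=
  fromBlocks !![1, t; 0, 1] !![a - c * t, c; c - b * t, b] 0 !![1, 0; -t, 1]

theorem pm_mul (t a b c t' a' b' c' : Z) : pm t a b c * pm t' a' b' c' =
    pm (t + t') (a + a' + 2 * t * c' + t * t * b') (b + b') (c + c' + t * b') := by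
  unfold pm
  rw [fromBlocks_multiply]
  congr 1 <;>
  · ext i j
    fin_cases i <;> fin_cases j <;> simp [Matrix.mul_apply, Fin.sum_univ_two] <;> ring

theorem pm_one : pm 0 0 0 0 = 1 := by
  unfold pm
  rw [← fromBlocks_one]
  congr 1 <;>
  · ext i j
    fin_cases i <;> fin_cases j <;> simp

theorem pm_mem (t a b c : Z) : pm t a b c ∈ symplecticGroup (Fin 2) Z := by
  rw [SymplecticGroup.mem_iff]
  unfold pm
  simp only [J, fromBlocks_multiply, fromBlocks_transpose, fromBlocks_multiply, T2, transpose_zero]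
  congr 1 <;>
  · ext i j
    fin_cases i <;> fin_cases j <;> simp [Matrix.mul_apply, Fin.sum_univ_two] <;> ring

/-- the two elements used for the fusion -/
def g1 : Matrix (Fin 2 ⊕ Fin 2) (Fin 2 ⊕ Fin 2) Z :=
  fromBlocks !![0, 1; 1, 0] 0 0 !![0, 1; 1, 0]

def g2 : Matrix (Fin 2 ⊕ Fin 2) (Fin 2 ⊕ Fin 2) Z :=
  fromBlocks !![1, 0; 1, 1] 0 0 !![1, -1; 0, 1]

theorem g1_mem : g1 ∈ symplecticGroup (Fin 2) Z := by
  rw [SymplecticGroup.mem_iff]
  unfold g1
  simp only [J, fromBlocks_multiply, fromBlocks_transpose, fromBlocks_multiply, T2, transpose_zero]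
  congr 1 <;>
  · ext i j
    fin_cases i <;> fin_cases j <;> simp [Matrix.mul_apply, Fin.sum_univ_two]

theorem g2_mem : g2 ∈ symplecticGroup (Fin 2) Z := by
  rw [SymplecticGroup.mem_iff]
  unfold g2
  simp only [J, fromBlocks_multiply, fromBlocks_transpose, fromBlocks_multiply, T2, transpose_zero]
  congr 1 <;>
  · ext i j
    fin_cases i <;> fin_cases j <;> simp [Matrix.mul_apply, Fin.sum_univ_two]

theorem g1_conj (a c : Z) : g1 * pm 0 a 0 c = pm 0 0 a c * g1 := by
  unfold pm g1
  rw [fromBlocks_multiply, fromBlocks_multiply]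
  congr 1 <;>
  · ext i j
    fin_cases i <;> fin_cases j <;> simp [Matrix.mul_apply, Fin.sum_univ_two]

theorem g2_conj (c : Z) : g2 * pm 0 0 0 c = pm 0 0 (2 * c) c * g2 := by
  unfold pm g2
  rw [fromBlocks_multiply, fromBlocks_multiply]
  congr 1 <;>
  · ext i j
    fin_cases i <;> fin_cases j <;> simp [Matrix.mul_apply, Fin.sum_univ_two] <;> ring

/-- the Sylow subgroup -/
def P : Subgroup (symplecticGroup (Fin 2) Z) where
  carrier := {x | ∃ t a b c, x.1 = pm t a b c}
  one_mem' := ⟨0, 0, 0, 0, pm_one.symm⟩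
  mul_mem' := by
    rintro x y ⟨t, a, b, c, hx⟩ ⟨t', a', b', c', hy⟩
    refine ⟨t + t', a + a' + 2 * t * c' + t * t * b', b + b', c + c' + t * b', ?_⟩
    rw [Submonoid.coe_mul, hx, hy, pm_mul]
  inv_mem' := by
    rintro x ⟨t, a, b, c, hx⟩
    refine ⟨-t, -(a - 2 * t * c + t * t * b), -b, -(c - t * b), ?_⟩
    have h1 : x * ⟨_, pm_mem (-t) (-(a - 2 * t * c + t * t * b)) (-b) (-(c - t * b))⟩ = 1 := by
      apply Subtype.ext
      rw [Submonoid.coe_mul, hx, pm_mul, Submonoid.coe_one, ← pm_one]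
      congr 1 <;> ring
    rw [inv_eq_of_mul_eq_one_right h1]


theorem pm_entries (t a b c : Z) : pm t a b c (Sum.inl 0) (Sum.inl 1) = t ∧
    pm t a b c (Sum.inl 1) (Sum.inr 1) = b ∧ pm t a b c (Sum.inl 0) (Sum.inr 1) = c ∧
    pm t a b c (Sum.inl 0) (Sum.inr 0) = a - c * t :=
  ⟨rfl, rfl, rfl, rfl⟩

theorem pm_inj {t a b c t' a' b' c' : Z} (h : pm t a b c = pm t' a' b' c') :
    t = t' ∧ a = a' ∧ b = b' ∧ c = c' := by
  obtain ⟨h1, h2, h3, h4⟩ := pm_entries t a b c
  obtain ⟨h1', h2', h3', h4'⟩ := pm_entries t' a' b' c'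
  have ht : t = t' := by rw [← h1, ← h1', h]
  have hb : b = b' := by rw [← h2, ← h2', h]
  have hc : c = c' := by rw [← h3, ← h3', h]
  have ha : a - c * t = a' - c' * t' := by rw [← h4, ← h4', h]
  subst ht hb hc
  exact ⟨rfl, sub_left_injective ha, rfl, rfl⟩

theorem card_P : Nat.card P = 81 := by
  let f : Z × Z × Z × Z → P := fun x => ⟨⟨_, pm_mem x.1 x.2.1 x.2.2.1 x.2.2.2⟩, _, _, _, _, rfl⟩
  have hf : Function.Bijective f := by
    constructor
    · rintro ⟨t, a, b, c⟩ ⟨t', a', b', c'⟩ h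
      have h1 : pm t a b c = pm t' a' b' c' :=
        congrArg (fun x : P => (x.1 : Matrix (Fin 2 ⊕ Fin 2) (Fin 2 ⊕ Fin 2) Z)) h
      obtain ⟨rfl, rfl, rfl, rfl⟩ := pm_inj h1
      rfl
    · rintro ⟨x, t, a, b, c, hx⟩
      exact ⟨(t, a, b, c), Subtype.ext (Subtype.ext hx.symm)⟩
  rw [← Nat.card_congr (Equiv.ofBijective f hf), Nat.card_prod, Nat.card_prod, Nat.card_prod,
    Nat.card_zmod]

/-- the matrix entries which define the two characters -/
def ent (i : Bool) (m : Matrix (Fin 2 ⊕ Fin 2) (Fin 2 ⊕ Fin 2) Z) : Z :=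
  bif i then m (Sum.inl 0) (Sum.inl 1) else m (Sum.inl 1) (Sum.inr 1)

theorem ent_pm (i : Bool) (t a b c : Z) : ent i (pm t a b c) = bif i then t else b := by
  cases i <;> rfl

/-- the two characters -/
def chi (i : Bool) : P →* Multiplicative (ZMod 3) where
  toFun x := Multiplicative.ofAdd (ent i x.1.1)
  map_one' := by
    have h : ((1 : P).1.1 : Matrix (Fin 2 ⊕ Fin 2) (Fin 2 ⊕ Fin 2) Z) = pm 0 0 0 0 := pm_one.symm
    rw [h, ent_pm]
    cases i <;> rfl
  map_mul' := by
    rintro ⟨x, t, a, b, c, hx⟩ ⟨y, t', a', b', c', hy⟩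
    have h : (x.1 * y.1 : Matrix (Fin 2 ⊕ Fin 2) (Fin 2 ⊕ Fin 2) Z) = _ :=
      (congrArg₂ (· * ·) hx hy).trans (pm_mul t a b c t' a' b' c')
    change Multiplicative.ofAdd (ent i (x.1 * y.1)) = Multiplicative.ofAdd (ent i x.1) *
      Multiplicative.ofAdd (ent i y.1)
    rw [h, hx, hy, ent_pm, ent_pm, ent_pm]
    cases i <;> rfl

theorem chi_pm (t a b c : Z) (i : Bool) (x : P)
    (hx : (x.1.1 : Matrix (Fin 2 ⊕ Fin 2) (Fin 2 ⊕ Fin 2) Z) = pm t a b c) :
    chi i x = Multiplicative.ofAdd (bif i then t else b) := by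
  change Multiplicative.ofAdd (ent i x.1.1) = _
  rw [hx, ent_pm]

theorem chi_surj (i : Bool) : Function.Surjective (chi i) := by
  intro z
  refine ⟨⟨⟨_, pm_mem z.toAdd 0 z.toAdd 0⟩, _, _, _, _, rfl⟩, ?_⟩
  rw [chi_pm z.toAdd 0 z.toAdd 0 i _ rfl]
  cases i <;> rfl

theorem fusion (x : P) (hx1 : x ≠ 1) (hx : ∀ i, chi i x = 1) :
    ∃ g : symplecticGroup (Fin 2) Z, ∃ y : P, g * x * g⁻¹ = y ∧ ∃ i, chi i y ≠ 1 := by
  obtain ⟨x, t, a, b, c, hxm⟩ := x
  have h1 := hx true
  have h2 := hx false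
  rw [chi_pm t a b c _ _ hxm] at h1 h2
  have ht : t = 0 := h1
  have hb : b = 0 := h2
  subst ht hb
  by_cases ha : a = 0
  · have hc : c ≠ 0 := by
      rintro rfl
      apply hx1
      apply Subtype.ext
      apply Subtype.ext
      change (x.1 : Matrix (Fin 2 ⊕ Fin 2) (Fin 2 ⊕ Fin 2) Z) = 1
      rw [hxm, ha, pm_one]
    refine ⟨⟨g2, g2_mem⟩, ⟨⟨_, pm_mem 0 0 (2 * c) c⟩, _, _, _, _, rfl⟩, ?_, false, ?_⟩
    · rw [mul_inv_eq_iff_eq_mul]
      apply Subtype.ext
      change g2 * x.1 = pm 0 0 (2 * c) c * g2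
      rw [hxm, ha, g2_conj]
    · rw [chi_pm 0 0 (2 * c) c false _ rfl]
      intro h
      have h3 : 2 * c = 0 := h
      revert hc h3
      clear * -
      revert c
      decide
  · refine ⟨⟨g1, g1_mem⟩, ⟨⟨_, pm_mem 0 0 a c⟩, _, _, _, _, rfl⟩, ?_, false, ?_⟩
    · rw [mul_inv_eq_iff_eq_mul]
      apply Subtype.ext
      change g1 * x.1 = pm 0 0 a c * g1
      rw [hxm, g1_conj]
    · rw [chi_pm 0 0 a c false _ rfl]
      exact ha

end SpThree

theorem hasReg_psp {T : Type*} [Group T] [Finite T] (e : T ≃* Cfsg.PSp 2 (ZMod 3))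
    (R : Subgroup T) (hR : R.index = 27) : HasReg R := by
  have hfin : Finite (symplecticGroup (Fin 2) (ZMod 3)) := inferInstance
  let f : symplecticGroup (Fin 2) (ZMod 3) →* T :=
    e.symm.toMonoidHom.comp (QuotientGroup.mk' (center (symplecticGroup (Fin 2) (ZMod 3))))
  have hf : Function.Surjective f := e.symm.surjective.comp (QuotientGroup.mk'_surjective _)
  apply HasReg.of_comap f hf
  have hcard : Nat.card (symplecticGroup (Fin 2) (ZMod 3)) = 81 * 640 := by
    have h1 := S0245.result (F := ZMod 3) (q := 3) (ZMod.card 3) 2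
    simp only [Finset.prod_range_succ, Finset.prod_range_zero] at h1
    norm_num at h1
    omega
  exact hasReg_of_chars (R.comap f) (by rw [index_comap_of_surjective R hf, hR]) hcard
    (by norm_num) SpThree.P SpThree.card_P SpThree.chi SpThree.chi_surj SpThree.fusion

end Cfsg.Agent.H893
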