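import Cfsg.Agent.H893.SMod
import Cfsg.Agent.H854.Zed

/-!
# The elements of order three attached to norm one vectors, general dimension
-/

set_option autoImplicit false
set_option linter.unusedSectionVars false

namespace Cfsg.Agent.H893.SElt

open Cfsg Cfsg.Agent.LieClassical.HermBasic Cfsg.Agent.ClassicalGeometry.UnitTransv
open Cfsg.Agent.SporadicStructure.UnitTwo Cfsg.Agent.H854.UForm Cfsg.Agent.H854.UGeo
open Cfsg.Agent.H893.SGeo Cfsg.Agent.H893.SMod
open Cfsg.Agent.H854.UMod (omega_cube)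
open scoped Matrix

variable {F : Type*} [Field F] [Fintype F] {n : ℕ} (hF : Fintype.card F = 2 ^ 2)
  {ω : F} (hω : ω ^ 2 + ω + 1 = 0) {μ : F} (hμ : μ ^ 2 + μ + 1 = 0) (hdet : ω ^ n * (1 + μ) = 1)
include hF hω hμ hdet

/-- the element acting as `ω` on `c^⊥` and `ω (1 + μ)` on `c` -/
theorem exists_H {c : Fin n → F} (hc : hermForm n F 2 c c = 1) :
    ∃ g : SU n F 2, ∀ x, act g x = ω • x + (ω * μ * hermForm n F 2 x c) • c := by
  have h2 := two_eq_zero hF
  have hω0 : ω ≠ 0 := by rintro rfl; simp at hω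
  have hω3 := pow_three hF hω0
  have hM : ∀ x : Fin n → F, (ω • (rankOne 2 (μ • c) c)) *ᵥ x =
      ω • x + (ω * μ * hermForm n F 2 x c) • c := by
    intro x
    rw [Matrix.smul_mulVec, rankOne_mulVec, smul_add]
    congr 1
    rw [smul_smul, smul_smul]
    congr 1
    ring
  refine ⟨mk (ω • (rankOne 2 (μ • c) c)) ?_ ?_, ?_⟩
  · rw [Matrix.det_smul, det_rankOne, herm_smul_left, hc, Fintype.card_fin, mul_one]
    exact hdet
  · intro x y
    rw [hM, hM]
    have h3 := herm_swap hF y c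
    simp only [herm_add_left, herm_add_right hF, herm_smul_left, herm_smul_right, hc, h3]
    have e1 : μ + μ ^ 2 + μ ^ 3 = 0 := by linear_combination μ * hμ
    generalize hermForm n F 2 x c = a at *
    generalize hermForm n F 2 y c = b at *
    generalize hermForm n F 2 x y = t at *
    linear_combination (t + a * b ^ 2 * (μ + μ ^ 2 + μ ^ 3)) * hω3 + a * b ^ 2 * e1
  · intro x
    rw [act_mk, hM]

/-- the element of order three attached to a norm one vector -/
noncomputable def Hc {c : Fin n → F} (hc : hermForm n F 2 c c = 1) : SU n F 2 :=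
  (exists_H hF hω hμ hdet hc).choose

variable {c : Fin n → F} (hc : hermForm n F 2 c c = 1)

theorem act_H (x : Fin n → F) :
    act (Hc hF hω hμ hdet hc) x = ω • x + (ω * μ * hermForm n F 2 x c) • c :=
  (exists_H hF hω hμ hdet hc).choose_spec x

theorem H_perp {x : Fin n → F} (hx : hermForm n F 2 x c = 0) :
    act (Hc hF hω hμ hdet hc) x = ω • x := by
  rw [act_H hF hω hμ hdet hc, hx, mul_zero, zero_smul, add_zero]

theorem H_self : act (Hc hF hω hμ hdet hc) c = (ω * (1 + μ)) • c := by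
  rw [act_H hF hω hμ hdet hc, hc, ← add_smul]
  congr 1
  ring

theorem H_cube : Hc hF hω hμ hdet hc * Hc hF hω hμ hdet hc * Hc hF hω hμ hdet hc = 1 := by
  have h2 := two_eq_zero hF
  have hω3 := omega_cube hF hω
  have hμ3 := omega_cube hF hμ
  apply ext_act
  intro x
  rw [act_mul, act_mul, act_one]
  simp only [act_H hF hω hμ hdet hc, herm_add_left, herm_smul_left, hc]
  funext i
  simp only [Pi.add_apply, Pi.smul_apply, smul_eq_mul]
  generalize hermForm n F 2 x c = a
  generalize x i = b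
  generalize c i = d
  linear_combination b * hω3 + a * d * ω ^ 3 * μ * hμ + a * d * ω ^ 3 * (μ ^ 2 + μ) * h2

omit hω hμ hdet in
/-- the form against an eigenvector -/
theorem herm_eig {g : SU n F 2} {w : Fin n → F} {r : F} (hr : r ^ 3 = 1) (hw : act g w = r • w)
    (x : Fin n → F) : hermForm n F 2 (act g x) w = r * hermForm n F 2 x w := by
  have h1 : hermForm n F 2 (act g x) (act g w) = hermForm n F 2 x w := herm_act g x w
  rw [hw, herm_smul_right] at h1
  rw [← h1]
  linear_combination -(hermForm n F 2 (act g x) w) * hr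

theorem H_comm {g : SU n F 2} {r : F} (hr : r ^ 3 = 1) (hw : act g c = r • c) :
    g * Hc hF hω hμ hdet hc = Hc hF hω hμ hdet hc * g := by
  apply ext_act
  intro x
  rw [act_mul, act_mul, act_H hF hω hμ hdet hc, act_H hF hω hμ hdet hc, act_add, act_smul,
    act_smul, hw, herm_eig hF hr hw, smul_smul]
  have e1 : ω * μ * hermForm n F 2 x c * r = ω * μ * (r * hermForm n F 2 x c) := by ring
  rw [e1]

omit hω hμ hdet in
/-- elements without eigenvalue one -/
def Nice (_ : Fintype.card F = 2 ^ 2) (δ : SU n F 2) (p q : Fin n → F) : Prop :=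
  hermForm n F 2 p p = 1 ∧ hermForm n F 2 q q = 1 ∧ hermForm n F 2 p q = 0 ∧
  ∃ lam mu nu : F, lam ^ 3 = 1 ∧ mu ^ 3 = 1 ∧ nu ^ 3 = 1 ∧ lam ≠ 1 ∧ mu ≠ 1 ∧ nu ≠ 1 ∧
    act δ p = lam • p ∧ act δ q = mu • q ∧
    ∀ z, hermForm n F 2 z p = 0 → hermForm n F 2 z q = 0 → act δ z = nu • z

omit hμ hdet in
theorem exists_mu (h3 : ¬ 3 ∣ n) :
    ∃ μ : F, μ ^ 2 + μ + 1 = 0 ∧ ω ^ n * (1 + μ) = 1 ∧ (μ = ω ∨ μ = ω ^ 2) := by
  have h2 := two_eq_zero hF
  have hω3 := omega_cube hF hω
  obtain ⟨k, hk⟩ : ∃ k, k = n / 3 := ⟨_, rfl⟩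
  have h4 : n = 3 * k + 1 ∨ n = 3 * k + 2 := by omega
  rcases h4 with h4 | h4
  · refine ⟨ω, hω, ?_, Or.inl rfl⟩
    rw [h4, pow_add, pow_mul, hω3, one_pow]
    linear_combination hω - h2
  · refine ⟨ω ^ 2, ?_, ?_, Or.inr rfl⟩
    · linear_combination ω * hω3 + hω
    · rw [h4, pow_add, pow_mul, hω3, one_pow]
      linear_combination ω * hω3 + hω - h2

theorem exists_nice {p q : Fin n → F} (hp : hermForm n F 2 p p = 1)
    (hq : hermForm n F 2 q q = 1) (hpq : hermForm n F 2 p q = 0) (hcs : μ = ω ∨ μ = ω ^ 2) :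
    ∃ δ : SU n F 2, Nice hF δ p q := by
  have h2 := two_eq_zero hF
  have hω3 := omega_cube hF hω
  have hω0 : ω ≠ 0 := by rintro rfl; simp at hω
  have hω1 : ω ≠ 1 := by
    rintro rfl
    apply one_ne_zero (α := F)
    linear_combination hω - h2
  have hω1' : ω ^ 2 ≠ 1 := by
    intro h
    apply hω1
    linear_combination hω3 - ω * h
  have hω6 : (ω ^ 2) ^ 3 = 1 := by linear_combination (ω ^ 3 + 1) * hω3
  have hqp := herm_eq_zero_swap hF hpq
  rcases hcs with h1 | h1
  · have k1 : ω * (1 + μ) = 1 := by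
      rw [h1]; linear_combination hω - h2
    refine ⟨Hc hF hω hμ hdet hp * Hc hF hω hμ hdet hq, hp, hq, hpq, ω, ω, ω ^ 2, hω3, hω3, hω6,
      hω1, hω1, hω1', ?_, ?_, ?_⟩
    · rw [act_mul, H_perp hF hω hμ hdet hq hpq, act_smul, H_self hF hω hμ hdet hp, k1, one_smul]
    · rw [act_mul, H_self hF hω hμ hdet hq, k1, one_smul, H_perp hF hω hμ hdet hp hqp]
    · intro z hzp hzq
      rw [act_mul, H_perp hF hω hμ hdet hq hzq, act_smul, H_perp hF hω hμ hdet hp hzp, smul_smul,
        pow_two]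
  · have k1 : ω * (1 + μ) = ω ^ 2 := by
      rw [h1]; linear_combination hω3 + hω - ω ^ 2 * h2
    refine ⟨Hc hF hω hμ hdet hp, hp, hq, hpq, ω ^ 2, ω, ω, hω6, hω3, hω3, hω1', hω1, hω1,
      ?_, ?_, ?_⟩
    · rw [H_self hF hω hμ hdet hp, k1]
    · rw [H_perp hF hω hμ hdet hp hqp]
    · intro z hzp hzq
      rw [H_perp hF hω hμ hdet hp hzp]

end Cfsg.Agent.H893.SElt
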