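import Cfsg.Agent.H854.UMod
import Cfsg.Agent.H854.UBlock

/-!
# Geometry for the splitting over `SU_n(2)`
-/

set_option autoImplicit false
set_option linter.unusedSectionVars false

namespace Cfsg.Agent.H893.SGeo

open Cfsg Cfsg.Agent.LieClassical.HermBasic Cfsg.Agent.ClassicalGeometry.UnitTransv
open Cfsg.Agent.SporadicStructure.UnitTwo Cfsg.Agent.H854.UForm Cfsg.Agent.H854.UGeo
open Cfsg.Agent.H854.UStab Cfsg.Agent.H854.UBlock Cfsg.Agent.H854.UMod
open scoped Matrix

variable {F : Type*} [Field F] [Fintype F] {n : ℕ} (hF : Fintype.card F = 2 ^ 2)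

/-- orthonormal families -/
def ON {ι : Type*} [DecidableEq ι] (c : ι → Fin n → F) : Prop :=
  ∀ i j, hermForm n F 2 (c i) (c j) = if i = j then 1 else 0

include hF

theorem on_option {ι : Type*} [DecidableEq ι] {c : ι → Fin n → F} (hc : ON c)
    {t : Fin n → F} (ht : hermForm n F 2 t t = 1) (htc : ∀ i, hermForm n F 2 t (c i) = 0) :
    ON (fun o : Option ι => o.elim t c) := by
  intro i j
  cases i with
  | none =>
    cases j with
    | none => simpa using ht
    | some j => simpa using htc j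
  | some i =>
    cases j with
    | none => simpa using herm_eq_zero_swap hF (htc i)
    | some j => simpa using hc i j

theorem on_two {a b : Fin n → F} (ha : hermForm n F 2 a a = 1) (hb : hermForm n F 2 b b = 1)
    (hab : hermForm n F 2 a b = 0) : ON ![a, b] := by
  have hba := herm_eq_zero_swap hF hab
  intro i j
  fin_cases i <;> fin_cases j <;> simp [ha, hb, hab, hba]

theorem on_three {a b c : Fin n → F} (ha : hermForm n F 2 a a = 1) (hb : hermForm n F 2 b b = 1)
    (hc : hermForm n F 2 c c = 1) (hab : hermForm n F 2 a b = 0) (hac : hermForm n F 2 a c = 0)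
    (hbc : hermForm n F 2 b c = 0) : ON ![a, b, c] := by
  have hba := herm_eq_zero_swap hF hab
  have hca := herm_eq_zero_swap hF hac
  have hcb := herm_eq_zero_swap hF hbc
  intro i j
  fin_cases i <;> fin_cases j <;> simp [ha, hb, hc, hab, hba, hac, hca, hbc, hcb]

/-- in the span of three orthonormal vectors there is a norm one vector orthogonal to `x` -/
theorem span_three {a b c : Fin n → F} (ha : hermForm n F 2 a a = 1)
    (hb : hermForm n F 2 b b = 1) (hc : hermForm n F 2 c c = 1) (hab : hermForm n F 2 a b = 0)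
    (hac : hermForm n F 2 a c = 0) (hbc : hermForm n F 2 b c = 0) (x : Fin n → F) :
    ∃ r s t : F, hermForm n F 2 (r • a + s • b + t • c) (r • a + s • b + t • c) = 1 ∧
      hermForm n F 2 (r • a + s • b + t • c) x = 0 := by
  obtain ⟨ω, hω⟩ := exists_omega hF
  have h2 := two_eq_zero hF
  have hba := herm_eq_zero_swap hF hab
  have hca := herm_eq_zero_swap hF hac
  have hcb := herm_eq_zero_swap hF hbc
  by_cases h1 : hermForm n F 2 a x = 0
  · refine ⟨1, 0, 0, ?_, ?_⟩
    · simp [ha]
    · simp [h1]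
  by_cases h3 : hermForm n F 2 b x = 0
  · refine ⟨0, 1, 0, ?_, ?_⟩
    · simp [hb]
    · simp [h3]
  by_cases h4 : hermForm n F 2 c x = 0
  · refine ⟨0, 0, 1, ?_, ?_⟩
    · simp [hc]
    · simp [h4]
  have k1 := pow_three hF h1
  have k2 := pow_three hF h3
  have k3 := pow_three hF h4
  have hω0 : ω ≠ 0 := by rintro rfl; simp at hω
  have hω3 := pow_three hF hω0
  refine ⟨hermForm n F 2 a x ^ 2, ω * hermForm n F 2 b x ^ 2, ω ^ 2 * hermForm n F 2 c x ^ 2,
    ?_, ?_⟩
  · simp only [herm_add_left, herm_add_right hF, herm_smul_left, herm_smul_right, ha, hb, hc, hab,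
      hac, hbc, hba, hca, hcb]
    generalize hermForm n F 2 a x = p at *
    generalize hermForm n F 2 b x = q at *
    generalize hermForm n F 2 c x = r at *
    have e1 : p ^ 2 * (p ^ 2) ^ 2 = 1 := by
      calc p ^ 2 * (p ^ 2) ^ 2 = (p ^ 3) ^ 2 := by ring
        _ = 1 := by rw [k1, one_pow]
    have e2 : ω * q ^ 2 * (ω * q ^ 2) ^ 2 = 1 := by
      calc ω * q ^ 2 * (ω * q ^ 2) ^ 2 = ω ^ 3 * (q ^ 3) ^ 2 := by ring
        _ = 1 := by rw [k2, hω3]; ring
    have e3 : ω ^ 2 * r ^ 2 * (ω ^ 2 * r ^ 2) ^ 2 = 1 := by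
      calc ω ^ 2 * r ^ 2 * (ω ^ 2 * r ^ 2) ^ 2 = (ω ^ 3) ^ 2 * (r ^ 3) ^ 2 := by ring
        _ = 1 := by rw [k3, hω3]; ring
    linear_combination e1 + e2 + e3 + h2
  · simp only [herm_add_left, herm_smul_left]
    generalize hermForm n F 2 a x = p at *
    generalize hermForm n F 2 b x = q at *
    generalize hermForm n F 2 c x = r at *
    linear_combination k1 + ω * k2 + ω ^ 2 * k3 + hω

/-- extension of orthonormal families by a vector orthogonal to `x` -/
theorem P1 {ι : Type*} [Fintype ι] [DecidableEq ι] {c : ι → Fin n → F} (hc : ON c)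
    (hn : Fintype.card ι + 3 ≤ n) (x : Fin n → F) :
    ∃ t : Fin n → F, hermForm n F 2 t t = 1 ∧ (∀ i, hermForm n F 2 t (c i) = 0) ∧
      hermForm n F 2 t x = 0 := by
  obtain ⟨f1, h1, h1'⟩ := exists_norm_one hF c hc (by omega)
  have c1 := on_option hF hc h1 h1'
  obtain ⟨f2, h2, h2'⟩ := exists_norm_one hF _ c1 (by rw [Fintype.card_option]; omega)
  have c2 := on_option hF c1 h2 h2'
  obtain ⟨f3, h3, h3'⟩ := exists_norm_one hF _ c2 (by
    rw [Fintype.card_option, Fintype.card_option]; omega)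
  have h21 : hermForm n F 2 f2 f1 = 0 := h2' none
  have h32 : hermForm n F 2 f3 f2 = 0 := h3' none
  have h31 : hermForm n F 2 f3 f1 = 0 := h3' (some none)
  obtain ⟨r, s, t, hk1, hk2⟩ := span_three hF h3 h2 h1 h32 h31 h21 x
  refine ⟨_, hk1, ?_, hk2⟩
  intro i
  have g1 : hermForm n F 2 f1 (c i) = 0 := h1' i
  have g2 : hermForm n F 2 f2 (c i) = 0 := h2' (some i)
  have g3 : hermForm n F 2 f3 (c i) = 0 := h3' (some (some i))
  simp only [herm_add_left, herm_smul_left, g1, g2, g3, mul_zero, add_zero]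

/-- extension of orthonormal families by a vector orthogonal to `x`, `y` -/
theorem P2 {ι : Type*} [Fintype ι] [DecidableEq ι] {c : ι → Fin n → F} (hc : ON c)
    (hn : Fintype.card ι + 5 ≤ n) (x y : Fin n → F) :
    ∃ t : Fin n → F, hermForm n F 2 t t = 1 ∧ (∀ i, hermForm n F 2 t (c i) = 0) ∧
      hermForm n F 2 t x = 0 ∧ hermForm n F 2 t y = 0 := by
  obtain ⟨f1, h1, h1', h1x⟩ := P1 hF hc (by omega) x
  have c1 := on_option hF hc h1 h1'
  obtain ⟨f2, h2, h2', h2x⟩ := P1 hF c1 (by rw [Fintype.card_option]; omega) x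
  have c2 := on_option hF c1 h2 h2'
  obtain ⟨f3, h3, h3', h3x⟩ := P1 hF c2 (by
    rw [Fintype.card_option, Fintype.card_option]; omega) x
  have h21 : hermForm n F 2 f2 f1 = 0 := h2' none
  have h32 : hermForm n F 2 f3 f2 = 0 := h3' none
  have h31 : hermForm n F 2 f3 f1 = 0 := h3' (some none)
  obtain ⟨r, s, t, hk1, hk2⟩ := span_three hF h3 h2 h1 h32 h31 h21 y
  refine ⟨_, hk1, ?_, ?_, hk2⟩
  · intro i
    have g1 : hermForm n F 2 f1 (c i) = 0 := h1' i
    have g2 : hermForm n F 2 f2 (c i) = 0 := h2' (some i)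
    have g3 : hermForm n F 2 f3 (c i) = 0 := h3' (some (some i))
    simp only [herm_add_left, herm_smul_left, g1, g2, g3, mul_zero, add_zero]
  · simp only [herm_add_left, herm_smul_left, h1x, h2x, h3x, mul_zero, add_zero]

/-! ### The diagonal elements -/

variable {ω : F} (hω : ω ^ 2 + ω + 1 = 0)

omit hF in
theorem om_ne_zero {ω : F} (hω : ω ^ 2 + ω + 1 = 0) : ω ≠ 0 := by rintro rfl; simp at hω

theorem isoB {a b : Fin n → F} (ha : hermForm n F 2 a a = 1) (hb : hermForm n F 2 b b = 1)
    (hab : hermForm n F 2 a b = 0) {ω : F} (hω : ω ^ 2 + ω + 1 = 0) :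
    hermForm n F 2 (a + ω • b) (a + ω • b) = 0 :=
  iso_add hF ha (norm_smul hF (omega_cube hF hω) hb) (by rw [herm_smul_right, hab, mul_zero])

/-- the diagonal element with entries `ω` at `a` and `ω²` at `b` -/
def sg {ω : F} (hω : ω ^ 2 + ω + 1 = 0) {a b : Fin n → F} (ha : hermForm n F 2 a a = 1)
    (hb : hermForm n F 2 b b = 1) (hab : hermForm n F 2 a b = 0) : SU n F 2 :=
  T hF _ (iso_add hF ha hb hab) * T hF _ (isoB hF ha hb hab hω)

variable {a b c d : Fin n → F} (ha : hermForm n F 2 a a = 1) (hb : hermForm n F 2 b b = 1)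
  (hc : hermForm n F 2 c c = 1) (hd : hermForm n F 2 d d = 1)
  (hab : hermForm n F 2 a b = 0) (hac : hermForm n F 2 a c = 0) (hbc : hermForm n F 2 b c = 0)

theorem act_sg (x : Fin n → F) : act (sg hF hω ha hb hab) x =
    x + (ω ^ 2 * hermForm n F 2 x a) • a + (ω * hermForm n F 2 x b) • b := by
  have h2 := two_eq_zero hF
  have hba := herm_eq_zero_swap hF hab
  have h3 := omega_cube hF hω
  unfold sg
  rw [act_mul]
  simp only [act_T, herm_add_left, herm_add_right hF, herm_smul_left, herm_smul_right, ha, hb, hab,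
    hba]
  funext i
  simp only [Pi.add_apply, Pi.smul_apply, smul_eq_mul]
  grind

theorem sg_comm_of {g : SU n F 2} {lam mu : F} (hl : lam ^ 3 = 1) (hm : mu ^ 3 = 1)
    (hga : act g a = lam • a) (hgb : act g b = mu • b) :
    g * sg hF hω ha hb hab = sg hF hω ha hb hab * g := by
  have key : ∀ (x w : Fin n → F) (r : F), r ^ 3 = 1 → act g w = r • w →
      hermForm n F 2 (act g x) w = r * hermForm n F 2 x w := by
    intro x w r hr hw
    have h1 : hermForm n F 2 (act g x) (act g w) = hermForm n F 2 x w := herm_act g x w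
    rw [hw, herm_smul_right] at h1
    rw [← h1]
    linear_combination -(hermForm n F 2 (act g x) w) * hr
  apply ext_act
  intro x
  rw [act_mul, act_mul, act_sg hF hω ha hb hab, act_sg hF hω ha hb hab, act_add, act_add,
    act_smul, act_smul, hga, hgb, key x a lam hl hga, key x b mu hm hgb, smul_smul, smul_smul]
  have e1 : ω ^ 2 * hermForm n F 2 x a * lam = ω ^ 2 * (lam * hermForm n F 2 x a) := by ring
  have e2 : ω * hermForm n F 2 x b * mu = ω * (mu * hermForm n F 2 x b) := by ring
  rw [e1, e2]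

theorem sg_conj (g : SU n F 2) (ha' : hermForm n F 2 (act g a) (act g a) = 1)
    (hb' : hermForm n F 2 (act g b) (act g b) = 1)
    (hab' : hermForm n F 2 (act g a) (act g b) = 0) :
    g * sg hF hω ha hb hab * g⁻¹ = sg hF hω ha' hb' hab' := by
  rw [mul_inv_eq_iff_eq_mul]
  apply ext_act
  intro x
  rw [act_mul, act_mul, act_sg hF hω ha hb hab, act_sg hF hω ha' hb' hab', act_add, act_add,
    act_smul, act_smul, herm_act, herm_act]

theorem sg_cube : sg hF hω ha hb hab * sg hF hω ha hb hab * sg hF hω ha hb hab = 1 := by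
  have h2 := two_eq_zero hF
  have hba := herm_eq_zero_swap hF hab
  have h3 := omega_cube hF hω
  apply ext_act
  intro x
  rw [act_mul, act_mul, act_one]
  simp only [act_sg hF hω ha hb hab, herm_add_left, herm_smul_left, ha, hb, hab, hba]
  funext i
  simp only [Pi.add_apply, Pi.smul_apply, smul_eq_mul]
  grind

theorem sg_mul (hba : hermForm n F 2 b a = 0) : sg hF hω ha hb hab * sg hF hω hb ha hba = 1 := by
  have h2 := two_eq_zero hF
  have h3 := omega_cube hF hω
  apply ext_act
  intro x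
  rw [act_mul, act_one]
  simp only [act_sg hF hω ha hb hab, act_sg hF hω hb ha hba, herm_add_left, herm_smul_left, ha, hb,
    hab, hba]
  funext i
  simp only [Pi.add_apply, Pi.smul_apply, smul_eq_mul]
  grind

/-- `s_ab s_bc = s_ac` -/
theorem sg_trans : sg hF hω ha hb hab * sg hF hω hb hc hbc = sg hF hω ha hc hac := by
  have h2 := two_eq_zero hF
  have hba := herm_eq_zero_swap hF hab
  have hca := herm_eq_zero_swap hF hac
  have hcb := herm_eq_zero_swap hF hbc
  have h3 := omega_cube hF hω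
  apply ext_act
  intro x
  rw [act_mul]
  simp only [act_sg hF hω ha hb hab, act_sg hF hω hb hc hbc, act_sg hF hω ha hc hac,
    herm_add_left, herm_smul_left, ha, hb, hc, hab, hba, hac, hca, hbc, hcb]
  funext i
  simp only [Pi.add_apply, Pi.smul_apply, smul_eq_mul]
  grind

theorem sg_left : act (sg hF hω ha hb hab) a = ω • a := by
  rw [act_sg hF hω ha hb hab, ha, hab, mul_zero, zero_smul, add_zero, mul_one]
  have h2 := two_eq_zero hF
  funext i
  simp only [Pi.add_apply, Pi.smul_apply, smul_eq_mul]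
  grind

theorem sg_right : act (sg hF hω ha hb hab) b = ω ^ 2 • b := by
  rw [act_sg hF hω ha hb hab, hb, herm_eq_zero_swap hF hab, mul_zero, zero_smul, add_zero, mul_one]
  have h2 := two_eq_zero hF
  funext i
  simp only [Pi.add_apply, Pi.smul_apply, smul_eq_mul]
  grind

theorem sg_perp {x : Fin n → F} (hxa : hermForm n F 2 x a = 0) (hxb : hermForm n F 2 x b = 0) :
    act (sg hF hω ha hb hab) x = x := by
  rw [act_sg hF hω ha hb hab, hxa, hxb, mul_zero, mul_zero, zero_smul, zero_smul, add_zero,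
    add_zero]

end Cfsg.Agent.H893.SGeo
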